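import Cfsg.Agent.H23.Bridge2

/-! Stabilisers of decompositions; pairs of complementary totally singular subspaces. -/

set_option autoImplicit false

namespace H23

open Module H22 Cfsg Cfsg.Geo Matrix

section Dec

variable {F V : Type*} [Field F] [AddCommGroup V] [Module F V]

/-- The stabiliser of a family of subspaces. -/
def decL {ι : Type*} (D : ι → Submodule F V) : Subgroup (V ≃ₗ[F] V) where
  carrier := {g | ∃ π : Equiv.Perm ι, ∀ i, (D i).map g.toLinearMap = D (π i)}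
  mul_mem' {a b} := by
    rintro ⟨π, hπ⟩ ⟨τ, hτ⟩
    refine ⟨π * τ, fun i => ?_⟩
    change (D i).map (a.toLinearMap ∘ₗ b.toLinearMap) = _
    rw [Submodule.map_comp, hτ, hπ]; rfl
  one_mem' := ⟨1, fun i => Submodule.map_id _⟩
  inv_mem' {a} := by
    rintro ⟨π, hπ⟩
    refine ⟨π⁻¹, fun i => ?_⟩
    obtain ⟨i, rfl⟩ := π.surjective i
    change (D (π i)).map a.symm.toLinearMap = _
    rw [← hπ, ← Submodule.map_comp]
    simp

theorem mem_decL {ι : Type*} {D : ι → Submodule F V} {g : V ≃ₗ[F] V} :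
    g ∈ decL D ↔ ∃ π : Equiv.Perm ι, ∀ i, (D i).map g.toLinearMap = D (π i) := Iff.rfl

theorem mem_decL_of_stab {ι : Type*} {D : ι → Submodule F V} {g : V ≃ₗ[F] V}
    (h : ∀ i, g ∈ stabL (D i)) : g ∈ decL D := ⟨1, h⟩

theorem mem_decL_two {D : Fin 2 → Submodule F V} {g : V ≃ₗ[F] V} : g ∈ decL D ↔
    ((D 0).map g.toLinearMap = D 0 ∧ (D 1).map g.toLinearMap = D 1) ∨
    ((D 0).map g.toLinearMap = D 1 ∧ (D 1).map g.toLinearMap = D 0) := by
  constructor
  · rintro ⟨π, hπ⟩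
    have : π = 1 ∨ π = Equiv.swap 0 1 := by clear hπ; revert π; decide
    rcases this with rfl | rfl
    · exact Or.inl ⟨hπ 0, hπ 1⟩
    · exact Or.inr ⟨hπ 0, hπ 1⟩
  · rintro (h | h)
    · exact ⟨1, Fin.forall_fin_two.2 h⟩
    · exact ⟨Equiv.swap 0 1, Fin.forall_fin_two.2 h⟩

theorem map_eq_of_le [FiniteDimensional F V] {A B : Submodule F V} {g : V ≃ₗ[F] V}
    (h : A.map g.toLinearMap ≤ B) (hd : finrank F B ≤ finrank F A) : A.map g.toLinearMap = B :=
  Submodule.eq_of_le_of_finrank_le h (by rwa [LinearEquiv.finrank_map_eq])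

theorem mem_decL_of_le [FiniteDimensional F V] {ι : Type*} [Finite ι] {D : ι → Submodule F V}
    {m : ℕ} (hm : ∀ i, finrank F (D i) = m) (hD : Function.Injective D) {g : V ≃ₗ[F] V}
    (h : ∀ i, ∃ j, (D i).map g.toLinearMap ≤ D j) : g ∈ decL D := by
  choose π hπ using h
  have h1 : ∀ i, (D i).map g.toLinearMap = D (π i) := fun i =>
    map_eq_of_le (hπ i) (by rw [hm, hm])
  have h2 : Function.Injective π := fun i j hij => hD (Submodule.map_injective_of_injective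
    (f := g.toLinearMap) g.injective (by rw [h1, h1, hij]))
  exact ⟨Equiv.ofBijective π (Finite.injective_iff_bijective.1 h2), h1⟩

theorem le_or_le_of_forall {S A B : Submodule F V} (h : ∀ x ∈ S, x ∈ A ∨ x ∈ B) :
    S ≤ A ∨ S ≤ B := by
  by_contra! hc
  obtain ⟨a, ha, ha'⟩ := SetLike.not_le_iff_exists.1 hc.1
  obtain ⟨b, hb, hb'⟩ := SetLike.not_le_iff_exists.1 hc.2
  rcases h _ (S.add_mem ha hb) with h1 | h1
  · exact ha' (by simpa using A.sub_mem h1 ((h b hb).resolve_right hb'))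
  · exact hb' (by simpa using B.sub_mem h1 ((h a ha).resolve_left ha'))

theorem mem_decompositionStabilizer_iff {ι : Type} [Fintype ι] [DecidableEq ι] {t : ℕ}
    {D : Fin t → Submodule F (ι → F)} {g : GL ι F} :
    g ∈ decompositionStabilizer D ↔ glE ι F g ∈ decL D := Iff.rfl

theorem isCompl_of_isMDecomposition {ι : Type} {m : ℕ} {D : Fin 2 → Submodule F (ι → F)}
    (h : IsMDecomposition m D) : IsCompl (D 0) (D 1) :=
  ⟨h.indep.pairwiseDisjoint (by simp : (0 : Fin 2) ≠ 1), by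
    rw [codisjoint_iff, ← top_le_iff, ← h.iSup_eq_top, iSup_le_iff]
    exact Fin.forall_fin_two.2 ⟨le_sup_left, le_sup_right⟩⟩

end Dec

namespace Form

variable {F V : Type*} [Field F] {σ : F →+* F} [AddCommGroup V] [Module F V] (Φ : Form σ V)

/-- `H` contains some Eichler transformation with data `u, e`. -/
def BIn (H : Subgroup (V ≃ₗ[F] V)) (u e : V) : Prop := ∃ s, EichData Φ u e s ∧ Φ.EIn H u e s

/-- the transvections are commutators of Eichler transformations -/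
def CommTr : Prop := ∀ s, s + Φ.ε * σ s = 0 → Φ.κ * s = 0 → ∃ c, s = c - Φ.ε * σ c

variable {Φ} {H K : Subgroup (V ≃ₗ[F] V)} {u e e' : V}

theorem BIn.perp (h : Φ.BIn H u e) : Φ.B u e = 0 := h.choose_spec.1.perp

theorem BIn.mono (h : Φ.BIn H u e) (hHK : H ≤ K) : Φ.BIn K u e :=
  let ⟨s, h1, h2⟩ := h; ⟨s, h1, h2.mono hHK⟩

theorem BIn.add (h : Φ.BIn H u e) (h' : Φ.BIn H u e') : Φ.BIn H u (e + e') :=
  let ⟨_, h1, h2⟩ := h
  let ⟨_, h3, h4⟩ := h'
  ⟨_, h1.add h3, h2.add h4 h1.sing.1 h1.perp h3.perp⟩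

theorem BIn.neg (h : Φ.BIn H u e) : Φ.BIn H u (-e) :=
  let ⟨_, h1, h2⟩ := h; ⟨_, h1.neg, h2.neg h1.sing.1 h1.perp⟩

theorem BIn.sub (h : Φ.BIn H u e) (h' : Φ.BIn H u e') : Φ.BIn H u (e - e') := by
  simpa [sub_eq_add_neg] using h.add h'.neg

theorem BIn.conj (h : Φ.BIn H u e) {g : V ≃ₗ[F] V} (hg : g ∈ H) (hO : g ∈ Φ.O) :
    Φ.BIn H (g u) (g e) :=
  let ⟨s, h1, h2⟩ := h; ⟨s, h1.mapO hO, h2.conj hg hO⟩

theorem bIn_zero (hu : Sing Φ u) : Φ.BIn H u 0 :=
  ⟨0, ⟨hu, by simp, by simp, by simp⟩, eIn_zero H u⟩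

theorem AIn.bIn (hu : Sing Φ u) (h : Φ.AIn H u e) : Φ.BIn H u e :=
  let ⟨s, hs⟩ := exists_eichData hu h.1; ⟨s, hs, h.2 s hs⟩

theorem BIn.aIn (h0 : Φ.AIn H u 0) (h : Φ.BIn H u e) : Φ.AIn H u e :=
  let ⟨_, h1, h2⟩ := h; h0.of_eIn h1 h2

theorem BIn.add_smul (h : Φ.BIn H u e) (c : F) : Φ.BIn H u (e + c • u) := by
  obtain ⟨s, h1, h2⟩ := h
  refine ⟨s + c - Φ.ε * σ c, ?_, (eIn_add_smul c).2 (by convert h2 using 1; ring)⟩
  simpa [sub_eq_add_neg] using EichData.of_add_smul (e := e + c • u) (c := -c) (by simpa using h1)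

theorem BIn.of_smul_left {c : F} (hu : Sing Φ u) (h : Φ.BIn H (c • u) e) :
    Φ.BIn H u (σ c • e) :=
  let ⟨_, h1, h2⟩ := h; ⟨_, h1.of_smul_left hu, (eIn_smul_left c).1 h2⟩

theorem BIn.eichler {x y : V} {s : F} (h : Φ.BIn H u e)
    (hs : EichData Φ x y s) (hT : Φ.EIn H x y s) (hx : Φ.B x u = 0) (hy : Φ.B y u = 0) :
    Φ.BIn H u ((Φ.B y e - σ s * Φ.B x e) • x - (σ Φ.ε * Φ.B x e) • y) := by
  obtain ⟨g, hg, h1⟩ := hT
  have h2 := h.conj hg (mem_O_of_eich hs h1)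
  rw [h1, h1, eichler_apply, eichler_apply, hx, hy] at h2
  convert BIn.sub (by simpa using h2) h using 1
  module

theorem BIn.comm (h : Φ.BIn H u e) (h' : Φ.BIn H u e') :
    Φ.EIn H u 0 (Φ.B e' e - Φ.B e e') := by
  obtain ⟨s, h1, h2⟩ := h
  obtain ⟨s', h3, h4⟩ := h'
  have h5 := (h2.add h4 h1.sing.1 h1.perp h3.perp).add
    ((h4.add h2 h1.sing.1 h3.perp h1.perp).neg h1.sing.1 (h3.add h1).perp) h1.sing.1
    (h1.add h3).perp (by simp [h1.perp, h3.perp])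
  convert h5 using 1
  · abel
  · simp only [map_add, map_neg, LinearMap.add_apply, LinearMap.neg_apply]; ring

theorem qIn_of_bIn [FiniteDimensional F V] (hΦ : Φ.Nondeg) (hC : Φ.CommTr) (hV : 3 ≤ finrank F V)
    (h : ∀ e, Φ.B u e = 0 → Φ.BIn H u e) : Φ.QIn H u := by
  obtain ⟨a, ha, b, hb, hab⟩ : ∃ a ∈ Φ.perp (F ∙ u), ∃ b ∈ Φ.perp (F ∙ u), Φ.B a b ≠ 0 := by
    by_contra! hc
    have h1 : Φ.perp (F ∙ u) ≤ Φ.perp (Φ.perp (F ∙ u)) := fun b hb a ha => hc a ha b hb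
    rw [hΦ.perp_perp] at h1
    have h2 := Submodule.finrank_mono h1
    have h3 := hΦ.finrank_perp_add (F ∙ u)
    have e4 := finrank_span_le_card (R := F) ({u} : Set V)
    simp at e4
    omega
  rw [mem_perp_span_singleton] at ha hb
  have h0 : Φ.AIn H u 0 := ⟨by simp, fun s hs => by
    obtain ⟨c, rfl⟩ := hC s (by simpa using hs.trB.symm) (by simpa using hs.trQ)
    have := (h ((c / Φ.B a b) • b) (by simp [hb])).comm (h a ha)
    rwa [Φ.symm a, B_smul_right, div_mul_cancel₀ _ hab] at this⟩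
  exact qIn_iff.2 fun e he => (h e he).aIn h0

theorem commTr_quad (hκ : Φ.κ = 1) : Φ.CommTr := fun s _ h => ⟨0, by simpa [hκ] using h⟩

theorem commTr_of_exists (h : ∃ t : F, t + σ t = 1) : Φ.CommTr := fun s h1 _ => by
  obtain ⟨t, ht⟩ := h
  exact ⟨t * s, by rw [map_mul]; linear_combination -s * ht + σ t * h1⟩

theorem commTr_herm (hσ : σ ≠ RingHom.id F) : Φ.CommTr :=
  commTr_of_exists (exists_add_conj_eq_one hσ Φ.invol)

theorem commTr_of_two_ne_zero (h2 : (2 : F) ≠ 0) : Φ.CommTr :=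
  commTr_of_exists ⟨2⁻¹, by rw [map_inv₀, map_ofNat]; field_simp; norm_num⟩

theorem Nondeg.exists_perp_notMem [FiniteDimensional F V] (hΦ : Φ.Nondeg)
    {T S : Submodule F V} (l : List V) (h : l.length + finrank F S < finrank F T) :
    ∃ z ∈ T, z ∉ S ∧ ∀ x ∈ l, Φ.B x z = 0 := by
  have h1 := hΦ.finrank_le_inf_perp T (Submodule.span F {x | x ∈ l})
  have h2 := finrank_span_list_le (F := F) l
  obtain ⟨z, hz, h3⟩ := SetLike.not_le_iff_exists.1
    fun h : T ⊓ Φ.perp (Submodule.span F {x | x ∈ l}) ≤ S => by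
      have := Submodule.finrank_mono h
      omega
  exact ⟨z, hz.1, h3, Φ.mem_perp_span.1 hz.2⟩

theorem TotSing.sing {A : Submodule F V} (hA : Φ.TotSing A) (hu : u ∈ A) : Sing Φ u :=
  ⟨hA.1 u hu u hu, hA.2 u hu⟩

theorem eichData_zero (hu : Sing Φ u) (he : Sing Φ e) (h : Φ.B u e = 0) : EichData Φ u e 0 :=
  ⟨hu, h, by simp [he.1], by simp [he.2]⟩

theorem notMem_sup_of_isCompl {A B S : Submodule F V} (h : Disjoint A B) (hS : S ≤ A) {x : V}
    (hx : x ∈ A) (hxS : x ∉ S) : x ∉ B ⊔ S := fun h1 => by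
  obtain ⟨b, hb, s, hs, rfl⟩ := Submodule.mem_sup.1 h1
  have := Submodule.disjoint_def.1 h b (by simpa using A.sub_mem hx (hS hs)) hb
  exact hxS (by simpa [this] using hs)

section Pair

variable [FiniteDimensional F V] (hΦ : Φ.Nondeg) {A B : Submodule F V} (hA : Φ.TotSing A)
  (hB : Φ.TotSing B) (hc : IsCompl A B)
include hΦ hA hB hc

theorem finrank_eq_of_tsPair : finrank F V = 2 * finrank F A := by
  have h1 := hΦ.two_mul_finrank_le hA
  have h2 := hΦ.two_mul_finrank_le hB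
  have h3 := Submodule.finrank_add_eq_of_isCompl hc
  omega

theorem eIn_pair (hu : u ∈ A) (he : e ∈ B) (h : Φ.B u e = 0) :
    Φ.EIn (stabL A ⊓ stabL B ⊓ Φ.E) u e 0 :=
  eIn_inf hΦ (eichData_zero (hA.sing hu) (hB.sing he) h) fun g hg =>
    ⟨mem_stabL_of_le.2 fun v hv => by
      simpa [hg, eichler_apply, hA.1 u hu v hv] using A.add_mem hv (A.smul_mem _ hu),
    mem_stabL_of_le.2 fun v hv => by
      rw [hg, eichler_apply, hB.1 e he v hv]
      simpa using B.add_mem hv (B.neg_mem (B.smul_mem _ he))⟩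

theorem exists_mem_pair {x : V} {S : Submodule F V} (hS : S ≤ A) (hx : x ∈ A) (hxS : x ∉ S) :
    ∃ e ∈ B, (∀ y ∈ S, Φ.B y e = 0) ∧ Φ.B x e = 1 :=
  exists_mem_perp_eq_one hΦ (by
    rw [hΦ.perp_eq_self hB (finrank_eq_of_tsPair hΦ hB hA hc.symm)]
    exact notMem_sup_of_isCompl hc.disjoint hS hx hxS)

theorem exists_tv_pair {w x : V} {S : Submodule F V} (hS : S ≤ A) (hw : w ∈ A) (hx : x ∈ S)
    (hwS : w ∉ S) : ∃ g ∈ stabL A ⊓ stabL B ⊓ Φ.E, g w = w + x ∧ ∀ y ∈ S, g y = y := by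
  obtain ⟨e, he, h1, h2⟩ := exists_mem_pair hΦ hA hB hc hS hw hwS
  obtain ⟨g, hg, h3⟩ := eIn_pair hΦ hA hB hc (hS hx) (B.smul_mem Φ.ε he) (by simp [h1 x hx])
  refine ⟨g, hg, ?_, fun y hy => ?_⟩
  · simp [h3, eichler_apply, hA.1 x (hS hx) w hw, B_smul_left, Φ.symm w e, h2, σε_mul]
  · simp [h3, eichler_apply, hA.1 x (hS hx) y (hS hy), B_smul_left, Φ.symm y e, h1 y hy]

theorem qIn_of_pair (hC : Φ.CommTr) (h3 : 3 ≤ finrank F A) (hH : stabL A ⊓ stabL B ⊓ Φ.E ≤ H)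
    {w : V} (hu : u ∈ A) (hu0 : u ≠ 0) (hw : w ∈ A) (hwu : w ∉ F ∙ u) (h : Φ.BIn H u w) :
    ∀ a ∈ A, Φ.QIn H a := by
  have hV := finrank_eq_of_tsPair hΦ hA hB hc
  have hsp : ∀ {a b : V}, a ∈ A → b ∈ A → (F ∙ a) ⊔ (F ∙ b) ≤ A := fun ha hb =>
    sup_le ((Submodule.span_singleton_le_iff_mem _ _).2 ha)
      ((Submodule.span_singleton_le_iff_mem _ _).2 hb)
  have h1 : ∀ x ∈ A, x ∉ (F ∙ u) ⊔ (F ∙ w) → Φ.BIn H u x := fun x hx hx' => by
    obtain ⟨g, hg, h4, h5⟩ := exists_tv_pair hΦ hA hB hc (hsp hu hx) hw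
      (Submodule.mem_sup_right (Submodule.mem_span_singleton_self x)) (notMem_sup_span_swap hwu hx')
    have := h.conj (hH hg) (E_le_O hg.2)
    rw [h4, h5 u (Submodule.mem_sup_left (Submodule.mem_span_singleton_self u))] at this
    simpa using this.sub h
  have h2 : ∀ x ∈ A, Φ.BIn H u x := fun x hx => by
    by_cases hx' : x ∈ (F ∙ u) ⊔ (F ∙ w)
    · obtain ⟨z, hz, hz'⟩ := SetLike.not_le_iff_exists.1 fun h : A ≤ (F ∙ u) ⊔ (F ∙ w) => by
        have := Submodule.finrank_mono h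
        rw [← Submodule.span_union, Set.singleton_union] at this
        have := finrank_span_pair_le (F := F) u w
        omega
      simpa using (h1 (x + z) (A.add_mem hx hz) fun h => hz' (by
        simpa using Submodule.sub_mem _ h hx')).sub (h1 z hz hz')
    · exact h1 x hx hx'
  have hQ : Φ.QIn H u := qIn_of_bIn hΦ hC (by omega) fun e he => by
    obtain ⟨a, ha, b, hb, rfl⟩ := Submodule.mem_sup.1 (hc.sup_eq_top ▸ Submodule.mem_top : e ∈ A ⊔ B)
    have hb' : Φ.B u b = 0 := by simpa [hA.1 u hu a ha] using he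
    exact (h2 a ha).add ⟨0, eichData_zero (hA.sing hu) (hB.sing hb) hb',
      (eIn_pair hΦ hA hB hc hu hb hb').mono hH⟩
  intro a ha
  by_cases hau : a ∈ F ∙ u
  · obtain ⟨c, rfl⟩ := Submodule.mem_span_singleton.1 hau
    exact hQ.smul (hA.sing hu) c
  · obtain ⟨g, hg, h4, -⟩ := exists_tv_pair hΦ hA hB hc (S := F ∙ (a - u))
      ((Submodule.span_singleton_le_iff_mem _ _).2 (A.sub_mem ha hu)) hu
      (Submodule.mem_span_singleton_self _) (by
        simpa using notMem_sup_span_swap (S := ⊥) hu0 (b := a - u) fun h => hau (by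
          simpa using Submodule.add_mem _ h (Submodule.mem_sup_right
            (Submodule.mem_span_singleton_self u))))
    simpa [h4] using hQ.conj (hH hg) (E_le_O hg.2)

theorem mem_span_of_pair (h5 : 5 ≤ finrank F A) (hH : stabL A ⊓ stabL B ⊓ Φ.E ≤ H)
    (h : ∀ u ∈ A, u ≠ 0 → ∀ w ∈ A, Φ.BIn H u w → w ∈ F ∙ u) {a b a' b' : V} {s : F} (ha : a ∈ A)
    (hb : b ∈ B) (ha' : a' ∈ A) (hb' : b' ∈ B) (ha0 : a ≠ 0) (hs : EichData Φ (a + b) (a' + b') s)
    (hT : Φ.EIn H (a + b) (a' + b') s) : a' ∈ F ∙ a := by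
  have e2 := finrank_span_pair_le (F := F) a a'
  obtain ⟨u, hu, hu1, hu2⟩ := hΦ.exists_perp_notMem (T := A) (S := Submodule.span F {a, a'})
    [a + b, a' + b'] (by simp; omega)
  have hu0 : u ≠ 0 := by rintro rfl; simp at hu1
  obtain ⟨e, he, h1, h2⟩ := exists_mem_pair hΦ hA hB hc (S := F ∙ u)
    ((Submodule.span_singleton_le_iff_mem _ _).2 hu) ha (by
      simpa using notMem_sup_span_swap (S := ⊥) ha0 (b := u) fun h => hu1
        (Submodule.span_mono (by simp) (bot_sup_eq (F ∙ a) ▸ h)))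
  have hBI : ∀ e ∈ B, Φ.B u e = 0 → Φ.BIn H u e := fun e he h1 =>
    ⟨0, eichData_zero (hA.sing hu) (hB.sing he) h1, (eIn_pair hΦ hA hB hc hu he h1).mono hH⟩
  have h3 := (hBI e he (h1 u (Submodule.mem_span_singleton_self u))).eichler hs hT
    (hu2 _ (by simp)) (hu2 _ (by simp))
  have h4 : Φ.B (a + b) e = 1 := by simp [h2, hB.1 b hb e he]
  rw [h4, mul_one, mul_one] at h3
  set c := Φ.B (a' + b') e - σ s
  have h6 := h3.sub (hBI (c • b - σ Φ.ε • b') (B.sub_mem (B.smul_mem _ hb) (B.smul_mem _ hb')) (by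
    have h4 := Φ.B_eq_zero_symm (hu2 (a + b) (by simp))
    have h5 := Φ.B_eq_zero_symm (hu2 (a' + b') (by simp))
    rw [map_add, hA.1 u hu _ ha, zero_add] at h4
    rw [map_add, hA.1 u hu _ ha', zero_add] at h5
    simp [h4, h5]))
  rw [show c • (a + b) - σ Φ.ε • (a' + b') - (c • b - σ Φ.ε • b') = c • a - σ Φ.ε • a' by module]
    at h6
  obtain ⟨d, hd⟩ := Submodule.mem_span_singleton.1
    (h u hu hu0 _ (A.sub_mem (A.smul_mem _ ha) (A.smul_mem _ ha')) h6)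
  have hd0 : d = 0 := by
    by_contra hd0
    exact hu1 ((Submodule.smul_mem_iff _ hd0).1 (hd ▸ Submodule.mem_span_pair.2
      ⟨c, -σ Φ.ε, by module⟩))
  rw [hd0, zero_smul, eq_comm, sub_eq_zero] at hd
  exact Submodule.mem_span_singleton.2 ⟨Φ.ε * c, by rw [mul_smul, hd, smul_smul, Φ.eps, one_smul]⟩

theorem exists_not_mem_pair (h2 : 2 ≤ finrank F A) : ∃ g ∈ stabL A ⊓ Φ.E,
    ¬ B.map g.toLinearMap ≤ A ∧ ¬ B.map g.toLinearMap ≤ B := by
  obtain ⟨u, hu, hu0⟩ := (Submodule.ne_bot_iff A).1 (by rintro rfl; simp at h2)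
  obtain ⟨e, he, heu⟩ := SetLike.not_le_iff_exists.1 fun h : A ≤ F ∙ u => by
    have := Submodule.finrank_mono h
    rw [finrank_span_singleton hu0] at this
    omega
  obtain ⟨f, hf, h3, h4⟩ := exists_mem_pair hΦ hA hB hc (S := F ∙ e)
    ((Submodule.span_singleton_le_iff_mem _ _).2 he) hu
    (by simpa using notMem_sup_span_swap (S := ⊥) hu0 (by simpa using heu))
  have hs := eichData_zero (hA.sing hu) (hA.sing he) (hA.1 u hu e he)
  obtain ⟨g, hg⟩ := exists_eich hΦ hs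
  have h5 : g f = f - σ Φ.ε • e := by
    simp [hg, eichler_apply, h4, h3 e (Submodule.mem_span_singleton_self e), sub_eq_add_neg]
  refine ⟨g, ⟨mem_stabL_of_le.2 fun v hv => ?_, mem_E hs hg⟩, fun h => ?_, fun h => ?_⟩
  · simpa [hg, eichler_apply, hA.1 u hu v hv, hA.1 e he v hv] using hv
  · have : f ∈ A := by simpa [h5] using A.add_mem (h ⟨f, hf, rfl⟩) (A.smul_mem (σ Φ.ε) he)
    simp [hA.1 u hu f this] at h4
  · have : e ∈ B := (B.smul_mem_iff σε_ne).1 (by simpa [h5] using B.sub_mem hf (h ⟨f, hf, rfl⟩))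
    exact heu (Submodule.disjoint_def.1 hc.disjoint e he this ▸ zero_mem _)

theorem exists_basis_pair {k : ℕ} (hk : finrank F A = k) : ∃ e f : Fin k → V,
    Submodule.span F (Set.range e) = A ∧ Submodule.span F (Set.range f) = B ∧
      ∀ i j, Φ.B (e i) (f j) = if i = j then 1 else 0 := by
  let c := Module.finBasisOfFinrankEq F A hk
  have hli : LinearIndependent F (fun i => (c i : V)) :=
    c.linearIndependent.map' A.subtype (Submodule.ker_subtype A)
  have hsp : Submodule.span F (Set.range fun i => (c i : V)) = A := by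
    have : (Set.range fun i => (c i : V)) = A.subtype '' Set.range c := by ext; simp
    rw [this, Submodule.span_image, c.span_eq]; simp
  have : ∀ j, ∃ f ∈ B, ∀ i, Φ.B (c i) f = if i = j then 1 else 0 := fun j => by
    obtain ⟨x, hx⟩ := hΦ.exists_prescribed' hli fun i => if i = j then 1 else 0
    obtain ⟨a, ha, b, hb, rfl⟩ := Submodule.mem_sup.1 (hc.sup_eq_top ▸ Submodule.mem_top : x ∈ A ⊔ B)
    exact ⟨b, hb, fun i => by simpa [hA.1 _ (c i).2 a ha] using hx i⟩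
  choose f h1 h2 using this
  refine ⟨_, f, hsp, Submodule.eq_of_le_of_finrank_eq (Submodule.span_le.2 ?_) ?_,
    fun i j => h2 j i⟩
  · rintro _ ⟨i, rfl⟩; exact h1 i
  · rw [finrank_span_eq_card (linearIndependent_of_dual (Φ := Φ) (w := fun i => (c i : V))
      (fun i j hij => by simp [h2, hij]) fun i => by simp [h2])]
    have e1 := finrank_eq_of_tsPair hΦ hA hB hc
    have e2 := finrank_eq_of_tsPair hΦ hB hA hc.symm
    simp; omega

theorem exists_swap_pair (P : ℕ → (V ≃ₗ[F] V) → Prop) (h0 : P 0 1)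
    (hP : ∀ e f n g, Hyp Φ e f → P n g → ∃ w : V ≃ₗ[F] V, P (n + 1) (w * g) ∧ w e ∈ F ∙ f ∧
      w f ∈ F ∙ e ∧ ∀ x, Φ.B e x = 0 → Φ.B f x = 0 → w x = x) :
    ∃ g, P (finrank F A) g ∧ A.map g.toLinearMap = B ∧ B.map g.toLinearMap = A := by
  obtain ⟨e, f, h1, h2, h3⟩ := exists_basis_pair hΦ hA hB hc rfl
  have he : ∀ i, e i ∈ A := fun i => h1 ▸ Submodule.subset_span ⟨i, rfl⟩
  have hf : ∀ i, f i ∈ B := fun i => h2 ▸ Submodule.subset_span ⟨i, rfl⟩
  have key : ∀ s : Finset (Fin (finrank F A)), ∃ g, P s.card g ∧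
      (∀ i ∈ s, g (e i) ∈ F ∙ f i ∧ g (f i) ∈ F ∙ e i) ∧
      ∀ i ∉ s, g (e i) = e i ∧ g (f i) = f i := by
    intro s
    induction s using Finset.induction_on with
    | empty => exact ⟨1, h0, by simp, by simp⟩
    | insert j s hj ih =>
      obtain ⟨g, hg, h4, h5⟩ := ih
      obtain ⟨w, hw, h6, h7, h8⟩ := hP (e j) (f j) _ g
        ⟨hA.sing (he j), hB.sing (hf j), by simp [h3]⟩ hg
      have h9 : ∀ i, i ≠ j → w (e i) = e i ∧ w (f i) = f i := fun i hi =>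
        ⟨h8 _ (hA.1 _ (he j) _ (he i)) (Φ.B_eq_zero_symm (by simp [h3, hi])),
          h8 _ (by simp [h3, hi.symm]) (hB.1 _ (hf j) _ (hf i))⟩
      refine ⟨w * g, by rwa [Finset.card_insert_of_notMem hj], fun i hi => ?_, fun i hi => ?_⟩
      · rcases Finset.mem_insert.1 hi with rfl | hi
        · simp [h5 i hj, h6, h7]
        · have hij : i ≠ j := fun h => hj (h ▸ hi)
          obtain ⟨c, hc⟩ := Submodule.mem_span_singleton.1 (h4 i hi).1
          obtain ⟨d, hd⟩ := Submodule.mem_span_singleton.1 (h4 i hi).2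
          simp [← hc, ← hd, h9 i hij, Submodule.smul_mem, Submodule.mem_span_singleton_self]
      · simp only [Finset.mem_insert, not_or] at hi
        simp [h5 i hi.2, h9 i hi.1]
  obtain ⟨g, hg, h4, -⟩ := key Finset.univ
  have e1 := finrank_eq_of_tsPair hΦ hA hB hc
  have e2 := finrank_eq_of_tsPair hΦ hB hA hc.symm
  refine ⟨g, by simpa using hg, map_eq_of_le ?_ (by omega), map_eq_of_le ?_ (by omega)⟩
  · rw [← h1, Submodule.map_span_le]
    rintro _ ⟨i, rfl⟩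
    exact (Submodule.span_singleton_le_iff_mem _ _).2 (hf i) (h4 i (by simp)).1
  · rw [← h2, Submodule.map_span_le]
    rintro _ ⟨i, rfl⟩
    exact (Submodule.span_singleton_le_iff_mem _ _).2 (he i) (h4 i (by simp)).2

end Pair

theorem HasTv.exists_weyl [FiniteDimensional F V] (hΦ : Φ.Nondeg) (hT : Φ.HasTv) {f : V}
    (h : Hyp Φ e f) : ∃ w ∈ Φ.ED (Submodule.span F {e, f}), w e ∈ F ∙ f ∧ w f ∈ F ∙ e := by
  obtain ⟨s, h0, h1, h2⟩ := hT
  have hs : σ s ≠ 0 := (map_ne_zero σ).2 h0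
  have he : e ∈ Submodule.span F {e, f} := Submodule.subset_span (by simp)
  have hf : f ∈ Submodule.span F {e, f} := Submodule.subset_span (by simp)
  obtain ⟨a, ha, h3⟩ := eIn_ED hΦ he (zero_mem _) (s := s) ⟨h.left, by simp, by simp [h1], by simp [h2]⟩
  obtain ⟨b, hb, h4⟩ := eIn_ED hΦ hf (zero_mem _) (s := (σ s)⁻¹) ⟨h.right, by simp, by
    simp only [map_zero, map_inv₀, Φ.invol]; field_simp; linear_combination -h1, by
    simp only [Q_zero]; field_simp; rw [mul_zero]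
    exact (mul_eq_zero.1 h2).resolve_right h0⟩
  have h5 : s⁻¹ * Φ.ε * σ s = -1 := by field_simp; linear_combination h1
  refine ⟨a * b * a, mul_mem (mul_mem ha hb) ha, Submodule.mem_span_singleton.2 ⟨-(s⁻¹ * Φ.ε), ?_⟩,
    Submodule.mem_span_singleton.2 ⟨-σ s, ?_⟩⟩
  · simp only [LinearEquiv.mul_apply, h3, h4, eichler_apply, h.left.1, h.one, h.B_symm, map_add,
      B_smul_right, map_inv₀, Φ.invol, map_zero, LinearMap.zero_apply, smul_zero]
    match_scalars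
    · ring
    · linear_combination -h5
  · simp only [LinearEquiv.mul_apply, h3, h4, eichler_apply, h.left.1, h.right.1, h.one, h.B_symm,
      map_add, B_smul_right, map_inv₀, Φ.invol, map_zero, LinearMap.zero_apply, smul_zero]
    match_scalars
    · linear_combination σ s * h5
    · linear_combination -h5

theorem isMaximalIn_tsPair [FiniteDimensional F V] (hΦ : Φ.Nondeg) (hC : Φ.CommTr)
    {D : Fin 2 → Submodule F V} (hA : Φ.TotSing (D 0)) (hB : Φ.TotSing (D 1))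
    (hc : IsCompl (D 0) (D 1)) (h5 : 5 ≤ finrank F (D 0))
    (hsw : ∃ g ∈ Φ.E, (D 0).map g.toLinearMap = D 1 ∧ (D 1).map g.toLinearMap = D 0) :
    IsMaximalIn Φ.E (decL D ⊓ Φ.E) := by
  have e1 := finrank_eq_of_tsPair hΦ hA hB hc
  have e2 := finrank_eq_of_tsPair hΦ hB hA hc.symm
  refine isMaximalIn_of inf_le_right ?_ fun H hMH hHE g hg hgM => ?_
  · obtain ⟨g, hg, h1, h2⟩ := exists_not_mem_pair hΦ hA hB hc (by omega)
    exact ⟨g, hg.2, fun h => (mem_decL_two.1 h.1).elim (fun h => h2 h.2.le) fun h => h1 h.2.le⟩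
  have hH : stabL (D 0) ⊓ stabL (D 1) ⊓ Φ.E ≤ H := fun k hk =>
    hMH ⟨mem_decL_two.2 (Or.inl hk.1), hk.2⟩
  have hH' : stabL (D 1) ⊓ stabL (D 0) ⊓ Φ.E ≤ H := by rwa [inf_comm (stabL (D 1))]
  obtain ⟨r, hr, hr1, hr2⟩ := hsw
  have hrH : r ∈ H := hMH ⟨mem_decL_two.2 (Or.inr ⟨hr1, hr2⟩), hr⟩
  by_cases h : ∀ u ∈ D 0, u ≠ 0 → ∀ w ∈ D 0, Φ.BIn H u w → w ∈ F ∙ u
  swap
  · push Not at h
    obtain ⟨u, hu, hu0, w, hw, h1, h2⟩ := h
    have hQ := qIn_of_pair hΦ hA hB hc hC (by omega) hH hu hu0 hw h2 h1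
    have hru : r u ∈ D 1 := hr1 ▸ ⟨u, hu, rfl⟩
    obtain ⟨a, ha, -, h3⟩ := exists_mem_pair hΦ hB hA hc.symm bot_le hru (by simpa using hu0)
    exact E_le_of_qIn hΦ (hB.sing hru) (hA.sing ha) (by simp [h3])
      ((hQ u hu).conj hrH (E_le_O hr)) (hQ a ha)
  exfalso
  have h' : ∀ u ∈ D 1, u ≠ 0 → ∀ w ∈ D 1, Φ.BIn H u w → w ∈ F ∙ u := fun u hu hu0 w hw h1 => by
    obtain ⟨c, hc⟩ := Submodule.mem_span_singleton.1 (h (r u) (hr2 ▸ ⟨u, hu, rfl⟩)
      (by simpa using hu0) (r w) (hr2 ▸ ⟨w, hw, rfl⟩) (h1.conj hrH (E_le_O hr)))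
    exact Submodule.mem_span_singleton.2 ⟨c, r.injective (by simpa using hc)⟩
  have hO := E_le_O (hHE hg)
  have hdec : ∀ v, ∃ a ∈ D 0, ∃ b ∈ D 1, a + b = v := fun v =>
    Submodule.mem_sup.1 (hc.sup_eq_top ▸ Submodule.mem_top)
  have key : ∀ {A B : Submodule F V}, Φ.TotSing A → Φ.TotSing B → IsCompl A B →
      stabL A ⊓ stabL B ⊓ Φ.E ≤ H → 5 ≤ finrank F B → ∃ j, A.map g.toLinearMap ≤ D j := by
    intro A B hA' hB' hc' hH'' h5'
    suffices ∀ x ∈ A.map g.toLinearMap, x ∈ D 0 ∨ x ∈ D 1 from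
      (le_or_le_of_forall this).elim (fun h => ⟨0, h⟩) fun h => ⟨1, h⟩
    intro x hx
    by_contra! hc''
    obtain ⟨a, ha, b, hb, hab⟩ := hdec x
    have hb0 : b ≠ 0 := by rintro rfl; exact hc''.1 (by simpa [← hab] using ha)
    have ha0 : a ≠ 0 := by rintro rfl; exact hc''.2 (by simpa [← hab] using hb)
    suffices h : B.map g.toLinearMap ⊓ Φ.perp (F ∙ x) ≤ Submodule.span F {a, b} by
      have e1 := Submodule.finrank_mono h
      have e2 := finrank_span_pair_le (F := F) a b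
      have e3 := hΦ.finrank_le_inf_perp (B.map g.toLinearMap) (F ∙ x)
      have e4 := finrank_span_le_card (R := F) ({x} : Set V)
      rw [LinearEquiv.finrank_map_eq] at e3
      simp only [Set.toFinset_singleton, Finset.card_singleton] at e4
      omega
    rintro y ⟨hy, hxy⟩
    replace hxy := Φ.mem_perp_span_singleton.1 hxy
    have hT : EichData Φ x y 0 ∧ Φ.EIn H x y 0 := by
      obtain ⟨x, hx, rfl⟩ := hx
      obtain ⟨y, hy, rfl⟩ := hy
      have h1 : Φ.B x y = 0 := (hO.1 x y).symm.trans hxy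
      exact ⟨(eichData_zero (hA'.sing hx) (hB'.sing hy) h1).mapO hO,
        ((eIn_pair hΦ hA' hB' hc' hx hy h1).mono hH'').conj hg hO⟩
    obtain ⟨a', ha', b', hb', rfl⟩ := hdec y
    subst hab
    obtain ⟨c, rfl⟩ := Submodule.mem_span_singleton.1
      (mem_span_of_pair hΦ hA hB hc h5 hH h ha hb ha' hb' ha0 hT.1 hT.2)
    rw [add_comm a, add_comm (c • a)] at hT
    obtain ⟨d, rfl⟩ := Submodule.mem_span_singleton.1
      (mem_span_of_pair hΦ hB hA hc.symm (by omega) hH' h' hb ha hb' ha' hb0 hT.1 hT.2)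
    exact Submodule.mem_span_pair.2 ⟨c, d, rfl⟩
  refine hgM ⟨mem_decL_of_le (m := finrank F (D 0)) (Fin.forall_fin_two.2 ⟨rfl, by omega⟩) ?_
    (Fin.forall_fin_two.2 ⟨key hA hB hc hH (by omega), key hB hA hc.symm hH' h5⟩), hHE hg⟩
  have : D 0 ≠ D 1 := fun h => by
    have := hc.disjoint
    rw [← h, disjoint_self] at this
    rw [this, finrank_bot] at h5
    omega
  intro i j hij
  fin_cases i <;> fin_cases j <;> simp_all

theorem HasTv.exists_swap [FiniteDimensional F V] (hΦ : Φ.Nondeg) (hT : Φ.HasTv)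
    {A B : Submodule F V} (hA : Φ.TotSing A) (hB : Φ.TotSing B) (hc : IsCompl A B) :
    ∃ g ∈ Φ.E, A.map g.toLinearMap = B ∧ B.map g.toLinearMap = A :=
  exists_swap_pair hΦ hA hB hc (fun _ g => g ∈ Φ.E) (one_mem _) fun e f _ g h hg => by
    obtain ⟨w, hw, h1, h2⟩ := hT.exists_weyl hΦ h
    exact ⟨w, mul_mem (ED_le_E _ hw) hg, h1, h2, fun x h3 h4 => ED_fix hw (mem_perp_pair.2 ⟨h3, h4⟩)⟩

end Form

end H23
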