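import Cfsg.Agent.H23.Sm3

/-! Small fields coded by natural numbers, for fast kernel computations. -/

set_option autoImplicit false

namespace H23.Ex

open Matrix Module Cfsg Cfsg.Geo As

/-- Tables for addition, multiplication and conjugation. -/
structure Tb where
  Q : ℕ
  A : ℕ
  M : ℕ
  C : ℕ

namespace Tb

variable (t : Tb)

/-- Table lookup. -/
def lk (T x y : ℕ) : ℕ := Nat.land (Nat.shiftRight T
  (Nat.mul 5 (Nat.add (Nat.mul t.Q (Nat.mod x t.Q)) (Nat.mod y t.Q)))) 31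

/-- Addition. -/
def ad (x y : ℕ) : ℕ := t.lk t.A x y

/-- Multiplication. -/
def mu (x y : ℕ) : ℕ := t.lk t.M x y

/-- Conjugation. -/
def cj (x : ℕ) : ℕ := t.lk t.C 0 x

/-- Digits. -/
def dg (c i : ℕ) : ℕ := Nat.div c (Nat.pow t.Q i)

/-- Dot product. -/
def dot (n : ℕ) (f g : ℕ → ℕ) : ℕ := Nat.rec 0 (fun i a => t.ad a (t.mu (f i) (g i))) n

/-- The number with given digits. -/
def pack (n : ℕ) (f : ℕ → ℕ) : ℕ :=
  Nat.rec 0 (fun i a => Nat.add a (Nat.mul (f i) (Nat.pow t.Q i))) n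

/-- Matrix entries. -/
def en (n M i j : ℕ) : ℕ := t.dg M (Nat.add (Nat.mul n i) j)

/-- Matrix times vector. -/
def mv (n M c : ℕ) : ℕ := t.pack n fun i => t.dot n (t.en n M i) (t.dg c)

/-- The hermitian form. -/
def hh (n c c' : ℕ) : ℕ := t.dot n (t.dg c) fun j => t.cj (t.dg c' j)

/-- Matrix product. -/
def mm (n M N : ℕ) : ℕ :=
  t.pack (n * n) fun k => t.dot n (t.en n M (k / n)) fun j => t.en n N j (k % n)

/-- Gram matrix. -/
def gr (n M : ℕ) : ℕ :=
  t.pack (n * n) fun k => t.dot n (fun j => t.en n M j (k / n)) fun j => t.cj (t.en n M j (k % n))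

/-- Identity matrix. -/
def idm (n : ℕ) : ℕ := t.pack (n * n) fun k => if k / n = k % n then 1 else 0

/-- Trace. -/
def trc (n M : ℕ) : ℕ := t.dot n (fun i => t.en n M i i) fun _ => 1

end Tb

/-- Forces evaluation. -/
def force (c : ℕ) (k : ℕ → Bool) : Bool := Nat.casesOn c (k 0) fun m => k (Nat.succ m)

@[simp] theorem force_eq (c : ℕ) (k : ℕ → Bool) : force c k = k c := by cases c <;> rfl

/-- Bounded quantifier. -/
def allB (n : ℕ) (f : ℕ → Bool) : Bool := Nat.rec true (fun i a => f i && a) n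

theorem allB_iff {n : ℕ} {f : ℕ → Bool} : allB n f = true ↔ ∀ i < n, f i = true := by
  induction n with
  | zero => simp [allB]
  | succ n ih =>
    change (f n && allB n f) = true ↔ _
    rw [Bool.and_eq_true, ih, Nat.forall_lt_succ_right, and_comm]

/-- Bounded quantifier in two layers. -/
def all2 (a b : ℕ) (f : ℕ → Bool) : Bool :=
  allB a fun i => allB b fun j => force (Nat.add i (Nat.mul a j)) f

theorem of_all2 {a b : ℕ} {f : ℕ → Bool} (h : all2 a b f = true) {c : ℕ} (hc : c < a * b) :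
    f c = true := by
  have ha : 0 < a := Nat.pos_of_ne_zero (by rintro rfl; simp at hc)
  simpa [Nat.mod_add_div] using allB_iff.1 (allB_iff.1 h _ (Nat.mod_lt c ha)) (c / a)
    (Nat.div_lt_of_lt_mul hc)

variable {F : Type*} [Field F] {t : Tb} {σ : F →+* F} {d : ℕ → F}

/-- A coding of a field. -/
structure Cd (t : Tb) (σ : F →+* F) (d : ℕ → F) : Prop where
  two : 1 < t.Q
  mod : ∀ x, d (x % t.Q) = d x
  add' : ∀ x < t.Q, ∀ y < t.Q, t.ad x y < t.Q ∧ d (t.ad x y) = d x + d y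
  mul' : ∀ x < t.Q, ∀ y < t.Q, t.mu x y < t.Q ∧ d (t.mu x y) = d x * d y
  cj' : ∀ x < t.Q, t.cj x < t.Q ∧ d (t.cj x) = σ (d x)
  zero : d 0 = 0
  one : d 1 = 1
  inj : ∀ x < t.Q, ∀ y < t.Q, d x = d y → x = y
  surj : ∀ k, ∃ x < t.Q, d x = k

theorem Cd.map {K : Type*} [Field K] {τ : K →+* K} (h : Cd t σ d) (φ : F ≃+* K)
    (e : ∀ x, φ (σ x) = τ (φ x)) : Cd t τ (φ ∘ d) :=
  ⟨h.two, fun x => by simp [h.mod], fun x hx y hy => by simp [h.add' x hx y hy],
    fun x hx y hy => by simp [h.mul' x hx y hy], fun x hx => by simp [h.cj' x hx, e],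
    by simp [h.zero], by simp [h.one], fun x hx y hy e => h.inj x hx y hy (φ.injective e),
    fun k => (h.surj (φ.symm k)).imp fun x hx => ⟨hx.1, by simp [hx.2]⟩⟩

theorem lk_mod (T x y : ℕ) : t.lk T x y = t.lk T (x % t.Q) (y % t.Q) := by
  have : ∀ x, Nat.mod (x % t.Q) t.Q = Nat.mod x t.Q := fun x => Nat.mod_mod _ _
  simp only [Tb.lk, this]

theorem pack_succ (n : ℕ) (f : ℕ → ℕ) : t.pack (n + 1) f = t.pack n f + f n * t.Q ^ n := rfl

theorem pack_congr {n : ℕ} {f g : ℕ → ℕ} (h : ∀ i < n, f i = g i) : t.pack n f = t.pack n g := by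
  induction n with
  | zero => rfl
  | succ n ih => rw [pack_succ, pack_succ, h n (by omega), ih fun i hi => h i (by omega)]

theorem pack_lt {f : ℕ → ℕ} (h : ∀ i, f i < t.Q) (n : ℕ) : t.pack n f < t.Q ^ n := by
  induction n with
  | zero => exact Nat.one_pos
  | succ n ih =>
    rw [pack_succ, pow_succ]
    nlinarith [h n, Nat.mul_le_mul_right (t.Q ^ n) (Nat.succ_le_of_lt (h n))]

theorem dg_pack {f : ℕ → ℕ} (h : ∀ i, f i < t.Q) {n i : ℕ} (hi : i < n) :
    t.dg (t.pack n f) i % t.Q = f i := by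
  have h0 : 0 < t.Q ^ i := pow_pos (by have := h 0; omega) _
  change t.pack n f / t.Q ^ i % t.Q = _
  induction n with
  | zero => omega
  | succ n ih =>
    rw [pack_succ]
    obtain rfl | h1 := Nat.lt_succ_iff_lt_or_eq.1 hi |>.symm
    · rw [Nat.add_mul_div_right _ _ h0, Nat.div_eq_of_lt (pack_lt h _), zero_add,
        Nat.mod_eq_of_lt (h i)]
    · obtain ⟨k, rfl⟩ := Nat.exists_eq_add_of_lt h1
      rw [show f (i + k + 1) * t.Q ^ (i + k + 1) = t.Q * (f (i + k + 1) * t.Q ^ k) * t.Q ^ i by ring,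
        Nat.add_mul_div_right _ _ h0, Nat.add_mul_mod_self_left, ih h1]

variable (t d) in
/-- Decoding vectors. -/
def dv (n c : ℕ) : Fin n → F := fun i => d (t.dg c i)

variable (t d) in
/-- Decoding matrices. -/
def dm (n M : ℕ) : Matrix (Fin n) (Fin n) F := of fun i j => d (t.en n M i j)

namespace Cd

variable (h : Cd t σ d) {n : ℕ}
include h

theorem lt (x : ℕ) : x % t.Q < t.Q := Nat.mod_lt _ (by have := h.two; omega)

theorem ad_lt (x y : ℕ) : t.ad x y < t.Q := by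
  rw [Tb.ad, lk_mod]; exact (h.add' _ (h.lt x) _ (h.lt y)).1

theorem mu_lt (x y : ℕ) : t.mu x y < t.Q := by
  rw [Tb.mu, lk_mod]; exact (h.mul' _ (h.lt x) _ (h.lt y)).1

theorem ad (x y : ℕ) : d (t.ad x y) = d x + d y := by
  rw [Tb.ad, lk_mod, ← h.mod x, ← h.mod y]; exact (h.add' _ (h.lt x) _ (h.lt y)).2

theorem mu (x y : ℕ) : d (t.mu x y) = d x * d y := by
  rw [Tb.mu, lk_mod, ← h.mod x, ← h.mod y]; exact (h.mul' _ (h.lt x) _ (h.lt y)).2

theorem cj (x : ℕ) : d (t.cj x) = σ (d x) := by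
  rw [Tb.cj, lk_mod, ← h.mod x, Nat.zero_mod]; exact (h.cj' _ (h.lt x)).2

theorem dot_lt (n : ℕ) (f g : ℕ → ℕ) : t.dot n f g < t.Q := by
  cases n
  exacts [Nat.zero_lt_of_lt h.two, h.ad_lt _ _]

theorem dot (n : ℕ) (f g : ℕ → ℕ) : d (t.dot n f g) = ∑ i : Fin n, d (f i) * d (g i) := by
  induction n with
  | zero => exact h.zero
  | succ n ih =>
    rw [Fin.sum_univ_castSucc]; exact (h.ad _ _).trans (congrArg₂ _ ih (h.mu _ _))

theorem pack {f : ℕ → ℕ} (hf : ∀ i, f i < t.Q) {i : ℕ} (hi : i < n) :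
    d (t.dg (t.pack n f) i) = d (f i) := by rw [← h.mod, dg_pack hf hi]

theorem surjv (v : Fin n → F) : ∃ c < t.Q ^ n, dv t d n c = v := by
  choose x hx hx' using h.surj
  have h1 : ∀ i, (if hi : i < n then x (v ⟨i, hi⟩) else 0) < t.Q := fun i => by
    split_ifs
    exacts [hx _, Nat.zero_lt_of_lt h.two]
  exact ⟨_, pack_lt h1 n, funext fun i => (h.pack h1 i.2).trans (by simp [hx'])⟩

theorem mv (M c : ℕ) : dv t d n (t.mv n M c) = dm t d n M *ᵥ dv t d n c :=
  funext fun i => (h.pack (fun _ => h.dot_lt _ _ _) i.2).trans (h.dot _ _ _)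

theorem mv_eq {M c M' c' : ℕ} (e : dm t d n M *ᵥ dv t d n c = dm t d n M' *ᵥ dv t d n c') :
    t.mv n M c = t.mv n M' c' :=
  pack_congr fun i hi => h.inj _ (h.dot_lt _ _ _) _ (h.dot_lt _ _ _)
    (by rw [h.dot, h.dot]; exact congrFun e ⟨i, hi⟩)

theorem hh (c c' : ℕ) : d (t.hh n c c') = formOfGram σ 1 (dv t d n c) (dv t d n c') := by
  rw [fog_eq, one_mulVec, Tb.hh, h.dot]; simp only [h.cj]; rfl

theorem dm_pack {f : ℕ → ℕ} (hf : ∀ i, f i < t.Q) (i j : Fin n) :
    dm t d n (t.pack (n * n) f) i j = d (f (n * i + j)) :=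
  h.pack hf (show n * i + j < n * n by
    nlinarith [j.2, Nat.mul_le_mul_left n (Nat.succ_le_of_lt i.2)])

omit h in
theorem div_mod (i j : Fin n) : (n * i + j) / n = i ∧ (n * i + j) % n = j :=
  ⟨by rw [Nat.mul_add_div i.pos, Nat.div_eq_of_lt j.2, add_zero], by simp [Nat.mod_eq_of_lt j.2]⟩

theorem mm (M N : ℕ) : dm t d n (t.mm n M N) = dm t d n M * dm t d n N := by
  ext i j
  rw [Tb.mm, h.dm_pack fun _ => h.dot_lt _ _ _, h.dot, (div_mod i j).1, (div_mod i j).2]; rfl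

theorem gr (M : ℕ) : dm t d n (t.gr n M) = (dm t d n M)ᵀ * 1 * (dm t d n M).map σ := by
  ext i j
  rw [Tb.gr, h.dm_pack fun _ => h.dot_lt _ _ _, h.dot, (div_mod i j).1, (div_mod i j).2, mul_one]
  simp only [h.cj]; rfl

theorem idm : dm t d n (t.idm n) = 1 := by
  ext i j
  rw [Tb.idm, h.dm_pack fun _ => by have := h.two; split_ifs <;> omega, (div_mod i j).1,
    (div_mod i j).2, one_apply]
  simp [Fin.ext_iff, apply_ite d, h.one, h.zero]

theorem trc (M : ℕ) : d (t.trc n M) = (dm t d n M).trace := by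
  rw [Tb.trc, h.dot]; simp only [h.one, mul_one]; rfl

theorem uni {M : ℕ} (e : t.gr n M = t.idm n) :
    (dm t d n M)ᵀ * 1 * (dm t d n M).map σ = 1 := by rw [← h.gr, e, h.idm]

end Cd

/-! ### The three fields -/

instance fact_gf4 : Fact (∀ r : ZMod 2, r ^ 2 ≠ 1 + 1 * r) := ⟨by decide⟩

instance fact_gf25 : Fact (∀ r : ZMod 5, r ^ 2 ≠ 2 + 0 * r) := ⟨by decide⟩

instance fintypeQA {p : ℕ} [NeZero p] {a b : ZMod p} : Fintype (QuadraticAlgebra (ZMod p) a b) :=
  Fintype.ofEquiv _ (QuadraticAlgebra.equivProd a b).symm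

/-- Decoding. -/
def dk (p : ℕ) (a b : ZMod p) (x : ℕ) : QuadraticAlgebra (ZMod p) a b :=
  ⟨(x % (p * p) : ℕ), (x % (p * p) / p : ℕ)⟩

/-- The field with 4 elements. -/
def t4 : Tb := ⟨4,
  0x4430806210c0118820,
  0x1046008c401882000000,
  0x10c20⟩

/-- The field with 9 elements. -/
def t9 : Tb := ⟨9,
  0x41942011cc819480104c839483104083982011cc820ca0104c838ca410408398a419cc820ca1008c838ca400828398a418820,
  0x6094433910008d06110a70150221c233004620c283940311c262a08039028288c3010a33a0c11010731483104000000000000,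
  0x520d0730820⟩

/-- The field with 25 elements. -/
def t25 : Tb := ⟨25,
  0x128c1f36b16a720e62a46208097b56988c1f39316a734e62a50208083b5698bc1f39456a735862a5070808315698bd9f39460a7358b2a5073008310698bdab39460f7358b525073148310418bdab46b16a720e62a46208097b56989460f9b16a734e62a50208083b5698bc60f9c96a735862a5070808315698bda0f9ca2a7358b2a5073008310698bdaaf9ca307358b525073148310418bdab49ca307a0e62a46208097b56989460f9b58b538e62a50208083b5698bc60f9c98b539a62a5070808315698bda0f9ca2b539ac2a5073008310698bdaaf9ca30539ac5a5073148310418bdab49ca307b9ac5a86208097b56989460f9b58b539073152208083b5698bc60f9c98b539a7315280808315698bda0f9ca2b539ac315283808310698bdaaf9ca30539ac595283988310418bdab49ca307b9ac5a928398b7b56989460f9b58b539073152310404b5698bc60f9c98b539a731528104041d698bda0f9ca2b539ac315283840418a98bdaaf9ca30539ac595283980418838bdab49ca307b9ac5a928398a418820,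
  0xd9d0277d44875869540855c6e664b009d4656050a8e1afb10d4125723ba17050667458fb85243aa55860456a173b002574ad7119537e0675b2142212d8d407646c24ba7821970a850d95c6553e80785974e0b01346ea1a27911555d9130550f138b122ef30b6871aac9833069004ab9a70232882c82eb60ef1adb54c4088855812e89954b31b1e46d8ceb9e0076133236e890d963c44ba9a01550af059a4798732d589a2c5250628c40f77006f3e16e0c8b6a309041aea14e29ab409b2870a34333ac912dc4f455d23618051247a9a8e1c4502e1b7605e99a2cb040d558627b305245da39a70e23cb450094831071e1eb518579c9c50dab16a4051620d928e4a86ef625c61d2369ad005a454912cf69a2a407051d66cbc1c70456525d491da08155ee0d26d3e24c302f26a07582cc1c4dc925a2c38a8f514063a1255b1ae542329beb6be28110c806396d55b15bd0e9320b19c24f1102304a138bd0649cb7ae2d46adcc50c2410317b56939460f7358b525073148310400000000000000000000000000000000,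
  0x941cc57358b54e5183f17b568418820⟩

theorem exists_cd [Fintype F] {p : ℕ} [Fact p.Prime] (hF : Fintype.card F = p ^ 2) (a b : ZMod p)
    [Fact (∀ r : ZMod p, r ^ 2 ≠ a + b * r)] (hQ : t.Q = p * p)
    (h : (∀ x < t.Q, ∀ y < t.Q, (t.ad x y < t.Q ∧ dk p a b (t.ad x y) = dk p a b x + dk p a b y) ∧
      (t.mu x y < t.Q ∧ dk p a b (t.mu x y) = dk p a b x * dk p a b y) ∧
      (dk p a b x = dk p a b y → x = y)) ∧
      (∀ x < t.Q, t.cj x < t.Q ∧ dk p a b (t.cj x) = dk p a b x ^ p) ∧ dk p a b 0 = 0 ∧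
      dk p a b 1 = 1 ∧ ∀ k, ∃ x < t.Q, dk p a b x = k) : ∃ d, Cd t (conj hF) d := by
  have hK : Fintype.card (QuadraticAlgebra (ZMod p) a b) = p ^ 2 := by
    rw [Fintype.ofEquiv_card, Fintype.card_prod, ZMod.card, sq]
  have h2 := (Fact.out : p.Prime).two_le
  exact ⟨_, Cd.map (σ := conj hK) ⟨by nlinarith, fun x => by simp [dk, hQ],
    fun x hx y hy => (h.1 x hx y hy).1, fun x hx y hy => (h.1 x hx y hy).2.1, h.2.1, h.2.2.1,
    h.2.2.2.1, fun x hx y hy => (h.1 x hx y hy).2.2, h.2.2.2.2⟩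
    (FiniteField.ringEquivOfCardEq (hK.trans hF.symm)) fun x => map_pow _ x p⟩

theorem cd4 [Fintype F] (hF : Fintype.card F = 2 ^ 2) : ∃ d, Cd t4 (conj hF) d :=
  exists_cd hF 1 1 rfl (by decide +kernel)

theorem cd9 [Fintype F] (hF : Fintype.card F = 3 ^ 2) : ∃ d, Cd t9 (conj hF) d :=
  exists_cd hF (-1) 0 rfl (by decide +kernel)

instance fact_five : Fact (Nat.Prime 5) := ⟨by norm_num⟩

theorem cd25 [Fintype F] (hF : Fintype.card F = 5 ^ 2) : ∃ d, Cd t25 (conj hF) d :=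
  exists_cd hF 2 0 rfl (by decide +kernel)

end H23.Ex
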