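import Cfsg.Agent.H23.Ex4

/-! Data for the normaliser of `3^(1+2)` in `SU₃(5)`. -/

set_option autoImplicit false

namespace H23.Ex

open Matrix Module Cfsg Cfsg.Geo As

/-- The elements of the extraspecial group. -/
def RL : List ℕ := [
  152588281251, 2593998828126, 6103531875, 1831061328126, 73242213750, 103759953750, 253906275,
  103759788750, 6103713750, 410156550, 73242453750, 2939453550, 4267578150, 73242382500,
  361328550, 103760041875, 3095703150, 4160156550, 152594531262, 1831055078142, 6103788750,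
  3046875300, 4316406675, 2593994531262, 152592578142, 1831059375012, 2594000781267]

/-- An orbit of the overgroup. -/
def DL : List ℕ := [
  141, 144, 145, 291, 294, 295, 366, 369, 370, 405, 411, 414, 480, 486, 489, 505, 511, 514, 674,
  687, 867, 927, 1059, 1226, 1287, 1314, 1316, 1399, 1486, 1494, 1534, 1551, 1602, 1652, 1692,
  1734, 1774, 1855, 1870, 1964, 1966, 1993, 2006, 2030, 2045, 2171, 2213, 2228, 2278, 2329, 2371,
  2381, 2411, 2419, 2593, 2606, 2654, 2846, 2953, 3038, 3141, 3144, 3145, 3199, 3206, 3278, 3359,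
  3525, 3600, 3625, 3671, 3727, 3830, 3845, 3854, 3878, 3911, 3919, 4031, 4093, 4121, 4171, 4213,
  4231, 4253, 4289, 4291, 4572, 4598, 4635, 4640, 4760, 4932, 4948, 4958, 4972, 5198, 5210, 5258,
  5272, 5397, 5560, 5565, 5582, 5598, 5667, 5686, 5694, 5759, 5855, 5870, 5902, 5937, 5999, 6049,
  6051, 6102, 6134, 6239, 6241, 6435, 6440, 6458, 6472, 6507, 6632, 6648, 6808, 6840, 6891, 6894,
  6895, 6934, 6971, 7031, 7102, 7275, 7350, 7375, 7403, 7499, 7527, 7551, 7737, 7809, 7949, 8117,
  8213, 8246, 8293, 8453, 8581, 8654, 8766, 8769, 8770, 8802, 8828, 8921, 8999, 9150, 9225, 9250,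
  9281, 9359, 9560, 9597, 9632, 9648, 9773, 9933, 9947, 9960, 9965, 10005, 10011, 10014, 10052,
  10078, 10125, 10171, 10249, 10275, 10350, 10531, 10609, 10659, 10692, 10851, 10949, 11052,
  11237, 11329, 11353, 11413, 11581, 11721, 11793, 11880, 11886, 11889, 11934, 11971, 12000,
  12031, 12102, 12150, 12225, 12403, 12499, 12505, 12511, 12514, 12574, 12581, 12625, 12653,
  12734, 12775, 12850, 13046, 13102, 13211, 13219, 13238, 13271, 13289, 13291, 13403, 13454,
  13481, 13531, 13593, 13603, 13646, 13655, 13670, 13932, 13948, 13960, 13965, 14008, 14133,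
  14147, 14315, 14332, 14558, 14572, 14582, 14598, 14640, 14760, 14765, 14932, 14958, 15026,
  15055, 15070, 15127, 15239, 15241, 15299, 15317, 15359, 15409, 15437, 15499, 15502, 15611, 15619]

/-- A list as a bit mask. -/
def msk (L : List ℕ) : ℕ := L.foldr (fun c m => Nat.lor m (Nat.pow 2 c)) 0

theorem mem_of_msk {L : List ℕ} {c : ℕ} (h : (msk L).testBit c = true) : c ∈ L := by
  induction L with
  | nil => simp [msk] at h
  | cons a L ih =>
    change (msk L ||| 2 ^ a).testBit c = true at h
    rw [Nat.testBit_or, Bool.or_eq_true, Nat.testBit_two_pow, decide_eq_true_eq] at h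
    exact h.elim (fun e => List.mem_cons_of_mem _ (ih e)) fun e => e ▸ List.mem_cons_self

/-- The matrix with given columns. -/
def cm (a b c : ℕ) : ℕ :=
  t25.pack (3 * 3) fun k =>
    t25.dg (Nat.casesOn (k % 3) a fun j => Nat.casesOn j b fun _ => c) (k / 3) % t25.Q

/-- The check for the normaliser. -/
def eC : Bool := force (msk DL) fun m => all2 125 125 fun c => !Nat.beq (t25.hh 3 c c) 1 ||
  (allB 26 fun i => !allB 3 fun j =>
    Nat.beq (t25.dot 3 (t25.en 3 (RL.getD (i + 1) 0) j) (t25.dg c)) (t25.dg c j % t25.Q)) ||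
  allB 27 fun i => force (t25.mv 3 (RL.getD i 0) c) fun b => !Nat.beq (t25.hh 3 c b) 0 ||
    force (t25.mv 3 (RL.getD i 0) b) fun a => !Nat.beq (t25.dt3 4 c b a) 1 ||
      force (cm c b a) fun Y => !Nat.beq (t25.mv 3 Y 1) (t25.mv 3 345909303875 1) &&
        DL.all fun x => m.testBit (t25.mv 3 Y x)

theorem eC_true : eC = true := by decide +kernel

end H23.Ex
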