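import Cfsg.Agent.H23.Ud1
import Cfsg.Agent.H23.Pr3

/-! Tools for tensor products of hermitian spaces. -/

set_option autoImplicit false

namespace H23.Uf

open Module H22 Cfsg Cfsg.Geo Form Tn

variable {F S W V : Type*} [Field F] [AddCommGroup S] [Module F S] [AddCommGroup W] [Module F W]
  [AddCommGroup V] [Module F V] {σ : F →+* F} {q : ℕ}

theorem exists_tens_det [FiniteDimensional F S] [FiniteDimensional F W] {t : S →ₗ[F] W →ₗ[F] V}
    (ht : IsTensorProduct t) {a : S ≃ₗ[F] S} {b : W ≃ₗ[F] W}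
    (ha : LinearMap.det a.toLinearMap = 1) (hb : LinearMap.det b.toLinearMap = 1) :
    ∃ m ∈ Tg F t, LinearMap.det m.toLinearMap = 1 ∧ ∀ x y, m (t x y) = t (a x) (b y) := by
  have e : ∀ x y, (ht.equiv.symm ≪≫ₗ TensorProduct.congr a b ≪≫ₗ ht.equiv) (t x y) =
      t (a x) (b y) := fun x y => by simp
  refine ⟨_, ⟨a, b, e⟩, (LinearMap.det_conj (TensorProduct.map a.toLinearMap b.toLinearMap)
    ht.equiv).trans ?_, e⟩
  rw [← LinearMap.det_toMatrix ((finBasis F S).tensorProduct (finBasis F W)),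
    TensorProduct.toMatrix_map, Matrix.det_kronecker]
  simp [ha, hb]

theorem block_of_mem [FiniteDimensional F V] {t : S →ₗ[F] W →ₗ[F] V} (ht : IsTensorProduct t)
    {N : V →ₗ[F] V} (h0 : 0 < finrank F (LinearMap.range N))
    (h : finrank F (LinearMap.range N) < finrank F W) {g : V ≃ₗ[F] V} (hg : g ∈ Tg F t)
    (h5 : ∀ v, g v = v + N v) : ∃ u ≠ 0, ∀ x, t x u ∈ LinearMap.range N := by
  obtain ⟨a, b, h4⟩ := hg
  have h6 : ∀ x w, N (t x w) = t (a x) (b w) - t x w := fun x w => by simp [← h4, h5]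
  rcases scalar_or a.toLinearMap with ⟨c, hc⟩ | ⟨x, hx⟩
  · have a1 : ∀ x w, N (t x w) = t x (c • b w - w) := fun x w => by
      simp [h6, show a x = c • x from hc x]
    by_contra! a2
    have a3 : N = 0 := LinearMap.ext (ext_t ht fun x w => by
      by_contra a3
      obtain ⟨y, hy⟩ := a2 (c • b w - w) fun h => a3 (by simp [a1, h])
      exact hy ⟨_, a1 y w⟩)
    subst a3
    rw [LinearMap.range_zero, finrank_bot] at h0; omega
  have a1 := LinearMap.finrank_le_finrank_of_injective (f := N.rangeRestrict ∘ₗ t x)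
    ((injective_iff_map_eq_zero _).2 fun w hw => by_contra fun a1 => by
      obtain ⟨f, hf⟩ := exists_dual_one (F := F) a1
      have a2 := congrArg (cov F ht f) ((h6 x w).symm.trans (congrArg Subtype.val hw))
      simp only [map_sub, cov_t, hf, one_smul, ZeroMemClass.coe_zero, map_zero, sub_eq_zero] at a2
      have a3 : f (b w) ≠ 0 := fun h => hx (by simp [h] at a2; simp [← a2])
      exact hx ((Submodule.smul_mem_iff _ a3).1 (by
        rw [show f (b w) • a.toLinearMap x = x from a2]; exact Submodule.mem_span_singleton_self x)))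
  omega

theorem span_hyp {f : Form σ S} (h2 : finrank F S = 2) {a b : S} (hf : Hyp f a b) (v : S) :
    ∃ x y : F, x • a + y • b = v := by
  have := hf.linearIndependent.span_eq_top_of_card_eq_finrank (by simp [h2])
  obtain ⟨a, b, e⟩ : ∃ x y : F, x • b + y • a = v := by
    simpa [Submodule.mem_span_pair] using this.ge (Submodule.mem_top (x := v))
  exact ⟨b, a, by rw [add_comm, e]⟩

variable [Fintype F]

theorem su_rank_one (hf : HF σ q) (hq : 3 ≤ q) {f : Form σ S} (hn : f.Nondeg) (he : f.ε = 1)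
    (h2 : finrank F S = 2) (Λ : Subring (End F S)) (h1 : ∀ c : F, ∀ z ∈ Λ, c • z ∈ Λ)
    (h3 : ∀ (c : F) a, c + σ c = 0 → f.B a a = 0 → ∀ z ∈ Λ,
      (1 + c • (f.B a).smulRight a) * z * (1 - c • (f.B a).smulRight a) ∈ Λ)
    {z : End F S} (hz : z ∈ Λ) (h0 : ∀ c : F, ∃ x, z x ≠ c • x) (x y : S) :
    (f.B x).smulRight y ∈ Λ := by
  have : FiniteDimensional F S := finite_of_finrank_pos (by omega)
  obtain ⟨s, s0, hs⟩ := exists_trace_zero hf.ne hf.inv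
  obtain ⟨m, m1, m0, m2⟩ := hf.exists_fix hq
  have a0 : ∀ {z z' : End F S} {c : F}, c ≠ 0 → z ∈ Λ → (∀ v, z v = c • z' v) → z' ∈ Λ :=
    fun {z z' c} hc hz h => by
      convert h1 c⁻¹ z hz using 1
      ext v; simp [h, hc]
  have a1 : ∀ z ∈ Λ, ∀ a, f.B a a = 0 → f.B a (z a) ≠ 0 → (f.B a).smulRight a ∈ Λ :=
    fun z hz a ha e => a0 (mul_ne_zero (mul_ne_zero (mul_ne_zero m0 (sub_ne_zero.2 m2))
      (pow_ne_zero 2 s0)) e) (sub_mem (h1 m _ (sub_mem (h3 s a hs ha z hz) hz)) (sub_mem (h3 (m * s) a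
        (by rw [map_mul, m1]; linear_combination m * hs) ha z hz) hz)) fun v => by simp; module
  obtain ⟨a, a2, a3, a4⟩ : ∃ a, a ≠ 0 ∧ f.B a a = 0 ∧ f.B a (z a) ≠ 0 := by
    obtain ⟨a, -, b1, b2⟩ := exists_sing_of_herm (Φ := f) hf.ne he (T := ⊤) (by simp [h2])
    obtain ⟨b, b3⟩ := exists_hyp hn b2 b1
    have b4 : f.B b a = 1 := by rw [b3.B_symm, he]
    by_contra! e
    obtain ⟨x₁, y₁, c1⟩ := span_hyp h2 b3 (z a)
    obtain ⟨x₂, y₂, c2⟩ := span_hyp h2 b3 (z b)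
    have c3 := e a b1 b2.1
    have c4 := e b b3.right_ne b3.right.1
    have c5 := e (a + s • b) (fun e => by simpa [b4, b3.right.1] using congrArg (f.B b) e) (by
      simp [B_smul_left, b2.1, b3.one, b4, b3.right.1, hs])
    simp [← c1, ← c2, b2.1, b3.one, b4, b3.right.1, B_smul_left] at c3 c4 c5
    obtain ⟨v, hv⟩ := h0 x₁
    obtain ⟨x, y, rfl⟩ := span_hyp h2 b3 v
    have : y₂ = x₁ := mul_left_cancel₀ s0 (by
      linear_combination c5 - x₁ * hs - c3 - (s * σ s) * c4)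
    exact hv (by simp [← c1, ← c2, c3, c4, this, smul_comm x₁])
  obtain ⟨b, b3⟩ := exists_hyp hn ⟨a3, Q_of_κ (κ_of_ne_id hf.ne) a⟩ a2
  have b4 : f.B b a = 1 := by rw [b3.B_symm, he]
  have a5 := a1 z hz a a3 a4
  have a6 := a1 _ a5 b b3.right.1 (by simp [b3.one, b4])
  obtain ⟨x₁, y₁, rfl⟩ := span_hyp h2 b3 x
  obtain ⟨x₂, y₂, rfl⟩ := span_hyp h2 b3 y
  exact a0 one_ne_zero (add_mem (add_mem (h1 (σ x₁ * x₂) _ a5) (h1 (σ y₁ * y₂) _ a6))
    (add_mem (h1 (σ y₁ * x₂) _ (mul_mem a5 a6)) (h1 (σ x₁ * y₂) _ (mul_mem a6 a5)))) fun v => by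
      simp [b3.one, b4, B_smul_left]; module

namespace HS

variable {Φ : Form σ V} (h : HS Φ q) {H : Subgroup (V ≃ₗ[F] V)} {a e e' p u v w : V} {s : F}
include h

theorem exists_unit {T : Submodule F V} (hT : finrank F V < 2 * finrank F T) :
    ∃ d ∈ T, Φ.B d d = 1 := by
  have := h.fd
  obtain ⟨v, hv, h0⟩ : ∃ v ∈ T, Φ.B v v ≠ 0 := by
    by_contra! hc
    obtain ⟨a, ha⟩ := DFunLike.ne_iff.1 h.ne
    refine hT.not_ge (h.nd.two_mul_finrank_le ⟨fun x hx y hy => ?_, fun x _ => Q_of_κ h.kap x⟩)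
    have h1 := hc (x + y) (T.add_mem hx hy)
    have h2 := hc (x + a • y) (T.add_mem hx (T.smul_mem a hy))
    simp only [map_add, LinearMap.add_apply, hc x hx, hc y hy, B_smul_left, B_smul_right] at h1 h2
    exact mul_left_cancel₀ (sub_ne_zero.2 ha) (by
      rw [RingHom.id_apply]; linear_combination σ a * h1 - h2)
  obtain ⟨x, hx⟩ := exists_norm_eq_of_invol h.ne h.inv (μ := (Φ.B v v)⁻¹) (by
    rw [map_inv₀, ← h.sy])
  exact ⟨x • v, T.smul_mem x hv, by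
    rw [B_smul_left, B_smul_right, ← mul_assoc, hx, inv_mul_cancel₀ h0]⟩

theorem exists_unit_perp (h5 : 5 ≤ finrank F V) (u w : V) :
    ∃ d, Φ.B d d = 1 ∧ Φ.B d u = 0 ∧ Φ.B d w = 0 := by
  have := h.fd
  have h1 := h.nd.finrank_perp_add (Submodule.span F {x | x ∈ [u, w]})
  have h2 := finrank_span_list_le (F := F) [u, w]
  obtain ⟨d, a1, a2⟩ := h.exists_unit (T := Φ.perp (Submodule.span F {x | x ∈ [u, w]}))
    (by simp only [List.length] at h2; omega)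
  exact ⟨d, a2, Φ.B_eq_zero_symm (a1 u (Submodule.subset_span (by simp))),
    Φ.B_eq_zero_symm (a1 w (Submodule.subset_span (by simp)))⟩

theorem trans2 (h5 : 5 ≤ finrank F V) (hu : Φ.B u u = 0) (hw : Φ.B w w = 0) (u0 : u ≠ 0)
    (w0 : w ≠ 0) (he : Φ.B e e = 0) (he' : Φ.B e' e' = 0) (h1 : Φ.B u e = 0) (h2 : Φ.B w e' = 0)
    (h3 : e ∉ F ∙ u) (h4 : e' ∉ F ∙ w) : ∃ b ∈ Φ.E, b u = w ∧ b e = e' := by
  have := h.fd
  have li : ∀ {u e : V}, u ≠ 0 → e ∉ F ∙ u → LinearIndependent F ![u, e] := fun u0 h =>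
    (LinearIndependent.pair_iff' u0).2 fun c e => h (Submodule.mem_span_singleton.2 ⟨c, e⟩)
  obtain ⟨g, a1, a2⟩ := h.nd.witt_family (li u0 h3) (li w0 h4) (by
    simp [Fin.forall_fin_two, *, Φ.B_eq_zero_symm h1, Φ.B_eq_zero_symm h2]) (by
    simp [Q_of_κ h.kap])
  obtain ⟨d, b1, b2, b3⟩ := h.exists_unit_perp h5 w e'
  obtain ⟨r, b4, -, b5⟩ := h.exists_r b1 a1
  exact ⟨r * g, b4, by simpa [b5 w b2] using congrArg r (a2 0),
    by simpa [b5 e' b3] using congrArg r (a2 1)⟩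

theorem exists_iso (u0 : u ≠ 0) : ∃ e, Φ.B u e = 0 ∧ Φ.B e e = 0 ∧ e ∉ F ∙ u := by
  have := h.fd
  have h1 := h.nd.finrank_perp_add (F ∙ u)
  have := h.dim
  rw [finrank_span_singleton u0] at h1
  by_cases hu : Φ.B u u = 0
  · obtain ⟨f, hf⟩ := exists_hyp h.nd (h.sing hu) u0
    have h2 := h.nd.finrank_perp_add (Submodule.span F {x | x ∈ [u, f]})
    have h3 := finrank_span_list_le (F := F) [u, f]
    obtain ⟨e, a1, a2, a3⟩ := exists_sing_of_herm (Φ := Φ) h.ne h.ε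
      (T := Φ.perp (Submodule.span F {x | x ∈ [u, f]})) (by simp only [List.length] at h3; omega)
    refine ⟨e, a1 u (Submodule.subset_span (by simp)), a3.1, fun e' => ?_⟩
    obtain ⟨c, rfl⟩ := Submodule.mem_span_singleton.1 e'
    simpa [hf.B_symm, h.ε, show c ≠ 0 by rintro rfl; simp at a2] using
      a1 f (Submodule.subset_span (by simp))
  obtain ⟨e, a1, a2, a3⟩ := exists_sing_of_herm (Φ := Φ) h.ne h.ε (T := Φ.perp (F ∙ u)) (by omega)
  refine ⟨e, Φ.mem_perp_span_singleton.1 a1, a3.1, fun e' => ?_⟩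
  obtain ⟨c, rfl⟩ := Submodule.mem_span_singleton.1 e'
  simp [mem_perp_span_singleton, hu] at a1
  simp [a1] at a2

theorem ind (u0 : u ≠ 0) {U : Submodule F V} (h1 : u ∈ U)
    (h2 : ∀ y, Φ.B u y = 0 → Φ.B y y = 0 → y ∉ F ∙ u → y ∈ U) (hv : Φ.B u v = 0) : v ∈ U := by
  have := h.fd
  obtain ⟨e, a1, a2, a3⟩ := h.exists_iso u0
  obtain ⟨f, a4, a5⟩ := exists_hyp_mem h.nd (h.sing a2) (Φ.mem_perp_span_singleton.2 a1)
    (by rwa [h.nd.perp_perp])
  refine le_of_sing_mem a5 (Φ.mem_perp_span_singleton.2 a1) a4 (fun x hx hs => ?_)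
    (Φ.mem_perp_span_singleton.2 hv)
  by_cases e : x ∈ F ∙ u
  · exact (Submodule.span_singleton_le_iff_mem _ _).2 h1 e
  exact h2 x (Φ.mem_perp_span_singleton.1 hx) hs.1 e

theorem aIn_add (ha : Φ.B a a = 0) (hv : Φ.B v v = 0) (hav : Φ.B a v = 0) (h1 : Φ.AIn H a 0)
    (h2 : Φ.AIn H v 0) (h3 : Φ.AIn H (v + a) 0) (hs : s + σ s = 0) : Φ.AIn H a (s • v) := by
  have hva := Φ.B_eq_zero_symm hav
  obtain ⟨g₁, a1, b1⟩ := h.tv ha h1 hs
  obtain ⟨g₂, a2, b2⟩ := h.tv hv h2 hs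
  obtain ⟨g₃, a3, b3⟩ := h.tv (s := -s) (by simp [ha, hv, hav, hva]) h3
    (by rw [map_neg]; linear_combination -hs)
  refine h1.of_eIn (s := 0) (h.eich ha (by simp [hav]) (by simp [hv]))
    ⟨g₃ * g₂ * g₁, mul_mem (mul_mem a3 a2) a1, fun x => ?_⟩
  simp [b1, b2, b3, ha, hv, hav, hva, eichler_apply, B_smul_left, h.ε,
    ← neg_eq_of_add_eq_zero_right hs]
  module

theorem aIn_tv (hH : H ≤ Φ.O) (ha : Φ.B a a = 0) (h1 : Φ.AIn H a p) (h2 : QR Φ H e s)
    (h3 : Φ.B e a = 0) (h4 : s * Φ.B e p = 1) : Φ.AIn H a e := by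
  obtain ⟨g, a1, a2⟩ := h2
  have := h1.conj a1 (hH a1)
  simp only [a2, h3, h4, mul_zero, zero_smul, add_zero, one_smul] at this
  simpa using this.sub (h.sing ha) h1

theorem qr_comm (hH : H ≤ Φ.O) {L : Submodule F V} (hL : L ≤ Φ.perp L) (ha : a ∈ L)
    (he : e ∈ Φ.perp L) (he' : e' ∈ Φ.perp L) {r r' : V ≃ₗ[F] V} (hr : r ∈ H) (hr' : r' ∈ H)
    (h1 : ∀ x ∈ Φ.perp L, r x = x + Φ.B e x • a) (h2 : ∀ x ∈ Φ.perp L, r' x = x + Φ.B e' x • a) :
    QR Φ H a (Φ.B e' e - Φ.B e e') := by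
  have := h.fd
  have key : ∀ {r e}, r ∈ H → e ∈ Φ.perp L → (∀ x ∈ Φ.perp L, r x = x + Φ.B e x • a) →
      (∀ l ∈ L, r l = l) ∧ ∀ v, ∃ l ∈ L, r v = v - Φ.B a v • e + l := fun {r e} hr he h1 => by
    have a1 : ∀ l ∈ L, r l = l := fun l hl => by
      simp [h1 l (hL hl), Φ.B_eq_zero_symm (he l hl)]
    refine ⟨a1, fun v => ⟨r v - v + Φ.B a v • e, ?_, by abel⟩⟩
    rw [← h.nd.perp_perp L]
    intro x hx
    have a2 := (hH hr).1 x v
    have a3 := (hH hr).1 a v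
    rw [a1 a ha] at a3
    simp only [h1 x hx, map_add, LinearMap.add_apply, B_smul_left, a3, ← h.sy] at a2
    simp only [map_add, map_sub, B_smul_right]
    linear_combination a2
  obtain ⟨a1, a2⟩ := key hr he h1
  obtain ⟨a3, a4⟩ := key hr' he' h2
  refine ⟨r * r' * (r' * r)⁻¹, mul_mem (mul_mem hr hr') (inv_mem (mul_mem hr' hr)), fun v => ?_⟩
  obtain ⟨v, rfl⟩ := (r' * r).surjective v
  obtain ⟨l, b1, b2⟩ := a2 v
  obtain ⟨l', b3, b4⟩ := a4 v
  have b5 : Φ.B a ((r' * r) v) = Φ.B a v := by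
    rw [← (hH (mul_mem hr' hr)).1 a v]; simp [a1 a ha, a3 a ha]
  rw [b5, show (r * r' * (r' * r)⁻¹) ((r' * r) v) = r (r' v) by simp, LinearEquiv.mul_apply, b4, b2]
  simp only [map_add, map_sub, map_smul, a1 l' b3, a3 l b1, b2, b4, h1 e' he', h2 e he]
  module

end HS

theorem exists_form_pow (hF : Fintype.card F = q ^ 2) {ι : Type} {f : (ι → F) → (ι → F) → F}
    (hf : IsUnitaryFormPow q f) :
    ∃ Φ : Form (conj hF) (ι → F), Φ.Nondeg ∧ Φ.ε = 1 ∧ ∀ u v, f u v = Φ.B v u := by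
  refine ⟨ofHerm (conj_ne_id hF) (conj_conj hF) (LinearMap.mk₂'ₛₗ (conj hF) (RingHom.id F)
    (fun u v => f v u) (fun u u' v => by
      rw [hf.herm, hf.add_left, add_pow_of_card_eq_sq hF, ← hf.herm, ← hf.herm])
    (fun c u v => by rw [hf.herm, hf.smul_left, mul_pow, ← hf.herm]; rfl)
    (fun u v v' => hf.add_left _ _ _) (fun c u v => hf.smul_left _ _ _))
    ⟨fun u v => (hf.herm _ _).symm⟩, fun x hx => ?_, rfl, fun _ _ => rfl⟩
  by_contra h0
  obtain ⟨y, hy⟩ := (hf.nondegenerate x h0).1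
  exact hy (hx y)

end H23.Uf
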