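import Cfsg.Agent.H23.Ex4
import Cfsg.Agent.H23.Ux2
import Cfsg.Agent.H23.Ut1

/-! The normaliser of a cubic extension field in `SU₆(2)` is not maximal. -/

set_option autoImplicit false

namespace H23.Uf

open Module H22 Cfsg Cfsg.Geo Form Tn Pointwise

variable {F E V : Type*} [Field F] [Field E] [Algebra F E] [Finite E] [AddCommGroup V]
  [Module F V] [Module E V] [IsScalarTower F E V] {σ : F →+* F} {τ : E →+* E}

theorem det_semi (h2 : (2 : F) = 0) {ι : Type} [Fintype ι] [DecidableEq ι] (β : Basis ι E V)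
    {g : V ≃ₗ[F] V} {α : E →+* E} (hα : ∀ (k : E) v, g (k • v) = α k • g v)
    (h1 : ∀ c, α (algebraMap F E c) = algebraMap F E c) :
    LinearMap.det g.toLinearMap = Algebra.norm F (LinearMap.det (β.constr E (g ∘ β))) := by
  classical
  have := Finite.of_injective _ (algebraMap F E).injective
  have := β.finiteDimensional_of_finite
  let a : Gal(E/F) := AlgEquiv.ofBijective ⟨α, h1⟩ (Finite.injective_iff_bijective.1 α.injective)
  let B := (IsGalois.normalBasis F E).smulTower β
  let π := (Equiv.mulLeft a).prodCongr (Equiv.refl ι)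
  have h3 : g.toLinearMap ∘ B = (β.constr E (g ∘ β)).restrictScalars F ∘ B ∘ π :=
    funext fun ⟨s, j⟩ => by
      simp only [B, π, Function.comp, Basis.smulTower_apply, LinearEquiv.coe_coe, hα,
        Equiv.prodCongr_apply, Prod.map, Equiv.coe_mulLeft, Equiv.coe_refl, id,
        LinearMap.restrictScalars_apply, map_smul, Basis.constr_basis]
      rw [IsGalois.normalBasis_apply s, IsGalois.normalBasis_apply (a * s)]; rfl
  have h4 := congrArg B.det h3
  rw [B.det_comp, B.det_comp, B.det.map_perm, B.det_self, mul_one,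
    LinearMap.det_restrictScalars] at h4
  rcases Int.units_eq_one_or (Equiv.Perm.sign π) with e | e <;> rw [h4, e] <;> simp
  linear_combination -Algebra.norm F (LinearMap.det (β.constr E (g ∘ β))) * h2

theorem cubic_false [Fintype F] {Φ : Form σ V} {Ψ : Form τ V} (h : Lift Φ Ψ) (hs : HS Φ 2)
    (hκ : Ψ.κ = 0) (h3 : finrank F E = 3) (h2 : finrank E V = 2) :
    ¬ IsMaximalIn Φ.E (Tg F (ls E V) ⊓ Φ.E) := fun hH => by
  classical
  have := Fintype.ofFinite E
  have := hs.fd
  have : FiniteDimensional E V := finite_of_finrank_pos (by omega)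
  have : Finite V := Module.finite_of_finite F
  have := h.nt
  have iv : IV σ τ := ⟨hs.ne, hs.inv, h.invol, h.alg⟩
  have hF : Fintype.card F = 4 := hs.card
  have hE : Fintype.card E = 8 ^ 2 := by rw [Module.card_eq_pow_finrank (K := F), h3, hF]; rfl
  have hτ : ∀ x, τ x = x ^ 8 := fun x => by rw [As.eq_conj iv.ne' h.invol hE]; rfl
  have c2 : (2 : F) = 0 := As.two_eq_zero_of_even (by rw [hF]; decide)
  have c2' : (2 : E) = 0 := by rw [← map_ofNat (algebraMap F E) 2, c2, map_zero]
  have c3 : ∀ c : F, c ≠ 0 → c ^ 3 = 1 := fun c => As.pow_card_pred hF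
  have ε : Ψ.ε = 1 := by simp [h.eps, hs.ε]
  obtain ⟨u, -, u0, hu⟩ := exists_sing_of_herm (Φ := Ψ) iv.ne' ε (T := ⊤) (by simp [h2])
  obtain ⟨f, hf⟩ := exists_hyp h.nondeg hu u0
  have e1 := hu.1
  have e2 := hf.right.1
  have e3 := hf.one
  have e4 : Ψ.B f u = 1 := by rw [hf.B_symm, ε]
  have sp : ∀ v, v = Ψ.B f v • u + Ψ.B u v • f := fun v => by
    obtain ⟨a, b, rfl⟩ := span_hyp h2 hf v
    simp [e1, e2, e3, e4]
  obtain ⟨κ, hκ⟩ := IsCyclic.exists_ofOrder_eq_natCard (α := Eˣ)
  have k1 : (κ : E) ^ 21 ≠ 1 := fun e => by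
    have := orderOf_dvd_of_pow_eq_one (Units.ext e : κ ^ 21 = 1)
    rw [hκ, Nat.card_eq_fintype_card, Fintype.card_units, hE] at this
    exact absurd this (by decide)
  let X : Set V := {v | ∃ c : F, c ≠ 0 ∧ Ψ.B f v = c • τ (Ψ.B f v) ∧ Ψ.B u v = c • τ (Ψ.B u v)}
  have mem : ∀ g : V ≃ₗ[F] V, (∀ v ∈ X, g v ∈ X) → g ∈ MulAction.stabilizer (V ≃ₗ[F] V) X :=
    fun g hg => Set.eq_of_subset_of_ncard_le (by rintro _ ⟨v, hv, rfl⟩; exact hg v hv)
      (Set.ncard_image_of_injective X g.injective).ge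
  obtain ⟨T, t1, t2, t3⟩ := hs.nd.exists_qrefl hs.kap (d := u) (c := 1)
    (by simp [hs.ε, h.B_eq, e1, one_add_one_eq_two, c2])
  simp only [one_mul, h.B_eq, ← algebraMap_smul E (Algebra.trace F E _)] at t2 t3
  refine As.IsMaximalIn.false_of hH (M := MulAction.stabilizer _ X) (fun g hg => mem g ?_)
    (fun hM => ?_) (hs.mem_E.2 ⟨t1, by simp [t2, e1]⟩) (mem T ?_) fun hT => ?_
  · obtain ⟨α, hα⟩ := exists_semi (semi_of_Tg hg.1)
    have a1 := h.B_semi (E_le_O hg.2).1 hα
    have a2 : ∀ c, α (algebraMap F E c) = algebraMap F E c := fun c =>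
      smul_left_injective E (g.map_ne_zero_iff.2 u0) (by simp only [← hα, algebraMap_smul, map_smul])
    let β := basisOfLinearIndependentOfCardEqFinrank hf.linearIndependent (by simp [h2])
    have a3 := det_semi c2 β hα a2
    have a4 := a1 u u
    have a5 := a1 f f
    have a6 := a1 u f
    have a7 := sp (g u)
    have a8 := sp (g f)
    generalize Ψ.B f (g u) = x, Ψ.B u (g u) = y, Ψ.B f (g f) = z, Ψ.B u (g f) = w at a7 a8
    have a9 : LinearMap.det (β.constr E (g ∘ β)) = x * w - y * z := by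
      rw [← LinearMap.det_toMatrix β, Matrix.det_fin_two]
      have b0 : β 0 = u := by simp [β]
      have b1 : β 1 = f := by simp [β]
      rw [← b0, ← b1] at a7 a8
      simp [LinearMap.toMatrix_apply, a7, a8, mul_comm]
    simp only [a7, a8, map_add, B_smul_left, B_smul_right, e1, e2, e3, e4, map_zero, map_one,
      LinearMap.add_apply] at a4 a5 a6
    have b1 := congrArg τ a6
    simp only [map_add, map_mul, map_zero, map_one, h.invol] at b1
    rw [(hs.mem_E.1 hg.2).2, a9] at a3
    generalize hd : x * w - y * z = d at a3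
    have b2 : x = d * τ x := by rw [← hd]; linear_combination -x * a6 + z * a4
    have b3 : y = d * τ y := by rw [← hd]; linear_combination y * a6 - w * a4 + y * c2'
    have b4 : z = d * τ z := by rw [← hd]; linear_combination z * b1 - x * a5 + z * c2'
    have b5 : w = d * τ w := by rw [← hd]; linear_combination -w * b1 + y * a5
    have b6 : d ^ 21 = 1 := by
      have := congrArg (algebraMap F E) a3
      rwa [FiniteField.algebraMap_norm_eq_pow, map_one, Nat.card_eq_fintype_card,
        Nat.card_eq_fintype_card, hE, hF, eq_comm] at this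
    have b7 : d * τ d = 1 := by
      have b8 := congrArg τ b2
      have b9 := congrArg τ b3
      simp only [map_mul, h.invol] at b8 b9
      linear_combination (1 - d * τ d) * a6 - w * b8 - τ d * w * b2 - z * b9 - τ d * z * b3
    obtain ⟨k, hk⟩ : ∃ k : F, algebraMap F E k = d := by
      obtain ⟨ω, hω⟩ := As.exists_omega hF
      have h4 := congrArg (algebraMap F E) hω
      simp only [map_add, map_pow, map_one, map_zero] at h4
      have : (d - 1) * ((d - algebraMap F E ω) * (d - algebraMap F E ω ^ 2)) = 0 := by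
        rw [hτ] at b7
        linear_combination b6 - d ^ 3 * (d ^ 9 + 1) * b7 +
          (-d ^ 2 + d * algebraMap F E ω - algebraMap F E ω + 1) * h4
      simp only [mul_eq_zero, sub_eq_zero] at this
      rcases this with e | e | e
      exacts [⟨1, by simp [e]⟩, ⟨ω, e.symm⟩, ⟨ω ^ 2, by simp [e]⟩]
    rintro v ⟨c, c0, d1, d2⟩
    have d3 : ∀ a, a = c • τ a → α a = algebraMap F E c * τ (α a) := fun a e => by
      rw [hτ, ← map_pow, ← hτ, ← a2, ← map_mul, ← Algebra.smul_def, ← e]
    refine ⟨c * k, mul_ne_zero c0 (by rintro rfl; simp [← hk] at b7), ?_, ?_⟩ <;>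
      rw [sp v, map_add, hα, hα, a7, a8] <;>
      simp only [map_add, B_smul_right, e1, e2, e3, e4, map_mul, Algebra.smul_def, hk, map_zero,
        map_one]
    · linear_combination x * d3 _ d1 + algebraMap F E c * τ (α (Ψ.B f v)) * b2 + z * d3 _ d2 +
        algebraMap F E c * τ (α (Ψ.B u v)) * b4
    · linear_combination y * d3 _ d1 + algebraMap F E c * τ (α (Ψ.B f v)) * b3 + w * d3 _ d2 +
        algebraMap F E c * τ (α (Ψ.B u v)) * b5
  · have w0 : (κ : E) • u ≠ 0 := by simp [u0]
    obtain ⟨e, a1, a2, a3⟩ := hs.exists_iso u0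
    obtain ⟨e', a4, a5, a6⟩ := hs.exists_iso w0
    obtain ⟨b, a7, a8, -⟩ := hs.trans2 (by rw [← finrank_mul_finrank F E V, h3, h2]; omega)
      (by simp [h.B_eq, e1]) (by simp [h.B_eq, e1]) u0 w0 a2 a5 a1 a4 a3 a6
    obtain ⟨c, c0, a9, -⟩ : b u ∈ X := MulAction.mem_stabilizer_iff.1 (hM a7) ▸
      Set.smul_mem_smul_set (show u ∈ X from ⟨1, one_ne_zero, by simp [e4], by simp [e1]⟩)
    simp only [a8, B_smul_right, e4, mul_one, hτ, Algebra.smul_def] at a9
    have := congrArg (· ^ 3) a9
    simp only [mul_pow, ← map_pow, c3 c c0, map_one, one_mul] at this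
    exact k1 (mul_left_cancel₀ (pow_ne_zero 3 κ.ne_zero) (by linear_combination -this))
  · rintro v ⟨c, c0, d1, d2⟩
    refine ⟨c, c0, ?_, by simpa [t3, e1] using d2⟩
    simp only [t3, map_add, B_smul_right, e4, mul_one, h.alg, ← iv.tr, smul_add, ← d1]
    rw [Algebra.smul_def, ← map_mul, ← smul_eq_mul, ← map_smul, ← d2]
  · obtain ⟨k, hk⟩ := semi_of_Tg hT.1 κ
    have a1 := congrArg (Ψ.B f) (hk u)
    have a2 := congrArg (Ψ.B f) (hk f)
    simp only [t3, map_add, B_smul_right, e1, e2, e3, e4, mul_one, mul_zero, map_zero, add_zero,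
      zero_add, ← map_one (algebraMap F E), Algebra.trace_algebraMap, h3] at a1 a2
    simp only [map_one, mul_one, add_zero, nsmul_eq_mul, Nat.cast_ofNat, map_ofNat] at a1 a2
    have a3 : (κ : E) = algebraMap F E (Algebra.trace F E κ) := by
      linear_combination a1 - a2 - k * c2'
    rw [a3, ← map_pow, show 21 = 3 * 7 from rfl, pow_mul, c3 _ fun e => κ.ne_zero
      (by rw [a3, e, map_zero]), one_pow, map_one] at k1
    exact k1 rfl

theorem cubic_SU6_two [Fintype F] (hF : Fintype.card F = 2 ^ 2)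
    {K : Subalgebra F (Matrix (Fin 6) (Fin 6) F)} (hK : IsFieldSubalgebra 3 K)
    (hac : IsAdjointClosedFor (hermForm 6 F 2) K) :
    ¬ IsMaximalIn (GU 6 F 2 ⊓ specialLinear (Fin 6) F)
      (subalgebraNormalizer K ⊓ (GU 6 F 2 ⊓ specialLinear (Fin 6) F)) := fun hH => by
  letI := (As.IsFieldSubalgebra.isField hK).toField
  have : Finite K := Subtype.finite
  have hs := hs_hu hF (n := 6) (by omega)
  obtain ⟨τ, h⟩ := exists_adjE hs.nd hK fun k hk => (hac k hk).imp fun k' e => ⟨e.1, fun u v => by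
    rw [hs.sy, hs.sy (Matrix.mulVec k' v)]; exact congrArg _ (e.2 u v)⟩
  have h1 := finrank_mul_finrank F K (Fin 6 → F)
  rw [hK.finrank_eq, finrank_fintype_fun_eq_card, Fintype.card_fin] at h1
  obtain ⟨t, ht⟩ := exists_add_conj_eq_one hs.ne hs.inv
  obtain ⟨Ψ, h2, h6⟩ := h.exists_lift (.inl ⟨algebraMap F K t, by
    rw [h.alg, ← map_add, ht, map_one]⟩)
  have h3 := fun g => mem_SU_iff_E (g := g) hF (n := 6) (by omega)
  exact cubic_false h2 hs h6 hK.finrank_eq (by omega) (isMaximalIn_of_iff (glE _ F).symm hH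
    (fun g => by simp [h3]) fun g => by
      rw [Subgroup.mem_inf, Subgroup.mem_inf (p := subalgebraNormalizer K), h3,
        mem_normalizer_iff_semi, MulEquiv.apply_symm_apply]
      exact and_congr_left' ⟨semi_of_Tg, mem_Tg_of_semi⟩)

end H23.Uf
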