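import Cfsg.Agent.H23.TsPair

/-! The group `Ω` and the two families of maximal totally singular subspaces. -/

set_option autoImplicit false

namespace H23

open Module H22 Cfsg Cfsg.Geo Matrix

namespace Form

variable {F V : Type*} [Field F] [AddCommGroup V] [Module F V] [FiniteDimensional F V]
  {Φ : Form (RingHom.id F) V}

theorem even_of_mem_E [Finite F] (hΦ : Φ.Nondeg) (hκ : Φ.κ = 1) (hV : 5 ≤ finrank F V)
    {U : Submodule F V} (hU : Φ.TotSing U) (hd : finrank F V = 2 * finrank F U) {g : V ≃ₗ[F] V}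
    (hg : g ∈ Φ.E) :
    Even (finrank F U - finrank F (U ⊓ U.map g.toLinearMap : Submodule F V)) := by
  let θ : Φ.O →* ℤˣ := MonoidHom.mk'
    (fun g => (-1) ^ (finrank F U - finrank F (U ⊓ U.map g.1.toLinearMap : Submodule F V)))
    (fun a b => by
      have h1 := even_families hΦ hκ hd (hU.map a.2) (hU.map (a * b).2)
        (LinearEquiv.finrank_map_eq _ _) (LinearEquiv.finrank_map_eq _ _)
        (finrank F U - finrank F (U ⊓ U.map a.1.toLinearMap : Submodule F V)) U hU rfl (by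
          have := Submodule.finrank_mono (inf_le_left : U ⊓ U.map a.1.toLinearMap ≤ U)
          omega)
      have h2 : U.map a.1.toLinearMap ⊓ U.map (a * b).1.toLinearMap =
          (U ⊓ U.map b.1.toLinearMap).map a.1.toLinearMap := by
        rw [Submodule.map_inf _ a.1.injective, ← Submodule.map_comp]; rfl
      rw [h2, LinearEquiv.finrank_map_eq] at h1
      rw [← pow_add]
      exact neg_one_pow_congr (Nat.even_add.1 h1).symm)
  have := Abelianization.commutator_subset_ker θ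
    ((mem_E_quad hΦ hκ hV (g := ⟨g, E_le_O hg⟩)).1 hg)
  exact (neg_one_pow_eq_one_iff_even (by decide)).1 this

theorem exists_swap_quad [Finite F] (hΦ : Φ.Nondeg) (hκ : Φ.κ = 1) (hV : 5 ≤ finrank F V)
    {A B : Submodule F V} (hA : Φ.TotSing A) (hB : Φ.TotSing B) (hc : IsCompl A B)
    (he : Even (finrank F A)) :
    ∃ g ∈ Φ.E, A.map g.toLinearMap = B ∧ B.map g.toLinearMap = A := by
  obtain ⟨u, -, hu0, hu⟩ := iso3_quad hκ (⊤ : Submodule F V) (by simp; omega)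
  obtain ⟨f, hf⟩ := exists_hyp hΦ hu hu0
  have hQ : ∀ {e f : V}, Hyp Φ e f → Φ.Q (e - f) = -1 := fun h => by
    simp [Φ.Q_sub, h.left.2, h.right.2, h.one, hκ]
  obtain ⟨g, ⟨hg, h1⟩, h2⟩ := exists_swap_pair hΦ hA hB hc (fun n g => ∃ h : g ∈ Φ.O,
    Abelianization.of (⟨g, h⟩ : Φ.O) = Abelianization.of (refl hκ (u - f)) ^ n)
    ⟨one_mem _, by rw [pow_zero]; exact map_one _⟩ (by
      rintro e f' n g h ⟨hg, h1⟩
      refine ⟨(refl hκ (e - f')).1, ⟨mul_mem (refl hκ _).2 hg, ?_⟩, ?_, ?_, fun x h2 h3 => ?_⟩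
      · rw [pow_succ', ← h1, ← map_refl_eq hΦ hκ _ (u := e - f') (t := 1) (by simp [hQ h])
          (by simp [hQ h, hQ hf]), ← map_mul]; rfl
      · simp [refl_apply, hQ h, h.left.1, h.B_symm, eps_quad hκ]
      · simp [refl_apply, hQ h, h.right.1, h.one]
      · simp [refl_apply, h2, h3])
  refine ⟨g, (mem_E_quad hΦ hκ hV (g := ⟨g, hg⟩)).2 ?_, h2⟩
  obtain ⟨k, hk⟩ := he
  rw [← Abelianization.ker_of, MonoidHom.mem_ker, h1, hk, ← two_mul, pow_mul, ← map_pow, sq,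
    refl_mul_self, map_one, one_pow]

theorem exists_totSing_ge {σ : F →+* F} {Φ : Form σ V} (hΦ : Φ.Nondeg) {W U : Submodule F V}
    (hW : Φ.TotSing W) (hU : Φ.TotSing U) (h : finrank F W ≤ finrank F U) :
    ∃ A, Φ.TotSing A ∧ finrank F A = finrank F U ∧ W ≤ A := by
  obtain ⟨g, hg, h1⟩ := hΦ.exists_map_le hW hU h
  exact ⟨U.map g⁻¹.toLinearMap, hU.map (inv_mem hg), LinearEquiv.finrank_map_eq _ _,
    fun u hu => ⟨g u, h1 ⟨u, hu, rfl⟩, g.symm_apply_apply u⟩⟩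

theorem exists_stab_not_stab {σ : F →+* F} {Φ : Form σ V} (hΦ : Φ.Nondeg) {W U : Submodule F V}
    (hU : Φ.TotSing U) (hW0 : W ≠ ⊥) (h : W < U) : ∃ g ∈ stabL U ⊓ Φ.E, g ∉ stabL W := by
  obtain ⟨x, hx, hxW⟩ := SetLike.exists_of_lt h
  obtain ⟨w, hw, hw0⟩ := (Submodule.ne_bot_iff W).1 hW0
  obtain ⟨e, h1, h2⟩ := hΦ.exists_perp_eq_one (W := F ∙ x) (x := w) fun h => by
    obtain ⟨c, rfl⟩ := Submodule.mem_span_singleton.1 h
    exact hxW ((W.smul_mem_iff (by rintro rfl; simp at hw0)).1 hw)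
  obtain ⟨s, hs⟩ := exists_eichData (hU.sing hx)
    (Φ.B_eq_zero_symm (h1 x (Submodule.mem_span_singleton_self x)))
  obtain ⟨g, hg⟩ := exists_eich hΦ hs
  refine ⟨g, ⟨mem_stabL_of_le.2 fun v hv => ?_, mem_E hs hg⟩, fun h3 => hxW ?_⟩
  · simpa [hg, eichler_apply, hU.1 x hx v hv] using U.add_mem hv (U.smul_mem _ hx)
  · have := apply_mem_of_mem_stabL h3 hw
    simpa [hg, eichler_apply, hU.1 x hx w (h.le hw), h2, W.add_mem_iff_right hw] using this

theorem exists_between_totSing [Finite F] (hΦ : Φ.Nondeg) (hκ : Φ.κ = 1) (hV : 5 ≤ finrank F V)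
    {W : Submodule F V} (hW : Φ.TotSing W) (hd : 2 * (finrank F W + 1) = finrank F V)
    (h : ∃ U : Submodule F V, Φ.TotSing U ∧ 2 * finrank F U = finrank F V) :
    ∃ K, stabL W ⊓ Φ.E < K ∧ K < Φ.E := by
  obtain ⟨U, hU, hU'⟩ := h
  obtain ⟨A, hA, h1, h2⟩ := exists_totSing_ge hΦ hW hU (by omega)
  refine ⟨stabL A ⊓ Φ.E, lt_of_le_of_ne (fun g hg => ⟨?_, hg.2⟩) fun h => ?_,
    (isMaximalIn_totSing_quad hΦ hκ (by omega) hA (by rintro rfl; simp at h1; omega)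
      (by omega)).1⟩
  · have h3 := even_of_mem_E hΦ hκ hV hA (by omega) hg.2
    have h4 := Submodule.finrank_mono (show W ≤ A ⊓ A.map g.toLinearMap from
      le_inf h2 (mem_stabL.1 hg.1 ▸ Submodule.map_mono h2))
    have h5 : A ⊓ A.map g.toLinearMap = A := Submodule.eq_of_le_of_finrank_le inf_le_left (by
      rw [Nat.even_iff] at h3; omega)
    exact (Submodule.eq_of_le_of_finrank_le (inf_eq_left.1 h5)
      (LinearEquiv.finrank_map_eq _ _).le).symm
  · obtain ⟨g, hg, h3⟩ := exists_stab_not_stab hΦ hA (W := W) (by rintro rfl; simp at hd; omega)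
      (lt_of_le_of_ne h2 (by rintro rfl; omega))
    exact h3 (h ▸ hg : g ∈ stabL W ⊓ Φ.E).1

theorem exists_between_tsPair [Finite F] (hΦ : Φ.Nondeg) (hκ : Φ.κ = 1) (hV : 5 ≤ finrank F V)
    {D : Fin 2 → Submodule F V} (hA : Φ.TotSing (D 0)) (hB : Φ.TotSing (D 1))
    (hc : IsCompl (D 0) (D 1)) (ho : Odd (finrank F (D 0))) :
    ∃ K, decL D ⊓ Φ.E < K ∧ K < Φ.E := by
  have e1 := finrank_eq_of_tsPair hΦ hA hB hc
  refine ⟨stabL (D 0) ⊓ Φ.E, lt_of_le_of_ne (fun g hg => ⟨?_, hg.2⟩) fun h => ?_,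
    (isMaximalIn_totSing_quad hΦ hκ (by omega) hA (fun h => by rw [h, finrank_bot] at e1; omega)
      (by omega)).1⟩
  · refine (mem_decL_two.1 hg.1).elim (fun h => h.1) fun h => ?_
    have h3 := even_of_mem_E hΦ hκ hV hA e1 hg.2
    rw [h.1, hc.inf_eq_bot, finrank_bot] at h3
    exact absurd h3 (Nat.not_even_iff_odd.2 ho)
  · obtain ⟨g, hg, h1, h2⟩ := exists_not_mem_pair hΦ hA hB hc (by omega)
    exact (mem_decL_two.1 (h ▸ hg : g ∈ decL D ⊓ Φ.E).1).elim (fun h => h2 h.2.le)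
      fun h => h1 h.2.le

end Form

open Form

variable {ι : Type} [Fintype ι] [DecidableEq ι] {F : Type*} [Field F]

theorem isMaximalIn_dec_of_E {σ : F →+* F} {Φ : Form σ (ι → F)} {K : Subgroup (GL ι F)}
    (hK : ∀ g, g ∈ K ↔ glE ι F g ∈ Φ.E) {t : ℕ} {D : Fin t → Submodule F (ι → F)}
    (h : IsMaximalIn Φ.E (decL D ⊓ Φ.E)) : IsMaximalIn K (decompositionStabilizer D ⊓ K) :=
  isMaximalIn_of_iff (glE ι F) h hK fun g => and_congr mem_decompositionStabilizer_iff (hK g)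

theorem exists_between_dec_of_E {σ : F →+* F} {Φ : Form σ (ι → F)} {K : Subgroup (GL ι F)}
    (hK : ∀ g, g ∈ K ↔ glE ι F g ∈ Φ.E) {t : ℕ} {D : Fin t → Submodule F (ι → F)}
    (h : ∃ L, decL D ⊓ Φ.E < L ∧ L < Φ.E) : ∃ L, decompositionStabilizer D ⊓ K < L ∧ L < K :=
  exists_between_of_iff (glE ι F) h hK fun g => and_congr mem_decompositionStabilizer_iff (hK g)

theorem exists_between_stab_of_E {σ : F →+* F} {Φ : Form σ (ι → F)} {K : Subgroup (GL ι F)}
    (hK : ∀ g, g ∈ K ↔ glE ι F g ∈ Φ.E) {W : Submodule F (ι → F)}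
    (h : ∃ L, stabL W ⊓ Φ.E < L ∧ L < Φ.E) : ∃ L, subspaceStabilizer W ⊓ K < L ∧ L < K :=
  exists_between_of_iff (glE ι F) h hK fun g => and_congr mem_subspaceStabilizer_iff (hK g)

end H23
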