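import Cfsg.Agent.H7.Jh
import Cfsg.Agent.H22.IsoE

/-! The centralizer of a 2-central involution of `PSp4(3)`. -/

set_option autoImplicit false
open Subgroup Equiv H7J Matrix

namespace H23.Mod1

abbrev S4 := symplecticGroup (Fin 2) (ZMod 3)

def bl (s : Bool) (x y : ZMod 3) : Matrix (Fin 2) (Fin 2) (ZMod 3) :=
  match s with
  | false => !![x, 0; 0, y]
  | true => !![0, x; y, 0]

def mat (p : P) : Matrix (Fin 2 ⊕ Fin 2) (Fin 2 ⊕ Fin 2) (ZMod 3) :=
  fromBlocks (bl p.s (p.a.1 0 0) (p.b.1 0 0)) (bl p.s (p.a.1 0 1) (p.b.1 0 1))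
    (bl p.s (p.a.1 1 0) (p.b.1 1 0)) (bl p.s (p.a.1 1 1) (p.b.1 1 1))

theorem mat_mem (p : P) : mat p ∈ S4 := by
  obtain ⟨a, b, s⟩ := p
  have ha := a.2
  have hb := b.2
  rw [det_fin_two] at ha hb
  rw [mat, SymplecticGroup.fromBlocks_mem_iff]
  cases s <;> refine ⟨?_, ?_, ?_⟩ <;> ext i j <;> fin_cases i <;> fin_cases j <;>
    simp [bl, Matrix.mul_apply, Fin.sum_univ_two] <;>
    first | exact mul_comm _ _ | linear_combination ha | linear_combination hb

theorem mulP (x y : P) : x * y = if x.s then ⟨x.a * y.b, x.b * y.a, !y.s⟩ else ⟨x.a * y.a, x.b * y.b, y.s⟩ := rfl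

theorem mat_mul (p q : P) : mat (p * q) = mat p * mat q := by
  obtain ⟨a, b, s⟩ := p
  obtain ⟨c, d, t⟩ := q
  rw [mulP]
  cases s <;> cases t <;> simp only [mat, fromBlocks_multiply, if_true, Bool.false_eq_true, if_false,
    fromBlocks_inj] <;> refine ⟨?_, ?_, ?_, ?_⟩ <;> ext i j <;> fin_cases i <;> fin_cases j <;>
    simp [bl, Matrix.mul_apply, Fin.sum_univ_two]

def rho : P →* S4 := MonoidHom.mk' (fun p => ⟨mat p, mat_mem p⟩) fun p q => Subtype.ext (mat_mul p q)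

theorem rho_inj : Function.Injective rho := by
  refine (injective_iff_map_eq_one _).2 fun p hp => ?_
  have k : ∀ p : P, mat p = 1 → p = 1 := by decide +kernel
  exact k p (congrArg Subtype.val hp)

theorem blk (s : Bool) (g : S4) (h : ∀ i j : Fin 2, (decide (i ≠ j) ≠ s) → g.1 (.inl i) (.inl j) = 0 ∧
    g.1 (.inl i) (.inr j) = 0 ∧ g.1 (.inr i) (.inl j) = 0 ∧ g.1 (.inr i) (.inr j) = 0) :
    ∃ p, rho p = g := by
  have hg := SymplecticGroup.mem_iff.1 g.2
  have e0 := congrFun (congrFun hg (.inr 0)) (.inl 0)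
  have e1 := congrFun (congrFun hg (.inr 1)) (.inl 1)
  cases s
  · obtain ⟨a1, a2, a3, a4⟩ := h 0 1 (by decide)
    obtain ⟨b1, b2, b3, b4⟩ := h 1 0 (by decide)
    simp [Matrix.mul_apply, Fintype.sum_sum_type, Fin.sum_univ_two, J, a1, a2, a3, a4, b1, b2, b3, b4] at e0 e1
    refine ⟨⟨⟨!![g.1 (.inl 0) (.inl 0), g.1 (.inl 0) (.inr 0); g.1 (.inr 0) (.inl 0), g.1 (.inr 0) (.inr 0)], ?_⟩,
      ⟨!![g.1 (.inl 1) (.inl 1), g.1 (.inl 1) (.inr 1); g.1 (.inr 1) (.inl 1), g.1 (.inr 1) (.inr 1)], ?_⟩, false⟩,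
      Subtype.ext ?_⟩
    · rw [det_fin_two_of]; linear_combination e0
    · rw [det_fin_two_of]; linear_combination e1
    · change mat _ = _
      ext (i | i) (j | j) <;> fin_cases i <;> fin_cases j <;> simp [mat, bl, a1, a2, a3, a4, b1, b2, b3, b4]
  · obtain ⟨a1, a2, a3, a4⟩ := h 0 0 (by decide)
    obtain ⟨b1, b2, b3, b4⟩ := h 1 1 (by decide)
    simp [Matrix.mul_apply, Fintype.sum_sum_type, Fin.sum_univ_two, J, a1, a2, a3, a4, b1, b2, b3, b4] at e0 e1
    refine ⟨⟨⟨!![g.1 (.inl 0) (.inl 1), g.1 (.inl 0) (.inr 1); g.1 (.inr 0) (.inl 1), g.1 (.inr 0) (.inr 1)], ?_⟩,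
      ⟨!![g.1 (.inl 1) (.inl 0), g.1 (.inl 1) (.inr 0); g.1 (.inr 1) (.inl 0), g.1 (.inr 1) (.inr 0)], ?_⟩, true⟩,
      Subtype.ext ?_⟩
    · rw [det_fin_two_of]; linear_combination e0
    · rw [det_fin_two_of]; linear_combination e1
    · change mat _ = _
      ext (i | i) (j | j) <;> fin_cases i <;> fin_cases j <;> simp [mat, bl, a1, a2, a3, a4, b1, b2, b3, b4]

def dz : Fin 2 ⊕ Fin 2 → ZMod 3 := Sum.elim ![1, -1] ![1, -1]

theorem mat_z : mat z0 = diagonal dz := by decide +kernel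
theorem mat_k : mat k0 = -1 := by decide +kernel

theorem comm1 (g : S4) (h : g * rho z0 = rho z0 * g) : ∃ p, rho p = g := by
  have e : g.1 * diagonal dz = diagonal dz * g.1 := by
    rw [← mat_z]; exact congrArg Subtype.val h
  have k : ∀ x y z : ZMod 3, y ≠ z → x * y = z * x → x = 0 := by decide
  have f : ∀ i j, dz j ≠ dz i → g.1 i j = 0 := fun i j n => k _ _ _ n (by
    have := congrFun (congrFun e i) j
    rwa [mul_diagonal, diagonal_mul] at this)
  refine blk false g fun i j hij => ⟨f _ _ ?_, f _ _ ?_, f _ _ ?_, f _ _ ?_⟩ <;> revert i j <;> decide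

theorem comm2 (g : S4) (h : g * rho z0 = rho z0 * g * rho k0) : ∃ p, rho p = g := by
  have e : g.1 * diagonal dz = -(diagonal dz * g.1) := by
    rw [← mat_z, ← mul_neg_one, ← mat_k]; exact congrArg Subtype.val h
  have k : ∀ x y z : ZMod 3, y ≠ -z → x * y = -(z * x) → x = 0 := by decide
  have f : ∀ i j, dz j ≠ -dz i → g.1 i j = 0 := fun i j n => k _ _ _ n (by
    have := congrFun (congrFun e i) j
    rwa [Matrix.neg_apply, mul_diagonal, diagonal_mul] at this)
  refine blk true g fun i j hij => ⟨f _ _ ?_, f _ _ ?_, f _ _ ?_, f _ _ ?_⟩ <;> revert i j <;> decide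

theorem cen (g : S4) : g ∈ center S4 ↔ g = 1 ∨ g = rho k0 := by
  constructor
  · intro hg
    have c := mem_center_iff.1 hg
    obtain ⟨p, rfl⟩ := comm1 g (c _).symm
    have d : ∀ q, q * p = p * q := fun q => rho_inj (by rw [map_mul, map_mul, c])
    have k : ∀ p : P, ⟨qi, 1, false⟩ * p = p * ⟨qi, 1, false⟩ → ⟨qj, 1, false⟩ * p = p * ⟨qj, 1, false⟩ →
        tq 1 * p = p * tq 1 → p = 1 ∨ p = k0 := by decide +kernel
    rcases k p (d _) (d _) (d _) with rfl | rfl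
    · exact .inl (map_one _)
    · exact .inr rfl
  · rintro (rfl | rfl)
    · exact one_mem _
    · refine mem_center_iff.2 fun x => Subtype.ext ?_
      change x.1 * mat k0 = mat k0 * x.1
      rw [mat_k, mul_neg_one, neg_one_mul]

theorem base : Hy ((QuotientGroup.mk' (center S4)).comp rho) := by
  refine ⟨fun p => ?_, fun g => ?_⟩
  · rw [MonoidHom.comp_apply, QuotientGroup.mk'_apply, QuotientGroup.eq_one_iff, cen, ← map_one rho,
      rho_inj.eq_iff, rho_inj.eq_iff]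
  · obtain ⟨g, rfl⟩ := QuotientGroup.mk'_surjective (center S4) g
    rw [MonoidHom.comp_apply, ← map_mul, ← map_mul, eq_comm, QuotientGroup.mk'_apply, QuotientGroup.mk'_apply,
      QuotientGroup.eq, cen]
    constructor
    · rintro (e | e)
      · obtain ⟨p, rfl⟩ := comm1 g (inv_mul_eq_one.1 e).symm
        exact ⟨p, rfl⟩
      · obtain ⟨p, rfl⟩ := comm2 g (inv_mul_eq_iff_eq_mul.1 e)
        exact ⟨p, rfl⟩
    · rintro ⟨p, hp⟩
      have k : ∀ p : P, (z0 * p)⁻¹ * (p * z0) = 1 ∨ (z0 * p)⁻¹ * (p * z0) = k0 := by decide +kernel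
      obtain ⟨c, hc, rfl⟩ := (QuotientGroup.mk'_eq_mk' _).1 hp
      have cc := mem_center_iff.1 hc
      have : (rho z0 * (rho p * c))⁻¹ * (rho p * c * rho z0) = rho ((z0 * p)⁻¹ * (p * z0)) := by
        rw [map_mul, map_inv, map_mul, map_mul, mul_assoc (rho p), ← cc (rho z0), ← mul_assoc (rho z0),
          ← mul_assoc (rho p), cc (rho z0 * rho p), cc (rho p * rho z0)]
        group
      rw [this]
      rcases k p with e | e <;> rw [e]
      · exact .inl (map_one _)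
      · exact .inr rfl

theorem mod1 {F : Type*} [Field F] [Fintype F] (hF : Fintype.card F = 3) : ∃ ψ : P →* Cfsg.PSp 2 F, Hy ψ := by
  have : Fact (Nat.Prime 3) := ⟨Nat.prime_three⟩
  let e : Cfsg.PSp 2 (ZMod 3) ≃* Cfsg.PSp 2 F := H22.quotCenterCongr (H22.spCongr (H22.zmodEquiv hF).symm _)
  refine ⟨e.toMonoidHom.comp ((QuotientGroup.mk' (center S4)).comp rho), fun p => ?_, fun g => ?_⟩
  · rw [← base.ker, MonoidHom.comp_apply]
    exact e.map_eq_one_iff
  · obtain ⟨g, rfl⟩ := e.surjective g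
    rw [MonoidHom.comp_apply, MulEquiv.coe_toMonoidHom, ← map_mul, ← map_mul, e.injective.eq_iff, base.cz]
    exact ⟨fun ⟨p, hp⟩ => ⟨p, congrArg e hp⟩, fun ⟨p, hp⟩ => ⟨p, e.injective hp⟩⟩

end H23.Mod1
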