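import Cfsg.Agent.H23.Fam

/-! Transvections in subgroups; stabilisers of decompositions in `SL` (blocks of dimension `≥ 2`). -/

set_option autoImplicit false

namespace H23

open Module H22 Cfsg Cfsg.Geo

variable {F V : Type*} [Field F] [AddCommGroup V] [Module F V]

/-- `H` contains the map `x ↦ x + φ x • u`. -/
def TIn (H : Subgroup (V ≃ₗ[F] V)) (φ : Dual F V) (u : V) : Prop :=
  ∃ g ∈ H, ∀ x, g x = x + φ x • u

section TIn

variable {H K : Subgroup (V ≃ₗ[F] V)} {φ ψ : Dual F V} {u w : V}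

theorem TIn.mono (h : TIn H φ u) (hle : H ≤ K) : TIn K φ u :=
  let ⟨g, hg, h1⟩ := h; ⟨g, hle hg, h1⟩

theorem tIn_of_tv {h0 : φ u = 0} (h : tv φ u h0 ∈ H) : TIn H φ u := ⟨_, h, fun _ => rfl⟩

theorem TIn.tv_mem (h : TIn H φ u) (h0 : φ u = 0) : tv φ u h0 ∈ H :=
  let ⟨_, hg, h1⟩ := h; mem_of_eq_tv hg h0 h1

theorem tIn_of_forall (h0 : φ u = 0) (h : ∀ g : V ≃ₗ[F] V, (∀ x, g x = x + φ x • u) → g ∈ H) :
    TIn H φ u := tIn_of_tv (h0 := h0) (h _ fun _ => rfl)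

theorem TIn.congr (h : TIn H φ u) (h1 : ∀ x, φ x • u = ψ x • w) : TIn H ψ w :=
  let ⟨g, hg, h2⟩ := h; ⟨g, hg, fun x => by rw [h2, h1]⟩

theorem tIn_zero_left (H : Subgroup (V ≃ₗ[F] V)) (u : V) : TIn H 0 u := ⟨1, H.one_mem, by simp⟩

theorem tIn_zero_right (H : Subgroup (V ≃ₗ[F] V)) (φ : Dual F V) : TIn H φ 0 :=
  ⟨1, H.one_mem, by simp⟩

theorem TIn.conj (h : TIn H φ u) {g : V ≃ₗ[F] V} (hg : g ∈ H) :
    TIn H (φ ∘ₗ g.symm.toLinearMap) (g u) := by
  obtain ⟨k, hk, h1⟩ := h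
  exact ⟨g * k * g⁻¹, H.mul_mem (H.mul_mem hg hk) (H.inv_mem hg), fun x => by simp [h1]⟩

theorem TIn.conj' (h : TIn H φ (u)) {g : V ≃ₗ[F] V} (hg : g ∈ H) :
    TIn H (φ ∘ₗ g.toLinearMap) (g.symm u) := h.conj (H.inv_mem hg)

theorem TIn.add_left (h : TIn H φ u) (h' : TIn H ψ u) (h0 : φ u = 0) : TIn H (φ + ψ) u := by
  obtain ⟨k, hk, h1⟩ := h
  obtain ⟨l, hl, h2⟩ := h'
  exact ⟨k * l, H.mul_mem hk hl, fun x => by simp [h1, h2, h0]; module⟩

theorem TIn.add_right (h : TIn H φ u) (h' : TIn H φ w) (h0 : φ w = 0) : TIn H φ (u + w) := by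
  obtain ⟨k, hk, h1⟩ := h
  obtain ⟨l, hl, h2⟩ := h'
  exact ⟨k * l, H.mul_mem hk hl, fun x => by simp [h1, h2, h0]; module⟩

theorem TIn.neg (h : TIn H φ u) (h0 : φ u = 0) : TIn H (-φ) u := by
  obtain ⟨k, hk, h1⟩ := h
  refine ⟨k⁻¹, H.inv_mem hk, fun x => k.injective ?_⟩
  simp [h1 x, h1 u, h0]

theorem TIn.sub_left (h : TIn H φ u) (h' : TIn H ψ u) (h0 : φ u = 0) (h1 : ψ u = 0) :
    TIn H (φ - ψ) u := by
  rw [sub_eq_add_neg]; exact h.add_left (h'.neg h1) h0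

theorem tIn_smul {c : F} : TIn H (c • φ) u ↔ TIn H φ (c • u) :=
  ⟨fun h => h.congr fun x => by simp [smul_smul, mul_comm],
    fun h => h.congr fun x => by simp [smul_smul, mul_comm]⟩

theorem TIn.neg_right (h : TIn H φ u) (h0 : φ u = 0) : TIn H φ (-u) :=
  (h.neg h0).congr fun x => by simp

theorem TIn.sub_right (h : TIn H φ u) (h' : TIn H φ w) (h0 : φ w = 0) : TIn H φ (u - w) := by
  rw [sub_eq_add_neg]; exact h.add_right (h'.neg_right h0) (by simp [h0])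

theorem TIn.symm_apply {g : V ≃ₗ[F] V} (h1 : ∀ x, g x = x + φ x • u) (h0 : φ u = 0) (x : V) :
    g.symm x = x - φ x • u := by
  rw [LinearEquiv.symm_apply_eq]; simp [h1, h0]

/-- the commutator relation -/
theorem TIn.comm (h : TIn H φ u) (h' : TIn H ψ w) (h0 : φ u = 0) (h1 : ψ w = 0) (h2 : ψ u = 0) :
    TIn H (φ w • ψ) u := by
  obtain ⟨k, hk, h3⟩ := h
  have h4 := (h'.conj hk).congr (ψ := ψ) (w := w + φ w • u) fun x => by
    simp [TIn.symm_apply h3 h0, h2, h3 w]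
  exact tIn_smul.2 (by simpa using h4.sub_right h' h1)

theorem TIn.sum_left {ι : Type*} (s : Finset ι) {f : ι → Dual F V} (h : ∀ i ∈ s, TIn H (f i) u)
    (h0 : ∀ i ∈ s, f i u = 0) : TIn H (∑ i ∈ s, f i) u := by
  classical
  induction s using Finset.induction_on with
  | empty => simpa using tIn_zero_left H u
  | insert a s ha ih =>
    rw [Finset.sum_insert ha]
    exact (h a (by simp)).add_left (ih (fun i hi => h i (by simp [hi]))
      fun i hi => h0 i (by simp [hi])) (h0 a (by simp))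

theorem tIn_SLv [FiniteDimensional F V] (h : φ u = 0) : TIn (SLv F V) φ u :=
  tIn_of_tv (tv_mem_SLv h)

theorem SLv_le_of_tIn [FiniteDimensional F V] (h : ∀ φ u, φ u = 0 → TIn H φ u) : SLv F V ≤ H :=
  SLv_le_of_tv fun φ u h0 => (h φ u h0).tv_mem h0

theorem mem_TC_iff : u ∈ TC H ↔ ∀ φ : Dual F V, φ u = 0 → TIn H φ u :=
  ⟨fun h φ h0 => tIn_of_tv (h φ h0), fun h φ h0 => (h φ h0).tv_mem h0⟩

end TIn

/-- projections attached to a direct sum decomposition -/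
structure Prj {ι : Type*} [Fintype ι] (D : ι → Submodule F V) (π : ι → V →ₗ[F] V) : Prop where
  mem : ∀ i x, π i x ∈ D i
  self : ∀ i, ∀ x ∈ D i, π i x = x
  zero : ∀ i j, i ≠ j → ∀ x ∈ D j, π i x = 0
  sum : ∀ x, ∑ i, π i x = x

section Prj

variable {ι : Type*} [Fintype ι] {D : ι → Submodule F V} {π : ι → V →ₗ[F] V}

theorem exists_prj (h1 : iSupIndep D) (h2 : iSup D = ⊤) : ∃ π, Prj D π := by
  classical
  have hI := DirectSum.isInternal_submodule_of_iSupIndep_of_iSup_eq_top h1 h2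
  let π : ∀ i, V →ₗ[F] D i := fun i => DirectSum.component F _ (fun i => D i) i ∘ₗ
      (LinearEquiv.ofBijective (DirectSum.coeLinearMap D) hI).symm.toLinearMap
  have h3 : ∀ i, ∀ x ∈ D i, (π i x : V) = x := fun i x hx =>
    congrArg Subtype.val (hI.ofBijective_coeLinearMap_of_mem hx)
  have h4 : ∀ i j, i ≠ j → ∀ x ∈ D j, (π i x : V) = 0 := fun i j hij x hx =>
    congrArg Subtype.val (hI.ofBijective_coeLinearMap_of_mem_ne hij.symm hx)
  refine ⟨fun i => (D i).subtype ∘ₗ π i, fun i x => (π i x).2, h3, h4, fun x => ?_⟩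
  have hx : x ∈ iSup D := h2 ▸ Submodule.mem_top
  induction hx using Submodule.iSup_induction' with
  | mem i x hx =>
    exact (Finset.sum_eq_single i (fun j _ hj => h4 j i hj x hx) (by simp)).trans (h3 i x hx)
  | zero => simp
  | add x y _ _ hx hy => simp only [map_add, Finset.sum_add_distrib, hx, hy]

theorem Prj.idem (h : Prj D π) (i : ι) (x : V) : π i (π i x) = π i x := h.self i _ (h.mem i x)

theorem Prj.orth (h : Prj D π) {i j : ι} (hij : i ≠ j) (x : V) : π i (π j x) = 0 :=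
  h.zero i j hij _ (h.mem j x)

theorem Prj.mem_of (h : Prj D π) {i : ι} {x : V} (hx : ∀ j, j ≠ i → π j x = 0) : x ∈ D i := by
  rw [← h.sum x, Finset.sum_eq_single i (fun j _ hj => hx j hj) (by simp)]
  exact h.mem i x

theorem Prj.eq_zero (h : Prj D π) {x : V} (hx : ∀ j, π j x = 0) : x = 0 := by
  rw [← h.sum x]; simp [hx]

theorem Prj.eq_of_mem (h : Prj D π) {i j : ι} {x : V} (hx : x ≠ 0) (hi : x ∈ D i) (hj : x ∈ D j) :
    i = j := by
  by_contra hij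
  exact hx ((h.self i x hi).symm.trans (h.zero i j hij x hj))

theorem Prj.dual_sum (h : Prj D π) (φ : Dual F V) : ∑ i, φ ∘ₗ π i = φ := by
  ext x; simp [← map_sum, h.sum]

theorem Prj.injective (h : Prj D π) (h0 : ∀ i, D i ≠ ⊥) : Function.Injective D := fun i j hij => by
  obtain ⟨x, hx, hx0⟩ := Submodule.exists_mem_ne_zero_of_ne_bot (h0 i)
  exact h.eq_of_mem hx0 hx (hij ▸ hx)

/-- a subspace contained in the union of the members lies in one of them -/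
theorem Prj.exists_le [Nonempty ι] (h : Prj D π) {S : Submodule F V} (hS : ∀ x ∈ S, ∃ j, x ∈ D j) :
    ∃ j, S ≤ D j := by
  by_cases h0 : S = ⊥
  · exact ⟨Classical.arbitrary ι, by simp [h0]⟩
  obtain ⟨x, hx, hx0⟩ := Submodule.exists_mem_ne_zero_of_ne_bot h0
  obtain ⟨j, hj⟩ := hS x hx
  refine ⟨j, fun y hy => ?_⟩
  obtain ⟨k, hk⟩ := hS y hy
  obtain ⟨l, hl⟩ := hS _ (S.add_mem hx hy)
  by_cases hjk : j = k
  · exact hjk ▸ hk
  by_cases hjl : j = l
  · subst hjl; simpa using (D j).sub_mem hl hj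
  have := h.zero j l hjl _ hl
  rw [map_add, h.self j x hj, h.zero j k hjk y hk, add_zero] at this
  exact absurd this hx0

theorem Prj.mem_decL [FiniteDimensional F V] (h : Prj D π) {m : ℕ} (hm : ∀ i, finrank F (D i) = m)
    (hm0 : 0 < m) {g : V ≃ₗ[F] V} (hg : ∀ i, ∀ x ∈ D i, ∃ j, g x ∈ D j) : g ∈ decL D :=
  mem_decL_of_le hm (h.injective fun i h0 => by have := hm i; rw [h0, finrank_bot] at this; omega)
    fun i => haveI : Nonempty ι := ⟨i⟩; h.exists_le (by rintro _ ⟨x, hx, rfl⟩; exact hg i x hx)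

/-- a map `x ↦ x + φ x • u` with `u ∈ D i` and `φ` supported on `D i` stabilises every member -/
theorem Prj.mem_decL_of [FiniteDimensional F V] (h : Prj D π) {i : ι} {φ : Dual F V} {u : V}
    (hu : u ∈ D i) {g : V ≃ₗ[F] V} (hg : ∀ x, g x = x + φ (π i x) • u) : g ∈ decL D :=
  mem_decL_of_stab fun j => mem_stabL_of_le.2 fun x hx => by
    by_cases hij : i = j
    · subst hij; rw [hg]; exact (D i).add_mem hx ((D i).smul_mem _ hu)
    · simpa [hg, h.zero i j hij x hx]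

theorem Prj.tIn [FiniteDimensional F V] (h : Prj D π) {i : ι} {φ : Dual F V} {u : V}
    (hu : u ∈ D i) (h0 : φ u = 0) : TIn (decL D ⊓ SLv F V) (φ ∘ₗ π i) u := by
  have h1 : (φ ∘ₗ π i) u = 0 := by simpa [h.self i u hu]
  exact tIn_of_tv (h0 := h1) ⟨h.mem_decL_of hu fun _ => rfl, tv_mem_SLv h1⟩

theorem Prj.exists_dilation [FiniteDimensional F V] (h : Prj D π) {i : ι} {φ : Dual F V} {u : V}
    (hu : u ∈ D i) (h0 : φ u = 1) {a : F} (ha : a ≠ 0) : ∃ g ∈ decL D,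
      LinearMap.det g.toLinearMap = a ∧ ∀ x, g x = x + ((a - 1) * φ (π i x)) • u := by
  obtain ⟨g, h1, h2⟩ := H23.exists_dilation (φ := φ ∘ₗ π i) (u := u) (by simpa [h.self i u hu]) ha
  exact ⟨g, h.mem_decL_of (φ := (a - 1) • φ) hu h2, h1, h2⟩

theorem exists_dual_one {u : V} (hu : u ≠ 0) : ∃ φ : Dual F V, φ u = 1 := by
  obtain ⟨φ, -, h⟩ := exists_dual_eq_one (F := F) (W := ⊥) (x := u) (by simpa)
  exact ⟨φ, h⟩

theorem Prj.exists_perm [FiniteDimensional F V] (h : Prj D π) {m : ℕ}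
    (hm : ∀ i, finrank F (D i) = m) (hm0 : 0 < m) (s : Equiv.Perm ι) :
    ∃ g ∈ decL D ⊓ SLv F V, ∀ i, (D i).map g.toLinearMap = D (s i) := by
  have e : ∀ i j, D i ≃ₗ[F] D j := fun i j => LinearEquiv.ofFinrankEq _ _ (by rw [hm, hm])
  let f : V →ₗ[F] V := ∑ i, (D (s i)).subtype ∘ₗ (e i (s i)).toLinearMap ∘ₗ (π i).codRestrict _ (h.mem i)
  have hf : ∀ i x, π (s i) (f x) = e i (s i) ⟨π i x, h.mem i x⟩ := fun i x => by
    simp only [f, LinearMap.coe_sum, Finset.sum_apply, map_sum]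
    exact (Finset.sum_eq_single i (fun j _ hj => h.zero _ _ (s.injective.ne hj.symm) _
      (Subtype.property _)) (by simp)).trans (h.self _ _ (Subtype.property _))
  have hinj : Function.Injective f := by
    rw [← LinearMap.ker_eq_bot, LinearMap.ker_eq_bot']
    intro x hx
    refine h.eq_zero fun j => ?_
    have := hf j x
    rw [hx, map_zero, eq_comm, Submodule.coe_eq_zero, LinearEquiv.map_eq_zero_iff] at this
    exact congrArg Subtype.val this
  let g₀ := LinearEquiv.ofInjectiveEndo f hinj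
  have h0 : ∀ i, (D i).map g₀.toLinearMap = D (s i) := fun i => map_eq_of_le (by
    rintro _ ⟨x, hx, rfl⟩
    refine h.mem_of fun j hj => ?_
    obtain ⟨j, rfl⟩ := s.surjective j
    have : (⟨π j x, h.mem j x⟩ : D j) = 0 :=
      Subtype.ext (h.zero j i (fun h' => hj (h' ▸ rfl)) x hx)
    change π (s j) (f x) = 0
    rw [hf, this]; simp) (by rw [hm, hm])
  cases isEmpty_or_nonempty ι with
  | inl _ => exact ⟨1, Subgroup.one_mem _, fun i => isEmptyElim i⟩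
  | inr hι =>
    obtain ⟨i⟩ := hι
    obtain ⟨u, hu, hu0⟩ := Submodule.exists_mem_ne_zero_of_ne_bot (p := D i) fun h0 => by
      have := hm i; rw [h0, finrank_bot] at this; omega
    obtain ⟨φ, hφ⟩ := exists_dual_one (F := F) hu0
    obtain ⟨d, hd, hd1, hd2⟩ := h.exists_dilation hu hφ (inv_ne_zero (det_equiv_ne_zero g₀))
    have h1 : ∀ j, (D j).map d.toLinearMap = D j := fun j => mem_stabL_of_le.2 fun x hx => by
      by_cases hij : i = j
      · subst hij; rw [hd2]; exact (D i).add_mem hx ((D i).smul_mem _ hu)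
      · simpa [hd2, h.zero i j hij x hx]
    refine ⟨g₀ * d, ⟨(decL D).mul_mem ⟨s, h0⟩ hd, mem_SLv.2 ?_⟩, fun j => ?_⟩
    · change LinearMap.det (g₀.toLinearMap * d.toLinearMap) = 1
      rw [map_mul, hd1, mul_inv_cancel₀ (det_equiv_ne_zero g₀)]
    · change (D j).map (g₀.toLinearMap ∘ₗ d.toLinearMap) = _
      rw [Submodule.map_comp, h1, h0]

theorem exists_perm_pair {α : Type*} {i j k l : α} (h : i ≠ j) (h' : k ≠ l) :
    ∃ s : Equiv.Perm α, s i = k ∧ s j = l := by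
  classical
  refine ⟨Equiv.swap (Equiv.swap i k j) l * Equiv.swap i k, ?_, by simp⟩
  rw [Equiv.Perm.mul_apply, Equiv.swap_apply_left, Equiv.swap_apply_of_ne_of_ne _ h']
  intro h1
  exact h ((Equiv.swap i k).injective (by rw [← h1]; simp))

variable [FiniteDimensional F V] {H : Subgroup (V ≃ₗ[F] V)} {m : ℕ}

/-- all cross transvections between two members force `SL` -/
theorem Prj.SLv_le_of_cross (h : Prj D π) (hm : ∀ i, finrank F (D i) = m) (hm0 : 0 < m)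
    (hH : decL D ⊓ SLv F V ≤ H) {i j : ι} (hij : i ≠ j)
    (hc : ∀ u ∈ D i, ∀ φ : Dual F V, TIn H (φ ∘ₗ π j) u) : SLv F V ≤ H := by
  have h1 : ∀ k l, k ≠ l → ∀ u ∈ D k, ∀ φ : Dual F V, TIn H (φ ∘ₗ π l) u := by
    intro k l hkl u hu φ
    obtain ⟨s, rfl, rfl⟩ := exists_perm_pair hij hkl
    obtain ⟨g, hg, hs⟩ := h.exists_perm hm hm0 s
    obtain ⟨u, hu', rfl⟩ := (hs i).ge hu
    refine ((hc u hu' (φ ∘ₗ g.toLinearMap)).conj (hH hg)).congr fun x => ?_
    obtain ⟨x, rfl⟩ := g.surjective x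
    have : g (π j x) = π (s j) (g x) := by
      conv_rhs => rw [← h.sum x, map_sum, map_sum]
      rw [Finset.sum_eq_single j (fun k _ hk => h.zero _ _ (s.injective.ne hk.symm) _
        (hs k ▸ ⟨_, h.mem k x, rfl⟩)) (by simp)]
      exact (h.self _ _ (hs j ▸ ⟨_, h.mem j x, rfl⟩)).symm
    simp [this]
  refine SLv_le_of_TC (top_le_iff.1 fun x _ => ?_)
  rw [← h.sum x]
  refine Submodule.sum_mem _ fun k _ => mem_TC_iff.2 fun φ h0 => ?_
  rw [← h.dual_sum φ]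
  refine TIn.sum_left _ (fun l _ => ?_) fun l _ => ?_
  · by_cases hkl : k = l
    · subst hkl; exact (h.tIn (h.mem k x) h0).mono hH
    · exact h1 k l hkl _ (h.mem k x) φ
  · by_cases hkl : l = k
    · subst hkl; simpa [h.idem]
    · simp [h.orth hkl]

theorem exists_notMem_span {W : Submodule F V} (h2 : 2 ≤ finrank F W) (u : V) :
    ∃ v ∈ W, v ∉ F ∙ u := by
  by_contra! hc
  have := Submodule.finrank_mono (show W ≤ F ∙ u from hc)
  have := finrank_span_le_card (R := F) ({u} : Set V)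
  simp at this; omega

theorem Prj.SLv_le_of_tIn (h : Prj D π) (hm : ∀ i, finrank F (D i) = m) (hm2 : 2 ≤ m)
    (hH : decL D ⊓ SLv F V ≤ H) {i j : ι} (hij : i ≠ j) {u w : V} (hu : u ∈ D i) (hu0 : u ≠ 0)
    (hw : w ∈ D j) {χ : Dual F V} (hχ : χ w ≠ 0) (hc : TIn H (χ ∘ₗ π j) u) : SLv F V ≤ H := by
  -- first move the centre
  have h1 : ∀ u ∈ D i, ∀ v ∈ D i, v ∉ F ∙ u → u ≠ 0 → TIn H (χ ∘ₗ π j) u →
      TIn H (χ ∘ₗ π j) v := fun u hu v hv hvu hu0 ht => by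
    obtain ⟨φ, h1, h2⟩ := exists_dual_pair (Form.notMem_sup_span_swap (S := ⊥) (a := u) (b := v)
      (by simpa) (by simpa) |> fun h => by simpa using h : u ∉ F ∙ v)
    simpa [h.self i u hu, h2] using ((h.tIn hv h1).mono hH).comm ht (by simp [h.self i v hv, h1])
      (by simp [h.zero j i hij.symm u hu]) (by simp [h.zero j i hij.symm v hv])
  have h2 : ∀ v ∈ D i, TIn H (χ ∘ₗ π j) v := fun v hv => by
    by_cases hvu : v ∈ F ∙ u
    · obtain ⟨z, hz, hzu⟩ := exists_notMem_span (hm i ▸ hm2) u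
      have := (h1 u hu (v + z) ((D i).add_mem hv hz) (fun h' => hzu (by
        simpa using Submodule.sub_mem _ h' hvu)) hu0 hc).sub_right (h1 u hu z hz hzu hu0 hc)
        (by simp [h.zero j i hij.symm z hz])
      simpa using this
    · exact h1 u hu v hv hvu hu0 hc
  refine h.SLv_le_of_cross hm (by omega) hH hij fun v hv φ => ?_
  -- now move the axis
  have h3 := (h2 ((φ w / χ w) • v) ((D i).smul_mem _ hv))
  have h4 := (h2 ((χ w)⁻¹ • v) ((D i).smul_mem _ hv)).comm ((h.tIn (φ := φ - (φ w / χ w) • χ) hw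
    (by simp [hχ])).mono hH) (by simp [h.zero j i hij.symm v hv]) (by simp [h.self j w hw, hχ])
    (by simp [h.zero j i hij.symm v hv])
  rw [← tIn_smul] at h3 h4
  refine (h3.add_left h4 (by simp [h.zero j i hij.symm v hv])).congr fun x => ?_
  simp only [LinearMap.add_apply, LinearMap.smul_apply, LinearMap.comp_apply, h.self j w hw,
    LinearMap.sub_apply, smul_eq_mul]
  congr 1; field_simp; ring

theorem Prj.SLv_le_of_tIn' (h : Prj D π) (hm : ∀ i, finrank F (D i) = m) (hm2 : 2 ≤ m)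
    (hH : decL D ⊓ SLv F V ≤ H) {j : ι} {u w : V} (hu : u ∉ D j) (hw : w ∈ D j) {χ : Dual F V}
    (hχ : χ w ≠ 0) (h0 : χ (π j u) = 0) (hc : TIn H (χ ∘ₗ π j) u) : SLv F V ≤ H := by
  obtain ⟨b, hb, hbu⟩ : ∃ b, b ≠ j ∧ π b u ≠ 0 := by
    by_contra! hc; exact hu (h.mem_of hc)
  obtain ⟨v, hv, hvu⟩ := exists_notMem_span (hm b ▸ hm2) (π b u)
  obtain ⟨φ, h1, h2⟩ := exists_dual_pair (Form.notMem_sup_span_swap (S := ⊥) (a := π b u) (b := v)
    (by simpa) (by simpa) |> fun h => by simpa using h : π b u ∉ F ∙ v)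
  refine h.SLv_le_of_tIn hm hm2 hH hb hv (by rintro rfl; simp at hvu) hw hχ ?_
  simpa [h2] using ((h.tIn hv h1).mono hH).comm hc (by simp [h.self b v hv, h1]) h0
    (by simp [h.zero j b hb.symm v hv])

theorem exists_dual_two {W : Submodule F V} (h3 : 3 ≤ finrank F W) (u v : V) :
    ∃ χ : Dual F V, χ u = 0 ∧ χ v = 0 ∧ ∃ w ∈ W, χ w = 1 := by
  obtain ⟨w, hw, hw'⟩ : ∃ w ∈ W, w ∉ Submodule.span F {x | x ∈ [u, v]} := by
    by_contra! hc
    have := Submodule.finrank_mono (show W ≤ _ from hc)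
    have := finrank_span_list_le (F := F) [u, v]
    simp only [List.length_cons, List.length_nil] at this; omega
  obtain ⟨χ, h1, h2⟩ := exists_dual_eq_one hw'
  exact ⟨χ, h1 _ (Submodule.subset_span (by simp)), h1 _ (Submodule.subset_span (by simp)), w, hw, h2⟩

theorem exists_ne_zero_one [Fintype F] (h : 3 ≤ Fintype.card F) : ∃ a : F, a ≠ 0 ∧ a ≠ 1 := by
  classical
  by_contra! hc
  have : (Finset.univ : Finset F) ⊆ {0, 1} := fun a _ => by
    by_cases h : a = 0 <;> simp [h, hc]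
  have := (Finset.card_le_card this).trans Finset.card_le_two
  simp at this; omega

/-- conjugating by dilations in two members -/
theorem Prj.tIn_dil (h : Prj D π) (hH : decL D ⊓ SLv F V ≤ H) {a k : ι}
    {u w w' : V} {φ χ : Dual F V} (hw : w ∈ D a) (hw' : w' ∈ D k) (hak : a ≠ k) (h1 : φ w = 1)
    (h2 : χ w' = 1) (h3 : φ (π a u) = 0) (h4 : χ (π k u) = 0) (h0 : φ u = 0) (ht : TIn H φ u)
    {c : F} (hc : c ≠ 0) :
    TIn H ((c - 1) • φ ∘ₗ π a + ((c⁻¹ - 1) * φ w') • χ ∘ₗ π k) u := by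
  obtain ⟨d, hd, hd1, hd2⟩ := h.exists_dilation hw h1 hc
  obtain ⟨e, he, he1, he2⟩ := h.exists_dilation hw' h2 (inv_ne_zero hc)
  have hm : d * e ∈ H := hH ⟨(decL D).mul_mem hd he, mem_SLv.2 (by
    change LinearMap.det (d.toLinearMap * e.toLinearMap) = 1
    rw [map_mul, hd1, he1, mul_inv_cancel₀ hc])⟩
  have h5 := ht.conj' hm
  have h6 : (d * e).symm u = u := by
    rw [LinearEquiv.symm_apply_eq]; simp [hd2, he2, h3, h4]
  rw [h6] at h5
  refine (h5.sub_left ht (by simp [hd2, he2, h3, h4, h0]) h0).congr fun x => ?_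
  simp only [LinearMap.sub_apply, LinearMap.comp_apply, LinearEquiv.coe_coe, LinearEquiv.mul_apply,
    hd2, he2, map_add, map_smul, h.zero a k hak w' hw', h1, LinearMap.add_apply,
    LinearMap.smul_apply, smul_eq_mul, map_zero]
  congr 1; ring

theorem Prj.SLv_le [Fintype F] (h : Prj D π) (hm : ∀ i, finrank F (D i) = m)
    (hm2 : 3 ≤ m ∨ (m = 2 ∧ 3 ≤ Fintype.card ι ∧ 3 ≤ Fintype.card F))
    (hH : decL D ⊓ SLv F V ≤ H) {g : V ≃ₗ[F] V} (hg : g ∈ H) (hg' : g ∉ decL D) : SLv F V ≤ H := by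
  have h2 : 2 ≤ m := by omega
  obtain ⟨i, v, hv, hgv⟩ : ∃ i, ∃ v ∈ D i, ∀ j, g v ∉ D j := by
    by_contra! hc; exact hg' (h.mem_decL hm (by omega) hc)
  obtain ⟨z, hz, hzv⟩ := exists_notMem_span (hm i ▸ h2) v
  obtain ⟨φ₀, h3, h4⟩ := exists_dual_pair hzv
  have ht := ((h.tIn hv h3).mono hH).conj hg
  set φ := (φ₀ ∘ₗ π i) ∘ₗ g.symm.toLinearMap
  set u := g v
  have h0 : φ u = 0 := by simp [φ, u, h.self i v hv, h3]
  have hφ : φ ≠ 0 := fun h' => by simpa [φ, h.self i z hz, h4] using LinearMap.congr_fun h' (g z)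
  clear_value φ u
  have hex : ∀ ψ : Dual F V, ∀ j, ψ ∘ₗ π j ≠ 0 → ∃ w ∈ D j, ψ w = 1 := fun ψ j hj => by
    obtain ⟨x, hx⟩ := DFunLike.ne_iff.1 hj
    exact ⟨(ψ (π j x))⁻¹ • π j x, (D j).smul_mem _ (h.mem j x), by
      simpa using inv_mul_cancel₀ hx⟩
  -- the commutator with a transvection of a member
  have hA : ∀ ψ : Dual F V, ψ u = 0 → TIn H ψ u → ∀ j, ∀ w ∈ D j, ψ w ≠ 0 → ∀ χ : Dual F V,
      χ w = 0 → χ (π j u) = 0 → ∀ w' ∈ D j, χ w' ≠ 0 → SLv F V ≤ H := by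
    intro ψ h0 ht j w hw h1 χ h3 h4 w' hw' h5
    have := ht.comm ((h.tIn hw h3).mono hH) h0 (by simpa [h.self j w hw]) h4
    exact h.SLv_le_of_tIn' (χ := ψ w • χ) hm h2 hH (hgv j) hw' (by simp [h1, h5]) (by simp [h4])
      (this.congr fun x => rfl)
  obtain ⟨a, ha⟩ : ∃ a, φ ∘ₗ π a ≠ 0 := by
    by_contra! hc; exact hφ (by rw [← h.dual_sum φ]; simp [hc])
  rcases hm2 with h3 | ⟨rfl, ht3, hq⟩
  · obtain ⟨w, hw, h1⟩ := hex φ a ha
    obtain ⟨χ, h4, h5, w', hw', h6⟩ := exists_dual_two (hm a ▸ h3) w (π a u)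
    exact hA φ h0 ht a w hw (by simp [h1]) χ h4 h5 w' hw' (by simp [h6])
  have hB : ∀ ψ : Dual F V, ψ u = 0 → TIn H ψ u → ∀ j, ψ (π j u) ≠ 0 → SLv F V ≤ H := by
    intro ψ h0 ht j hj
    obtain ⟨z, hz, hzv⟩ := exists_notMem_span (hm j).ge (π j u)
    obtain ⟨χ, h3, h4⟩ := exists_dual_pair hzv
    exact hA ψ h0 ht j _ (h.mem j u) hj χ h3 h3 z hz (by simp [h4])
  obtain ⟨c, hc0, hc1⟩ := exists_ne_zero_one hq
  have hC : ∀ ψ : Dual F V, ψ u = 0 → TIn H ψ u → ∀ j k, ψ ∘ₗ π j ≠ 0 → ψ ∘ₗ π k = 0 →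
      SLv F V ≤ H := by
    intro ψ h0 ht j k hj hk
    by_cases h1 : ψ (π j u) = 0
    swap; · exact hB ψ h0 ht j h1
    obtain ⟨w, hw, h3⟩ := hex ψ j hj
    obtain ⟨z, hz, hzv⟩ := exists_notMem_span (hm k).ge (π k u)
    obtain ⟨χ, h4, h5⟩ := exists_dual_pair hzv
    have := h.tIn_dil hH hw hz (by rintro rfl; exact hj hk) h3 h5 h1 h4 h0 ht hc0
    have h6 : ψ z = 0 := by simpa [h.self k z hz] using LinearMap.congr_fun hk z
    rw [h6, mul_zero, zero_smul, add_zero] at this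
    exact h.SLv_le_of_tIn' (χ := (c - 1) • ψ) hm h2 hH (hgv j) hw (by simp [h3, sub_ne_zero, hc1])
      (by simp [h1]) (this.congr fun x => rfl)
  by_cases h1 : ∃ j, φ (π j u) ≠ 0
  · obtain ⟨j, hj⟩ := h1; exact hB φ h0 ht j hj
  push Not at h1
  by_cases h3 : ∃ k, φ ∘ₗ π k = 0
  · obtain ⟨k, hk⟩ := h3; exact hC φ h0 ht a k ha hk
  push Not at h3
  classical
  obtain ⟨k, l, hk, hl, hkl⟩ : ∃ k l, k ≠ a ∧ l ≠ a ∧ k ≠ l := by
    obtain ⟨k, hk, l, hl, hkl⟩ := Finset.one_lt_card.1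
      (show 1 < (Finset.univ.erase a).card by simp; omega)
    exact ⟨k, l, by simpa using hk, by simpa using hl, hkl⟩
  obtain ⟨w, hw, h4⟩ := hex φ a ha
  obtain ⟨w', hw', h5⟩ := hex φ k (h3 k)
  refine hC _ (by simp [h1]) (h.tIn_dil hH hw hw' hk.symm h4 h5 (h1 a) (h1 k) h0 ht hc0) a l
    (fun h6 => ?_) ?_
  · simpa [h.self a w hw, h.zero k a hk w hw, h4, sub_eq_zero, hc1] using LinearMap.congr_fun h6 w
  · ext x; simp [h.orth hl.symm, h.orth hkl]

theorem Prj.exists_not_mem_decL (h : Prj D π) (hm : ∀ i, finrank F (D i) = m) (hm0 : 0 < m)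
    (ht : 2 ≤ Fintype.card ι) : ∃ g ∈ SLv F V, g ∉ decL D := by
  obtain ⟨i, j, hij⟩ := Fintype.exists_pair_of_one_lt_card ht
  have h0 : ∀ i, ∃ u ∈ D i, u ≠ 0 := fun i => Submodule.exists_mem_ne_zero_of_ne_bot fun h0 => by
    have := hm i; rw [h0, finrank_bot] at this; omega
  obtain ⟨u, hu, hu0⟩ := h0 i
  obtain ⟨w, hw, hw0⟩ := h0 j
  obtain ⟨φ, hφ⟩ := exists_dual_one (F := F) hw0
  have h1 : (φ ∘ₗ π j) u = 0 := by simp [h.zero j i hij.symm u hu]
  refine ⟨tv _ u h1, tv_mem_SLv h1, fun ⟨s, hs⟩ => ?_⟩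
  have h2 : w + u ∈ D (s j) := hs j ▸ ⟨w, hw, by simp [tv_apply, h.self j w hw, hφ]⟩
  by_cases h3 : s j = j
  · have := h.zero i j hij _ (h3 ▸ h2)
    simp [h.zero i j hij w hw, h.self i u hu, hu0] at this
  · have := h.zero j _ (Ne.symm h3) _ h2
    simp [h.zero j i hij.symm u hu, h.self j w hw, hw0] at this

theorem Prj.isMaximalIn [Fintype F] (h : Prj D π) (hm : ∀ i, finrank F (D i) = m)
    (ht : 2 ≤ Fintype.card ι)
    (hm2 : 3 ≤ m ∨ (m = 2 ∧ 3 ≤ Fintype.card ι ∧ 3 ≤ Fintype.card F)) :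
    IsMaximalIn (SLv F V) (decL D ⊓ SLv F V) :=
  isMaximalIn_of inf_le_right
    (let ⟨g, h1, h2⟩ := h.exists_not_mem_decL hm (by omega) ht; ⟨g, h1, fun h3 => h2 h3.1⟩)
    fun _ h1 h2 _ hg hg' => h.SLv_le hm hm2 h1 hg fun h3 => hg' ⟨h3, h2 hg⟩

end Prj

end H23
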