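import Cfsg.Agent.H23.Qd0
import Cfsg.Agent.H23.Bridge2

/-! Non-degenerate blocks of a quadratic space and overgroups of their groups `Ω`. -/

set_option autoImplicit false

namespace H23

open Module H22 Cfsg Cfsg.Geo Form

namespace Nd

variable {F V : Type*} [Field F] [AddCommGroup V] [Module F V] (Φ : Form (RingHom.id F) V)
  (H : Subgroup (V ≃ₗ[F] V))

/-- a proper subgroup of `Ω` -/
structure Ctx : Prop where
  κ : Φ.κ = 1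
  nd : Φ.Nondeg
  five : 5 ≤ finrank F V
  le : H ≤ Φ.E
  ne : ¬ Φ.E ≤ H

/-- a block whose group `Ω` lies in `H` -/
structure Blk (D : Submodule F V) : Prop where
  nd : Disjoint D (Φ.perp D)
  three : 3 ≤ finrank F D
  m1 : ∀ g ∈ Φ.E, (∀ w ∈ Φ.perp D, g w = w) → g ∈ H

/-- no further Eichler transformations -/
def NW (D : Submodule F V) : Prop :=
  ∀ u ∈ D, Φ.Q u = 0 → u ≠ 0 → ∀ w, Φ.AIn H u w → w ∈ D

/-- singular vectors determine their block -/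
def ST (D : Submodule F V) : Prop :=
  ∀ g ∈ H, ∀ u ∈ D, Φ.Q u = 0 → u ≠ 0 → g u ∈ D → g ∈ stabL D

variable {Φ H} {D D' U : Submodule F V} {u f e e' x y : V} {g : V ≃ₗ[F] V}

theorem Ctx.O (C : Ctx Φ H) (hg : g ∈ H) : g ∈ Φ.O := E_le_O (C.le hg)

theorem eq_zero (h : Disjoint D (Φ.perp D)) (h1 : x ∈ D) (h2 : x ∈ Φ.perp D) : x = 0 :=
  Submodule.disjoint_def.1 h x h1 h2

theorem exists_ne (h : Disjoint D (Φ.perp D)) (h1 : x ∈ D) (h0 : x ≠ 0) : ∃ d ∈ D, Φ.B x d = 1 := by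
  obtain ⟨d, hd, h2⟩ : ∃ d ∈ D, Φ.B x d ≠ 0 := by
    by_contra! hc
    exact h0 (eq_zero h h1 (Φ.mem_perp'.2 hc))
  exact ⟨(Φ.B x d)⁻¹ • d, D.smul_mem _ hd, by simp [h2]⟩

theorem perp_apply_mem (hg : g ∈ Φ.O) (h : g ∈ stabL D) (hx : x ∈ Φ.perp D) : g x ∈ Φ.perp D := by
  rw [← mem_stabL.1 h, perp_map hg]; exact ⟨x, hx, rfl⟩

theorem disjoint_map (h : Disjoint D (Φ.perp D)) (hg : g ∈ Φ.O) :
    Disjoint (D.map g.toLinearMap) (Φ.perp (D.map g.toLinearMap)) := by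
  rw [perp_map hg]
  exact Submodule.disjoint_map g.injective h

theorem ST.map (h : ST Φ H D) (C : Ctx Φ H) (hg : g ∈ H) : ST Φ H (D.map g.toLinearMap) := by
  rintro k hk _ ⟨u, hu, rfl⟩ h1 h2 ⟨v, hv, h3⟩
  have h4 := h (g⁻¹ * k * g) (H.mul_mem (H.mul_mem (H.inv_mem hg) hk) hg) u hu
    (by rw [← (C.O hg).2]; exact h1) (by rintro rfl; simp at h2) (by
      have : k (g u) = g v := h3.symm
      simpa [this] using hv)
  have h5 : k = g * (g⁻¹ * k * g) * g⁻¹ := by group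
  rw [mem_stabL, h5, ← Submodule.map_comp]
  conv_rhs => rw [← mem_stabL.1 h4, ← Submodule.map_comp]
  congr 1
  ext x; simp

theorem ST.map_eq (h : ST Φ H D) {m : V ≃ₗ[F] V} (hm : m ∈ H) (hg : g ∈ H) (hu : u ∈ D)
    (h1 : Φ.Q u = 0) (h0 : u ≠ 0) (h2 : g u ∈ D.map m.toLinearMap) :
    D.map g.toLinearMap = D.map m.toLinearMap := by
  obtain ⟨v, hv, h3⟩ := h2
  have h4 := h (m⁻¹ * g) (H.mul_mem (H.inv_mem hm) hg) u hu h1 h0 (by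
    have : g u = m v := h3.symm
    simpa [this] using hv)
  conv_rhs => rw [← mem_stabL.1 h4, ← Submodule.map_comp]
  congr 1
  ext x; simp

theorem Blk.map (h : Blk Φ H D) (C : Ctx Φ H) (hg : g ∈ H) : Blk Φ H (D.map g.toLinearMap) := by
  refine ⟨disjoint_map h.nd (C.O hg), by rw [LinearEquiv.finrank_map_eq]; exact h.three,
    fun k hk h1 => ?_⟩
  have h2 := h.m1 (g⁻¹ * k * g) (by simpa using E_normal (inv_mem (C.O hg)) hk) fun w hw => by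
    simp [h1 (g w) (by rw [perp_map (C.O hg)]; exact ⟨w, hw, rfl⟩)]
  simpa [mul_assoc] using H.mul_mem (H.mul_mem hg h2) (H.inv_mem hg)

/-- an Eichler transformation stabilising a non-degenerate subspace -/
theorem eich_stab (hκ : Φ.κ = 1) (h : Disjoint D (Φ.perp D)) {a : V} (ha : a ∈ D)
    (hb : x - a ∈ Φ.perp D) (h0 : a ≠ 0) (h1 : x ∉ D)
    (hg : ∀ d ∈ D, d + (Φ.B y d - Φ.Q y * Φ.B x d) • x - Φ.B x d • y ∈ D) :
    ∃ c : F, y = c • x + Φ.Q y • a := by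
  have e1 : ∀ d ∈ D, Φ.B x d = Φ.B a d := fun d hd => by
    have := Φ.B_eq_zero_symm (hb d hd)
    rwa [map_sub, LinearMap.sub_apply, sub_eq_zero] at this
  obtain ⟨d, hd, h2⟩ := exists_ne h ha h0
  set c := Φ.B y d - Φ.Q y with hc
  have h3 : y - c • x ∈ D := by
    have := D.sub_mem hd (hg d hd)
    rw [e1 d hd, h2] at this
    convert this using 1
    rw [hc]; module
  refine ⟨c, ?_⟩
  rw [add_comm, ← sub_eq_iff_eq_add, ← sub_eq_zero]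
  refine eq_zero h (D.sub_mem h3 (D.smul_mem _ ha)) (Φ.mem_perp'.2 fun v hv => ?_)
  have h4 := D.sub_mem (D.add_mem (hg v hv) (D.smul_mem (Φ.B x v) h3)) hv
  have h5 : (Φ.B y v - Φ.Q y * Φ.B x v - c * Φ.B x v) • x ∈ D := by
    convert h4 using 1; module
  have h6 : Φ.B y v - Φ.Q y * Φ.B x v - c * Φ.B x v = 0 := by
    by_contra h6
    exact h1 ((D.smul_mem_iff h6).1 h5)
  simp only [map_sub, map_smul, LinearMap.sub_apply, LinearMap.smul_apply, RingHom.id_apply,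
    smul_eq_mul, ← e1 v hv]
  linear_combination h6

variable [FiniteDimensional F V]

theorem dec (hΦ : Φ.Nondeg) (h : Disjoint D (Φ.perp D)) (x : V) : ∃ a ∈ D, x - a ∈ Φ.perp D := by
  obtain ⟨a, ha, b, hb, rfl⟩ :=
    Submodule.mem_sup.1 ((hΦ.isCompl_perp h).sup_eq_top ▸ Submodule.mem_top (x := x))
  exact ⟨a, ha, by simpa using hb⟩

theorem stab_of_fix (hΦ : Φ.Nondeg) (hg : g ∈ Φ.O) (h : ∀ w ∈ Φ.perp D, g w = w) :
    g ∈ stabL D := mem_stabL_of_le.2 fun v hv => by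
  rw [← hΦ.perp_perp D]
  intro w hw
  rw [← h w hw, hg.1, Φ.B_eq_zero_symm (hw v hv)]

theorem hyp_of_nd (hΦ : Φ.Nondeg) (hκ : Φ.κ = 1) (h : Disjoint D (Φ.perp D)) (hu : u ∈ D)
    (h1 : Φ.Q u = 0) (h0 : u ≠ 0) : ∃ f ∈ D, Hyp Φ u f :=
  exists_hyp_mem hΦ ((sing_quad hκ).2 h1) hu fun h2 => h0 (eq_zero h hu h2)

/-- the complement of a non-degenerate subspace inside another one -/
theorem nd_inf_perp (hΦ : Φ.Nondeg) {P : Submodule F V} (h : Disjoint D (Φ.perp D))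
    (hP : Disjoint P (Φ.perp P)) (hle : P ≤ D) :
    Disjoint (D ⊓ Φ.perp P) (Φ.perp (D ⊓ Φ.perp P)) ∧
      finrank F (D ⊓ Φ.perp P : Submodule F V) + finrank F P = finrank F D := by
  constructor
  · rw [hΦ.perp_inf, hΦ.perp_perp, Submodule.disjoint_def]
    rintro x ⟨hx, hx'⟩ h1
    obtain ⟨a, ha, b, hb, rfl⟩ := Submodule.mem_sup.1 h1
    obtain rfl := eq_zero h (by simpa using D.sub_mem hx (hle hb)) ha
    simpa using eq_zero hP hb (by simpa using hx')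
  · have h1 : D ⊓ Φ.perp P ⊔ P = D := by
      refine le_antisymm (sup_le inf_le_left hle) fun x hx => ?_
      obtain ⟨a, ha, h2⟩ := dec hΦ hP x
      simpa using Submodule.add_mem_sup (S := D ⊓ Φ.perp P) ⟨D.sub_mem hx (hle ha), h2⟩ ha
    have h2 := Submodule.finrank_sup_add_finrank_inf_eq (D ⊓ Φ.perp P) P
    rw [h1, disjoint_iff.1 (hP.symm.mono_left inf_le_right), finrank_bot] at h2
    omega

theorem nd_hyp (hΦ : Φ.Nondeg) (h : Disjoint D (Φ.perp D)) (hf : Hyp Φ u f) (hu : u ∈ D)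
    (hfD : f ∈ D) : ∃ W : Submodule F V, Disjoint W (Φ.perp W) ∧ finrank F W + 2 = finrank F D ∧
      ∀ x, x ∈ W ↔ x ∈ D ∧ Φ.B u x = 0 ∧ Φ.B f x = 0 := by
  obtain ⟨h1, h2⟩ := nd_inf_perp hΦ h hf.disjoint
    (Submodule.span_le.2 (by rintro _ (rfl | rfl) <;> assumption))
  exact ⟨_, h1, by rw [← h2, hf.finrank_span], fun x => by rw [Submodule.mem_inf, mem_perp_pair]⟩

omit [FiniteDimensional F V] in
theorem exists_Q_ne (hκ : Φ.κ = 1) (h : Disjoint D (Φ.perp D)) (h0 : D ≠ ⊥) :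
    ∃ e ∈ D, Φ.Q e ≠ 0 := by
  by_contra! hc
  exact h0 (disjoint_self.1 (h.mono_right (totSing_of_Q hκ hc).le_perp))

theorem exists_third (hΦ : Φ.Nondeg) (hκ : Φ.κ = 1) (h : Disjoint D (Φ.perp D))
    (h3 : 3 ≤ finrank F D) (hf : Hyp Φ u f) (hu : u ∈ D) (hfD : f ∈ D) :
    ∃ e ∈ D, Φ.B u e = 0 ∧ Φ.B f e = 0 ∧ Φ.Q e ≠ 0 := by
  obtain ⟨W, h1, h2, h4⟩ := nd_hyp hΦ h hf hu hfD
  obtain ⟨e, he, h5⟩ := exists_Q_ne hκ h1 (by rintro rfl; rw [finrank_bot] at h2; omega)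
  obtain ⟨h6, h7, h8⟩ := (h4 e).1 he
  exact ⟨e, h6, h7, h8, h5⟩

theorem Blk.ED_le (h : Blk Φ H D) : Φ.ED D ≤ H := fun g hg =>
  h.m1 g (ED_le_E D hg) fun _ hw => ED_fix hg hw

theorem Blk.aIn (h : Blk Φ H D) (hΦ : Φ.Nondeg) (hu : u ∈ D) (he : e ∈ D) (h1 : Φ.B u e = 0) :
    Φ.AIn H u e := ⟨h1, fun _ hs => (eIn_ED hΦ hu he hs).mono h.ED_le⟩

theorem Blk.not_qIn (h : Blk Φ H D) (C : Ctx Φ H) (hu : u ∈ D) (h1 : Φ.Q u = 0) (h0 : u ≠ 0) :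
    ¬ Φ.QIn H u := fun hQ => by
  obtain ⟨f, hfD, hf⟩ := hyp_of_nd C.nd C.κ h.nd hu h1 h0
  obtain ⟨e, he, h2, h3, h4⟩ := exists_third C.nd C.κ h.nd h.three hf hu hfD
  obtain ⟨g, hg, hO, h5⟩ := (h.aIn C.nd hfD he h3).apply C.κ hf.right.2
  refine C.ne (E_le_of_qIn_of_mem C.nd hf.left hQ hg hO ?_)
  simp [h5, hf.left.1, hf.one, h2, Φ.B_eq_zero_symm h2, B_comm_quad C.κ f u, h4]

theorem NW.map_mem (h : NW Φ H D') (C : Ctx Φ H) (hD : Blk Φ H D) (hg : g ∈ H) (hu : u ∈ D)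
    (h1 : Φ.Q u = 0) (h0 : u ≠ 0) (h2 : g u ∈ D') (he : e ∈ D) (h3 : Φ.B u e = 0) : g e ∈ D' :=
  h _ h2 (by rw [(C.O hg).2, h1]) (by simpa using h0) _ ((hD.aIn C.nd hu he h3).conj hg (C.O hg))

theorem NW.exists_shift (h : NW Φ H D') (C : Ctx Φ H) (hD : Blk Φ H D)
    (hD' : Disjoint D' (Φ.perp D')) (hg : g ∈ H) (hu : u ∈ D)
    (h1 : Φ.Q u = 0) (h0 : u ≠ 0) (h2 : g u ∈ D') : ∃ y ∈ Φ.perp D', ∃ t ∈ Φ.E,
      (∀ x, t x = x + (Φ.B y x - Φ.Q y * Φ.B (g u) x) • g u - Φ.B (g u) x • y) ∧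
      ∀ x ∈ D, t (g x) ∈ D' := by
  obtain ⟨f, hfD, hf⟩ := hyp_of_nd C.nd C.κ hD.nd hu h1 h0
  obtain ⟨d, hd, hy⟩ := dec C.nd hD' (g f)
  have hO := C.O hg
  have h3 : Φ.Q (g u) = 0 := by rw [hO.2, h1]
  have h4 : Φ.B (g u) (g f - d) = 0 := hy _ h2
  refine ⟨_, hy, (sieg C.nd C.κ h3 h4).1, mem_E (eichData_quad C.κ h3 h4) fun _ => rfl,
    sieg_apply _ _ _ _, fun x hx => ?_⟩
  have h5 := h.map_mem C hD hg hu h1 h0 h2 (D.sub_mem hx (D.smul_mem (Φ.B u x) hfD))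
    (by simp [hf.one])
  rw [sieg_apply, hO.1]
  convert D'.add_mem (D'.add_mem h5 (D'.smul_mem (Φ.B u x) hd)) (D'.smul_mem
    (Φ.B (g f - d) (g x) - Φ.Q (g f - d) * Φ.B u x) h2) using 1
  rw [map_sub g, map_smul g]
  module

theorem st_of_stab (C : Ctx Φ H) (hD : Blk Φ H D) (h : NW Φ H D) (hM : stabL D ⊓ Φ.E ≤ H) :
    ST Φ H D := fun g hg u hu h1 h0 h2 => by
  obtain ⟨y, hy, t, ht, h3, h4⟩ := h.exists_shift C hD hD.nd hg hu h1 h0 h2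
  have h5 : t * g ∈ stabL D := mem_stabL_of_le.2 h4
  have h6 : t ∈ H := by simpa using H.mul_mem (hM ⟨h5, mul_mem ht (C.le hg)⟩) (H.inv_mem hg)
  obtain rfl := eq_zero hD.nd (h _ h2 (by rw [(C.O hg).2, h1]) (by simpa using h0) _
    (aIn_of_apply C.κ (hy _ h2) h6 h3)) hy
  exact mem_stabL_of_le.2 fun x hx => by simpa [h3] using h4 x hx

variable [Finite F]

theorem exists_sing (hκ : Φ.κ = 1) (h : 3 ≤ finrank F D) : ∃ u ∈ D, Φ.Q u = 0 ∧ u ≠ 0 :=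
  let ⟨u, hu, h0, h1⟩ := iso3_quad hκ D h; ⟨u, hu, h1.2, h0⟩

theorem genHyp (hΦ : Φ.Nondeg) (hκ : Φ.κ = 1) (hV : 5 ≤ finrank F V) : GenHyp Φ :=
  genHyp_of hΦ hκ (.inr (by omega))

theorem mem_E_of (hΦ : Φ.Nondeg) (hκ : Φ.κ = 1) (hV : 5 ≤ finrank F V) {g : Φ.O}
    (h1 : dickson hΦ hκ (genHyp hΦ hκ hV) g = 1) (h2 : spin hΦ hκ g = 1) : g.1 ∈ Φ.E :=
  (mem_E_quad hΦ hκ hV).2 ((mem_omega_iff hΦ hκ _).2 ⟨h1, h2⟩)

theorem hsc_mem_E (hΦ : Φ.Nondeg) (hκ : Φ.κ = 1) (hV : 5 ≤ finrank F V) (hf : Hyp Φ u f) {a : F}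
    (ha : a ≠ 0) (h : IsSquare a) : (hsc hκ u f a).1 ∈ Φ.E :=
  mem_E_of hΦ hκ hV (dickson_hsc hΦ hκ _ hf ha) (by rw [spin_hsc hΦ hκ hf ha, sqc_eq_one_iff.2 h])

theorem hsc_refl_mem_E (hΦ : Φ.Nondeg) (hκ : Φ.κ = 1) (hV : 5 ≤ finrank F V) (hf : Hyp Φ u f)
    {a : F} (ha : a ≠ 0) (he : Φ.Q e ≠ 0) (he' : Φ.Q e' ≠ 0) (h : IsSquare (a * Φ.Q e * Φ.Q e')) :
    (hsc hκ u f a * (refl hκ e * refl hκ e')).1 ∈ Φ.E :=
  mem_E_of hΦ hκ hV (by simp [dickson_hsc hΦ hκ _ hf ha, dickson_refl hΦ hκ _ he,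
    dickson_refl hΦ hκ _ he']) (by
      rw [map_mul, map_mul, spin_hsc hΦ hκ hf ha, spin_refl hΦ hκ he, spin_refl hΦ hκ he',
        ← sqc_mul he he', ← sqc_mul ha (mul_ne_zero he he'), ← mul_assoc, sqc_eq_one_iff.2 h])

omit [FiniteDimensional F V] in
theorem exists_sq_sub (c : F) : ∃ a b : F, c = a ^ 2 - b ^ 2 := by
  by_cases h2 : (2 : F) = 0
  · cases nonempty_fintype F
    obtain ⟨a, ha⟩ := isSquare_of_two_eq_zero h2 c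
    exact ⟨a, 0, by rw [ha]; ring⟩
  · exact ⟨(c + 1) / 2, (c - 1) / 2, by field_simp; ring⟩

omit [FiniteDimensional F V] in
theorem aIn_smul (hκ : Φ.κ = 1) (hf : Hyp Φ u f)
    (hT : ∀ t : F, t ≠ 0 → (hsc hκ u f (t ^ 2)).1 ∈ H) (h : Φ.AIn H u e) (c : F) :
    Φ.AIn H u (c • e) := by
  have key : ∀ t : F, Φ.AIn H u (t ^ 2 • e) := fun t => by
    by_cases ht : t = 0
    · simpa [ht] using h.zero hf.left
    have h1 := h.conj (hT t ht) (hsc hκ u f (t ^ 2)).2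
    have h2 : (hsc hκ u f (t ^ 2)).1 u = t ^ 2 • u := by
      rw [hsc_apply hκ hf (pow_ne_zero 2 ht), hf.left.1, B_comm_quad hκ, hf.one]; module
    rw [h2, hsc_apply hκ hf (pow_ne_zero 2 ht), h.1] at h1
    convert (h1.of_smul_left (pow_ne_zero 2 ht)).add_smul hf.left
      (-(t ^ 2 * ((t ^ 2 - 1) * Φ.B f e))) using 1
    rw [RingHom.id_apply]; module
  obtain ⟨a, b, rfl⟩ := exists_sq_sub c
  rw [sub_smul]
  exact (key a).sub hf.left (key b)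

theorem Blk.aIn_smul (hD : Blk Φ H D) (C : Ctx Φ H) (hu : u ∈ D) (h1 : Φ.Q u = 0) (h0 : u ≠ 0)
    (h : Φ.AIn H u e) (c : F) : Φ.AIn H u (c • e) := by
  obtain ⟨f, hfD, hf⟩ := hyp_of_nd C.nd C.κ hD.nd hu h1 h0
  exact Nd.aIn_smul C.κ hf (fun t ht => hD.m1 _ (hsc_mem_E C.nd C.κ C.five hf (pow_ne_zero 2 ht)
    ⟨t, sq t⟩) fun w hw => by simp [hsc_apply C.κ hf (pow_ne_zero 2 ht), hw u hu, hw f hfD]) h c

/-- correcting an isometry by one of the block, fixing a singular point -/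
theorem exists_corr (hΦ : Φ.Nondeg) (hκ : Φ.κ = 1) (hV : 5 ≤ finrank F V)
    (hD : Disjoint D (Φ.perp D)) (h3 : 3 ≤ finrank F D) (hu : u ∈ D) (h1 : Φ.Q u = 0) (h0 : u ≠ 0)
    (hg : g ∈ Φ.O) : ∃ r ∈ Φ.O, g * r ∈ Φ.E ∧ (∀ w ∈ Φ.perp D, r w = w) ∧ r u ∈ F ∙ u := by
  obtain ⟨f, hfD, hf⟩ := hyp_of_nd hΦ hκ hD hu h1 h0
  obtain ⟨e, he, h2, -, h4⟩ := exists_third hΦ hκ hD h3 hf hu hfD
  obtain ⟨k, hk, h5⟩ := exists_mul_mem_omega hΦ hκ (genHyp hΦ hκ hV)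
    (Φ.Fix (Φ.perp D) ⊓ Φ.Stab (F ∙ u)) ⟨g, hg⟩
    (.inr ⟨refl hκ e, ⟨fun w hw => refl_apply_of_perp hκ (hw e he),
      refl_mem_Stab hκ (.inr (Φ.mem_perp_span_singleton.2 h2))⟩, dickson_refl hΦ hκ _ h4⟩)
    (or_iff_not_imp_left.2 fun h2 => by
      cases nonempty_fintype F
      obtain ⟨ν, hν⟩ := FiniteField.exists_nonsquare (ringChar_ne_two h2)
      have hν0 : ν ≠ 0 := fun h => hν (h ▸ IsSquare.zero)
      refine ⟨hsc hκ u f ν, ⟨fun w hw => by simp [hsc_apply hκ hf hν0, hw u hu, hw f hfD],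
        mem_Stab_of_le.2 fun x hx => ?_⟩, dickson_hsc hΦ hκ _ hf hν0, by
          rw [spin_hsc hΦ hκ hf hν0, sqc_of_not hν]⟩
      obtain ⟨c, rfl⟩ := Submodule.mem_span_singleton.1 hx
      rw [hsc_apply hκ hf hν0]
      simp [hf.left.1, Submodule.add_mem, Submodule.smul_mem])
  exact ⟨k.1, k.2, (mem_E_quad hΦ hκ hV).2 h5, hk.1,
    apply_mem_of_mem_Stab hk.2 (Submodule.mem_span_singleton_self u)⟩

theorem nw_of_irr (C : Ctx Φ H) (hD : Disjoint D (Φ.perp D)) (h3 : 3 ≤ finrank F D)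
    {N : Subgroup (V ≃ₗ[F] V)} (hN : N ⊓ Φ.E ≤ H)
    (h1 : ∀ g ∈ Φ.O, (∀ w ∈ Φ.perp D, g w = w) → g ∈ N)
    (hirr : ∀ S ≤ Φ.perp D, S ≠ ⊥ →
      (∀ s ∈ N, s ∈ Φ.O → (∀ d ∈ D, s d = d) → ∀ w ∈ S, s w ∈ S) → S = Φ.perp D) :
    Blk Φ H D ∧ NW Φ H D := by
  have hB : Blk Φ H D := ⟨hD, h3, fun g hg h => hN ⟨h1 g (E_le_O hg) h, hg⟩⟩
  refine ⟨hB, fun u hu hQ h0 w hw => ?_⟩
  by_contra hwD
  have hs := (sing_quad C.κ).2 hQ
  obtain ⟨a, ha, hb⟩ := dec C.nd hD w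
  have hA : ∀ {w a}, a ∈ D → w - a ∈ Φ.perp D → Φ.B u w = 0 → Φ.AIn H u a := fun ha hb h =>
    hB.aIn C.nd hu ha (by simpa [h] using hb u hu)
  let S : Submodule F V :=
    { carrier := {w | w ∈ Φ.perp D ∧ Φ.AIn H u w}
      add_mem' := fun ha hb => ⟨add_mem ha.1 hb.1, ha.2.add hs hb.2⟩
      zero_mem' := ⟨zero_mem _, hw.zero hs⟩
      smul_mem' := fun c _ ha => ⟨Submodule.smul_mem _ c ha.1, hB.aIn_smul C hu hQ h0 ha.2 c⟩ }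
  have hS := hirr S (fun _ h => h.1) ((Submodule.ne_bot_iff _).2 ⟨_, ⟨hb, hw.sub hs (hA ha hb hw.1)⟩,
    fun h => hwD (sub_eq_zero.1 h ▸ ha)⟩) fun s hsN hO h2 w hw => by
      obtain ⟨r, hr, h4, h5, h6⟩ := exists_corr C.nd C.κ C.five hD h3 hu hQ h0 hO
      obtain ⟨c, hc⟩ := Submodule.mem_span_singleton.1 h6
      have hc0 : c ≠ 0 := by
        rintro rfl; exact h0 (r.map_eq_zero_iff.1 (by simpa using hc.symm))
      have h7 := hw.2.conj (hN ⟨N.mul_mem hsN (h1 r hr h5), h4⟩) (E_le_O h4)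
      rw [LinearEquiv.mul_apply, LinearEquiv.mul_apply, ← hc, h5 w hw.1, map_smul, h2 u hu] at h7
      refine ⟨fun d hd => by rw [← h2 d hd, hO.1, hw.1 d hd], ?_⟩
      simpa [hc0] using hB.aIn_smul C hu hQ h0 (h7.of_smul_left hc0) c⁻¹
  refine hB.not_qIn C hu hQ h0 (qIn_iff.2 fun e he => ?_)
  obtain ⟨a, ha, hb⟩ := dec C.nd hD e
  simpa using (hA ha hb he).add hs (hS.ge hb).2

/-- The torus condition. -/
theorem st_of_tor (C : Ctx Φ H) (hD : Blk Φ H D) (h : NW Φ H D)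
    (hT : (∃ t : F, t ≠ 0 ∧ t ^ 2 ≠ 1) ∨ (4 ≤ finrank F D ∧ ∃ a : F, a ≠ 0 ∧ a ≠ 1)) :
    ST Φ H D := fun g hg u hu h1 h0 h2 => by
  obtain ⟨f, hfD, hf⟩ := hyp_of_nd C.nd C.κ hD.nd hu h1 h0
  obtain ⟨a, e, e', ha0, ha1, ⟨he, h3, h4⟩, ⟨he', h5, h6⟩, h7, h8, h9⟩ : ∃ (a : F) (e e' : V),
      a ≠ 0 ∧ a ≠ 1 ∧ (e ∈ D ∧ Φ.B u e = 0 ∧ Φ.B f e = 0) ∧ (e' ∈ D ∧ Φ.B u e' = 0 ∧ Φ.B f e' = 0) ∧
      Φ.Q e ≠ 0 ∧ Φ.Q e' ≠ 0 ∧ IsSquare (a * Φ.Q e * Φ.Q e') := by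
    rcases hT with ⟨t, h3, h4⟩ | ⟨h3, a, h4, h5⟩
    · obtain ⟨e, he, h5, h6, h7⟩ := exists_third C.nd C.κ hD.nd hD.three hf hu hfD
      exact ⟨_, e, e, pow_ne_zero 2 h3, h4, ⟨he, h5, h6⟩, ⟨he, h5, h6⟩, h7, h7, t * Φ.Q e, by ring⟩
    · obtain ⟨W, h6, h7, h8⟩ := nd_hyp C.nd hD.nd hf hu hfD
      obtain ⟨e, he, h9⟩ := H22.exists_Q_eq_mem C.κ h6 (by omega) a
      obtain ⟨e', he', h10⟩ := H22.exists_Q_eq_mem C.κ h6 (by omega) 1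
      exact ⟨a, e, e', h4, h5, (h8 e).1 he, (h8 e').1 he', by rwa [h9], by simp [h10], a,
        by rw [h9, h10, mul_one]⟩
  have hO := C.O hg
  have hge := h.map_mem C hD hg hu h1 h0 h2 he h3
  have hge' := h.map_mem C hD hg hu h1 h0 h2 he' h5
  obtain ⟨d, hd, hy⟩ := dec C.nd hD.nd (g f)
  have hf' : Hyp Φ (g u) (g f) := hf.map ⟨g, hO⟩
  have e1 : Φ.B (g u) d = 1 := by
    have := hy _ h2
    rwa [map_sub, hf'.one, sub_eq_zero, eq_comm] at this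
  obtain ⟨c, hc⟩ := exists_sing_add_smul hf'.left e1
  have hf1 : Hyp Φ (g u) (d + c • g u) := ⟨hf'.left, hc, by simp [e1, hf'.left.1]⟩
  have hm : ∀ {u f e e' : V} (hf : Hyp Φ u f) {a : F}, u ∈ D → f ∈ D → e ∈ D → e' ∈ D → a ≠ 0 →
      Φ.Q e ≠ 0 → Φ.Q e' ≠ 0 → IsSquare (a * Φ.Q e * Φ.Q e') →
      (hsc C.κ u f a * (refl C.κ e * refl C.κ e')).1 ∈ H :=
    fun hf _ hu hfD he he' ha h7 h8 h9 => hD.m1 _ (hsc_refl_mem_E C.nd C.κ C.five hf ha h7 h8 h9)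
      fun w hw => by simp [refl_apply, hsc_apply C.κ hf ha, hw _ hu, hw _ hfD, hw _ he, hw _ he']
  have k1 := hm hf1 h2 (D.add_mem hd (D.smul_mem _ h2)) hge hge' ha0 (by rwa [hO.2])
    (by rwa [hO.2]) (by rwa [hO.2, hO.2])
  have k2 := H.mul_mem (H.mul_mem hg (H.inv_mem (hm hf hu hfD he he' ha0 h7 h8 h9))) (H.inv_mem hg)
  have k3 : (hsc C.κ (g u) (d + c • g u) a * (hsc C.κ (g u) (g f) a)⁻¹).1 ∈ H := by
    convert H.mul_mem k1 k2 using 1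
    have e2 := fun v => conj_refl C.κ ⟨g, hO⟩ v
    change _ = (_ * (⟨g, hO⟩ * _⁻¹ * ⟨g, hO⟩⁻¹ : Φ.O)).1
    congr 1
    simp only [hsc, ← e2 e, ← e2 e']
    rw [← map_smul, ← map_add, ← map_add, ← e2 (a • u + f), ← e2 (u + f)]
    group
  have k4 := aIn_of_perp C.κ C.nd hf'.left.2 k3 (C.O k3) (e := (a - 1) • (d + c • g u - g f))
    (by simp [e1, hf'.left.1, hf'.one]) fun x hx => by
      have e2 : ((hsc C.κ (g u) (g f) a)⁻¹).1 x = x + ((a⁻¹ - 1) * Φ.B (g f) x) • g u := by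
        apply (hsc C.κ (g u) (g f) a).1.injective
        rw [O_apply_inv_apply, hsc_apply C.κ hf' ha0]
        simp only [map_add, map_smul, hx, hf'.left.1, B_comm_quad C.κ (g f) (g u), hf'.one,
          smul_eq_mul]
        match_scalars
        · rfl
        · field_simp; ring
        · ring
      rw [O_mul_apply, e2, hsc_apply C.κ hf1 ha0]
      simp only [map_add, map_smul, map_sub, hx, hf'.left.1, B_comm_quad C.κ d (g u), e1,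
        smul_eq_mul, LinearMap.add_apply, LinearMap.smul_apply, LinearMap.sub_apply,
        RingHom.id_apply]
      match_scalars
      · rfl
      · field_simp; ring
      · ring
  have k5 := (D.smul_mem_iff (sub_ne_zero.2 ha1)).1 (h _ h2 hf'.left.2 hf'.left_ne _ k4)
  have k6 : g f ∈ D := by simpa using D.sub_mem (D.add_mem hd (D.smul_mem c h2)) k5
  refine mem_stabL_of_le.2 fun x hx => ?_
  simpa using D.add_mem (h.map_mem C hD hg hu h1 h0 h2 (D.sub_mem hx (D.smul_mem (Φ.B u x) hfD))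
    (by simp [hf.one])) (D.smul_mem (Φ.B u x) k6)

end Nd

end H23
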