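import Cfsg.Agent.H23.Mx1

/-! Orthogonal decompositions; maximality of their stabilisers in symplectic groups. -/

set_option autoImplicit false

namespace H23

open Module H22 Cfsg Cfsg.Geo Form

variable {F V : Type*} [Field F] {σ : F →+* F} [AddCommGroup V] [Module F V]

/-- An orthogonal decomposition with its projections. -/
structure ODec (Φ : Form σ V) {ι : Type*} [Fintype ι] (D : ι → Submodule F V)
    (π : ι → V →ₗ[F] V) : Prop extends Prj D π where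
  orth : ∀ i j, i ≠ j → ∀ x ∈ D i, ∀ y ∈ D j, Φ.B x y = 0

variable {Φ : Form σ V} {ι : Type*} [Fintype ι] {D : ι → Submodule F V} {π : ι → V →ₗ[F] V}

theorem ODec.B_right (h : ODec Φ D π) {i : ι} {a : V} (ha : a ∈ D i) (y : V) :
    Φ.B a (π i y) = Φ.B a y := by
  conv_rhs => rw [← h.sum y, map_sum]
  rw [Finset.sum_eq_single i (fun j _ hj => h.orth i j hj.symm a ha _ (h.mem j y)) (by simp)]

theorem ODec.B_left (h : ODec Φ D π) {i : ι} {a : V} (ha : a ∈ D i) (y : V) :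
    Φ.B (π i y) a = Φ.B y a := by
  rw [Φ.symm, h.B_right ha, ← Φ.symm]

theorem ODec.B_sum (h : ODec Φ D π) (x y : V) : Φ.B x y = ∑ i, Φ.B (π i x) (π i y) := by
  conv_lhs => rw [← h.sum x, map_sum, LinearMap.sum_apply]
  exact Finset.sum_congr rfl fun i _ => (h.B_right (h.mem i x) y).symm

theorem Q_sum_orth {α : Type*} (s : Finset α) {v : α → V}
    (hv : ∀ i ∈ s, ∀ j ∈ s, i ≠ j → Φ.B (v i) (v j) = 0) :
    Φ.Q (∑ i ∈ s, v i) = ∑ i ∈ s, Φ.Q (v i) := by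
  classical
  induction s using Finset.induction_on with
  | empty => simp
  | insert a s ha ih =>
    rw [Finset.sum_insert ha, Finset.sum_insert ha, Φ.Q_add,
      ih fun i hi j hj => hv i (by simp [hi]) j (by simp [hj]), map_sum,
      Finset.sum_eq_zero fun j hj => hv a (by simp) j (by simp [hj]) (by rintro rfl; exact ha hj)]
    simp

theorem ODec.Q_sum (h : ODec Φ D π) (x : V) : Φ.Q x = ∑ i, Φ.Q (π i x) := by
  conv_lhs => rw [← h.sum x]
  exact Q_sum_orth _ fun i _ j _ hij => h.orth i j hij _ (h.mem i x) _ (h.mem j x)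

theorem ODec.exists_one (h : ODec Φ D π) (hΦ : Φ.Nondeg) {i : ι} {a : V} (ha : a ∈ D i)
    (h0 : a ≠ 0) : ∃ b ∈ D i, Φ.B a b = 1 := by
  obtain ⟨y, hy⟩ := hΦ.exists_ne h0
  exact ⟨π i y, h.mem i y, by rw [h.B_right ha, hy]⟩

theorem ODec.exists_one' (h : ODec Φ D π) (hΦ : Φ.Nondeg) {i : ι} {a : V} (ha : a ∈ D i)
    (h0 : a ≠ 0) : ∃ b ∈ D i, Φ.B b a = 1 := by
  obtain ⟨y, hy, h1⟩ := h.exists_one hΦ ha h0
  refine ⟨Φ.ε • y, (D i).smul_mem _ hy, ?_⟩
  rw [B_smul_left, Φ.symm, h1, map_one, mul_one, σε_mul]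

theorem ODec.disjoint (h : ODec Φ D π) (hΦ : Φ.Nondeg) (i : ι) : Disjoint (D i) (Φ.perp (D i)) :=
  Submodule.disjoint_def.2 fun x hx hx' => by
    by_contra h0
    obtain ⟨b, hb, h1⟩ := h.exists_one' hΦ hx h0
    simp [hx' b hb] at h1

theorem ODec.mem_perp (h : ODec Φ D π) {i : ι} {x : V} (hx : π i x = 0) : x ∈ Φ.perp (D i) :=
  fun a ha => by rw [← h.B_right ha, hx, map_zero]

theorem ODec.eq_zero_of_perp (h : ODec Φ D π) (hΦ : Φ.Nondeg) {i : ι} {x : V}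
    (hx : x ∈ Φ.perp (D i)) : π i x = 0 :=
  Submodule.disjoint_def.1 (h.disjoint hΦ i) _ (h.mem i x) fun a ha => by
    rw [h.B_right ha, hx a ha]

/-- Block-monomial isometries. -/
theorem ODec.exists_blk [FiniteDimensional F V] (h : ODec Φ D π) (hΦ : Φ.Nondeg) {m : ℕ}
    (hm : ∀ i, finrank F (D i) = m) (s : Equiv.Perm ι) (f : ι → V →ₗ[F] V)
    (hf : ∀ k, ∀ x ∈ D k, f k x ∈ D (s k))
    (hB : ∀ k, ∀ x ∈ D k, ∀ y ∈ D k, Φ.B (f k x) (f k y) = Φ.B x y)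
    (hQ : ∀ k, ∀ x ∈ D k, Φ.Q (f k x) = Φ.Q x) :
    ∃ g ∈ decL D ⊓ Φ.O, ∀ k, ∀ x ∈ D k, g x = f k x := by
  have h0 : ∀ x y k l, k ≠ l → Φ.B (f k (π k x)) (f l (π l y)) = 0 := fun x y k l hkl =>
    h.orth _ _ (s.injective.ne hkl) _ (hf k _ (h.mem k x)) _ (hf l _ (h.mem l y))
  have h1 : ∀ x y, Φ.B ((∑ k, f k ∘ₗ π k) x) ((∑ k, f k ∘ₗ π k) y) = Φ.B x y := fun x y => by
    rw [h.B_sum x y]
    simp only [LinearMap.sum_apply, LinearMap.comp_apply, map_sum]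
    refine Finset.sum_congr rfl fun k _ => ?_
    rw [Finset.sum_eq_single k (fun l _ hl => h0 x y l k hl) (by simp),
      hB k _ (h.mem k x) _ (h.mem k y)]
  have h2 : ∀ k, ∀ x ∈ D k, equivOfIsometry hΦ _ h1 x = f k x := fun k x hx => by
    change (∑ k, f k ∘ₗ π k) x = _
    simp only [LinearMap.sum_apply, LinearMap.comp_apply]
    rw [Finset.sum_eq_single k (fun l _ hl => by rw [h.zero l k hl x hx, map_zero]) (by simp),
      h.self k x hx]
  refine ⟨equivOfIsometry hΦ _ h1, ⟨⟨s, fun i => map_eq_of_le ?_ (by rw [hm, hm])⟩, h1, fun x => ?_⟩,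
    h2⟩
  · rintro _ ⟨x, hx, rfl⟩
    change equivOfIsometry hΦ _ h1 x ∈ _
    rw [h2 i x hx]; exact hf i x hx
  · change Φ.Q ((∑ k, f k ∘ₗ π k) x) = _
    simp only [LinearMap.sum_apply, LinearMap.comp_apply]
    rw [Q_sum_orth _ fun k _ l _ hkl => h0 x x k l hkl, h.Q_sum x]
    exact Finset.sum_congr rfl fun k _ => hQ k _ (h.mem k x)

/-- Swapping two blocks along an isometry. -/
theorem ODec.exists_swap [FiniteDimensional F V] (h : ODec Φ D π) (hΦ : Φ.Nondeg) {m : ℕ}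
    (hm : ∀ i, finrank F (D i) = m) {i j : ι} (hij : i ≠ j) {k : V ≃ₗ[F] V} (hk : k ∈ Φ.O)
    (hD : (D i).map k.toLinearMap = D j) :
    ∃ g ∈ decL D ⊓ Φ.O, (∀ x ∈ D i, g x = k x) ∧ (∀ x ∈ D j, g x = k⁻¹ x) ∧
      ∀ l, l ≠ i → l ≠ j → ∀ x ∈ D l, g x = x := by
  classical
  let f : ι → V ≃ₗ[F] V := fun l => if l = i then k else if l = j then k⁻¹ else 1
  have hf : ∀ l, f l ∈ Φ.O := fun l => by
    simp only [f]; split_ifs
    exacts [hk, Φ.O.inv_mem hk, Φ.O.one_mem]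
  obtain ⟨g, hg, h1⟩ := h.exists_blk hΦ hm (Equiv.swap i j) (fun l => (f l).toLinearMap)
    (fun l x hx => by
      by_cases h1 : l = i
      · subst h1; simp only [f, if_true, Equiv.swap_apply_left, ← hD]; exact ⟨x, hx, rfl⟩
      by_cases h2 : l = j
      · subst h2
        rw [← hD] at hx
        obtain ⟨y, hy, rfl⟩ := hx
        simpa [f, h1] using hy
      · simpa [f, h1, h2, Equiv.swap_apply_of_ne_of_ne h1 h2] using hx)
    (fun l x _ y _ => (hf l).1 x y) (fun l x _ => (hf l).2 x)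
  refine ⟨g, hg, fun x hx => ?_, fun x hx => ?_, fun l h2 h3 x hx => ?_⟩
  · simpa [f] using h1 i x hx
  · simpa [f, hij.symm] using h1 j x hx
  · simpa [f, h2, h3] using h1 l x hx

theorem exists_oDec {κ : Type} {Φ : Form σ (κ → F)} {f : (κ → F) → (κ → F) → F}
    (hf : ∀ u v, f u v = 0 → Φ.B u v = 0) {t m : ℕ} {D : Fin t → Submodule F (κ → F)}
    (hD : IsNondegenerateMDecomposition f m D) : ∃ π, ODec Φ D π :=
  let ⟨π, h⟩ := exists_prj hD.decomp.indep hD.decomp.iSup_eq_top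
  ⟨π, h, fun i j hij x hx y hy => hf _ _ (hD.orthogonal i j hij x hx y hy)⟩

/-- Subspaces with bases of the same Gram data are conjugate. -/
theorem Form.Nondeg.exists_map_of_basis [FiniteDimensional F V] (hΦ : Φ.Nondeg)
    {W U : Submodule F V} {α : Type*} [Finite α] (b : Basis α F W) (c : Basis α F U)
    (hB : ∀ i j, Φ.B (b i : V) (b j : V) = Φ.B (c i : V) (c j : V))
    (hQ : ∀ i, Φ.Q (b i) = Φ.Q (c i)) : ∃ g ∈ Φ.O, W.map g.toLinearMap = U := by
  obtain ⟨g, hg, h1⟩ := hΦ.witt_family (v := fun i => (b i : V)) (w := fun i => (c i : V))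
    (b.linearIndependent.map' W.subtype W.ker_subtype)
    (c.linearIndependent.map' U.subtype U.ker_subtype) hB hQ
  refine ⟨g, hg, map_eq_of_le ?_ (by
    have := Fintype.ofFinite α
    rw [finrank_eq_card_basis b, finrank_eq_card_basis c])⟩
  have : W = Submodule.span F (Set.range fun i => (b i : V)) := by
    have := congrArg (Submodule.map W.subtype) b.span_eq
    rw [Submodule.map_span, ← Set.range_comp, Submodule.map_top, Submodule.range_subtype] at this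
    exact this.symm
  rw [this, Submodule.map_span, Submodule.span_le]
  rintro _ ⟨_, ⟨i, rfl⟩, rfl⟩
  change g _ ∈ U
  rw [h1]; exact (c i).2

section Alt

variable {Φ : Form (RingHom.id F) V}

theorem B_self_alt (hε : Φ.ε = -1) (hκ : Φ.κ = 0) (v : V) : Φ.B v v = 0 := (sing_alt hε hκ v).1

theorem B_neg_alt (hε : Φ.ε = -1) (u v : V) : Φ.B v u = -Φ.B u v := by
  rw [Φ.symm, hε]; simp

theorem exists_symp_basis [FiniteDimensional F V] (hΦ : Φ.Nondeg) (hε : Φ.ε = -1) (hκ : Φ.κ = 0) :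
    ∃ (m : ℕ) (b : Basis (Fin m ⊕ Fin m) F V),
      (∀ i j, Φ.B (b (Sum.inl i)) (b (Sum.inr j)) = if i = j then 1 else 0) ∧
      (∀ i j, Φ.B (b (Sum.inl i)) (b (Sum.inl j)) = 0) ∧
      (∀ i j, Φ.B (b (Sum.inr i)) (b (Sum.inr j)) = 0) :=
  exists_symplectic_basis (B := Φ.B) (B_self_alt hε hκ) hΦ

theorem exists_map_alt [FiniteDimensional F V] (hΦ : Φ.Nondeg) (hε : Φ.ε = -1) (hκ : Φ.κ = 0)
    {W U : Submodule F V} (hW : Disjoint W (Φ.perp W)) (hU : Disjoint U (Φ.perp U))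
    (hd : finrank F W = finrank F U) : ∃ g ∈ Φ.O, W.map g.toLinearMap = U := by
  obtain ⟨m, b, h1, h2, h3⟩ := exists_symp_basis (Φ.nondeg_restrict_iff.2 hW) hε hκ
  obtain ⟨m', c, h4, h5, h6⟩ := exists_symp_basis (Φ.nondeg_restrict_iff.2 hU) hε hκ
  obtain rfl : m = m' := by
    rw [finrank_eq_card_basis b, finrank_eq_card_basis c] at hd
    simp at hd; omega
  refine hΦ.exists_map_of_basis b c ?_ fun i => by rw [Q_of_κ hκ, Q_of_κ hκ]
  rintro (i | i) (j | j)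
  · exact (h2 i j).trans (h5 i j).symm
  · exact (h1 i j).trans (h4 i j).symm
  · rw [B_neg_alt hε, B_neg_alt hε (c _ : V)]
    exact congrArg _ ((h1 j i).trans (h4 j i).symm)
  · exact (h3 i j).trans (h6 i j).symm

variable (Φ) in
/-- `H` contains all symplectic transvections with centre `w`. -/
def Form.TR (H : Subgroup (V ≃ₗ[F] V)) (w : V) : Prop :=
  ∀ c : F, ∃ g ∈ H, ∀ x, g x = x + (c * Φ.B w x) • w

variable {H : Subgroup (V ≃ₗ[F] V)} {w w' : V}

theorem Form.tr_zero : Φ.TR H 0 := fun _ => ⟨1, H.one_mem, by simp⟩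

theorem Form.TR.mono {K : Subgroup (V ≃ₗ[F] V)} (h : Φ.TR H w) (hK : H ≤ K) : Φ.TR K w :=
  fun c => let ⟨g, hg, h1⟩ := h c; ⟨g, hK hg, h1⟩

theorem Form.TR.smul (h : Φ.TR H w) (a : F) : Φ.TR H (a • w) := fun c => by
  obtain ⟨g, hg, h1⟩ := h (c * a * a)
  refine ⟨g, hg, fun x => ?_⟩
  rw [h1, B_smul_left, smul_smul, RingHom.id_apply]; congr 2; ring

theorem Form.TR.conj (h : Φ.TR H w) {g : V ≃ₗ[F] V} (hg : g ∈ H) (hO : g ∈ Φ.O) :
    Φ.TR H (g w) := fun c => by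
  obtain ⟨k, hk, h1⟩ := h c
  refine ⟨g * k * g⁻¹, H.mul_mem (H.mul_mem hg hk) (H.inv_mem hg), fun x => ?_⟩
  simp [h1, B_O_left hO]

theorem Form.TR.line (hH : H ≤ Φ.O) (h : Φ.TR H w) (h' : Φ.TR H w') (h0 : Φ.B w w' ≠ 0) (c : F) :
    Φ.TR H (w' + c • w) := by
  obtain ⟨g, hg, h1⟩ := h (c / Φ.B w w')
  have := h'.conj hg (hH hg)
  rwa [h1, div_mul_cancel₀ _ h0] at this

theorem exists_tv_alt [FiniteDimensional F V] (hΦ : Φ.Nondeg) (hε : Φ.ε = -1) (hκ : Φ.κ = 0)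
    (w : V) (c : F) : ∃ g ∈ Φ.O, ∀ x, g x = x + (c * Φ.B w x) • w := by
  have h1 := Φ.qrefl_B (d := w) (c := c) (by simp [hε, B_self_alt hε hκ])
  exact ⟨equivOfIsometry hΦ _ h1, ⟨h1, fun x => by rw [Q_of_κ hκ, Q_of_κ hκ]⟩,
    fun x => Φ.qrefl_apply w c x⟩

theorem tr_inf [FiniteDimensional F V] (hΦ : Φ.Nondeg) (hε : Φ.ε = -1) (hκ : Φ.κ = 0)
    (h : ∀ (c : F) (g : V ≃ₗ[F] V), (∀ x, g x = x + (c * Φ.B w x) • w) → g ∈ H) :
    Φ.TR (H ⊓ Φ.O) w := fun c =>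
  let ⟨g, hg, h1⟩ := exists_tv_alt hΦ hε hκ w c; ⟨g, ⟨h c g h1, hg⟩, h1⟩

theorem O_le_of_tr [FiniteDimensional F V] (hΦ : Φ.Nondeg) (hε : Φ.ε = -1) (hκ : Φ.κ = 0)
    (h : ∀ w, Φ.TR H w) : Φ.O ≤ H := by
  rw [← hΦ.closure_transvections_alt (B_self_alt hε hκ) (Q_of_κ hκ), Subgroup.closure_le]
  rintro g ⟨-, d, c, -, h1⟩
  obtain ⟨k, hk, h2⟩ := h d c
  have : g = k := LinearEquiv.ext fun x => by rw [h1, h2, qrefl_apply]
  exact this ▸ hk

theorem exists_ne_ne {W : Submodule F V} {φ ψ : V →ₗ[F] F} (h1 : ∃ x ∈ W, φ x ≠ 0)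
    (h2 : ∃ x ∈ W, ψ x ≠ 0) : ∃ x ∈ W, φ x ≠ 0 ∧ ψ x ≠ 0 := by
  obtain ⟨x, hx, h1⟩ := h1
  obtain ⟨y, hy, h2⟩ := h2
  by_cases h3 : ψ x = 0
  · by_cases h4 : φ y = 0
    · exact ⟨x + y, W.add_mem hx hy, by simpa [h4], by simpa [h3]⟩
    · exact ⟨y, hy, h4, h2⟩
  · exact ⟨x, hx, h1, h3⟩

/-- Replacing a non-zero component along a non-degenerate subspace. -/
theorem Form.TR.repl (hε : Φ.ε = -1) (hκ : Φ.κ = 0) (hH : H ≤ Φ.O) {W : Submodule F V}
    (hW : Disjoint W (Φ.perp W)) (hT : ∀ a ∈ W, Φ.TR H a) {a b r : V} (ha : a ∈ W) (hb : b ∈ W)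
    (ha0 : a ≠ 0) (hb0 : b ≠ 0) (hr : r ∈ Φ.perp W) (h : Φ.TR H (a + r)) : Φ.TR H (b + r) := by
  have key : ∀ {a b : V}, a ∈ W → b ∈ W → Φ.B b a ≠ 0 → Φ.TR H (a + r) → Φ.TR H (b + r) := by
    intro a b ha hb h0 h
    have := (hT _ (W.sub_mem hb ha)).line hH h (by
      rwa [map_add, hr _ (W.sub_mem hb ha), add_zero, map_sub, LinearMap.sub_apply,
        B_self_alt hε hκ, sub_zero]) 1
    convert this using 1
    module
  have hex : ∀ {a : V}, a ∈ W → a ≠ 0 → ∃ x ∈ W, Φ.B a x ≠ 0 := by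
    intro a ha h0
    by_contra! hc
    exact h0 (Submodule.disjoint_def.1 hW a ha (Φ.mem_perp'.2 hc))
  obtain ⟨z, hz, h1, h2⟩ := exists_ne_ne (hex ha ha0) (hex hb hb0)
  exact key hz hb h2 (key ha hz (fun h3 => h1 (Φ.B_eq_zero_symm h3)) h)

variable [FiniteDimensional F V] (hΦ : Φ.Nondeg) (hε : Φ.ε = -1) (hκ : Φ.κ = 0)
include hΦ hε hκ

theorem ODec.tr_block (h : ODec Φ D π) {i : ι} (hw : w ∈ D i) : Φ.TR (decL D ⊓ Φ.O) w :=
  tr_inf hΦ hε hκ fun c g hg => h.mem_decL_of (i := i) (φ := c • Φ.B w) hw fun x => by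
    rw [hg, LinearMap.smul_apply, h.B_right hw, smul_eq_mul]

theorem ODec.tr_all (h : ODec Φ D π) (hH : H ≤ Φ.O) (h1 : ∀ i, ∀ a ∈ D i, Φ.TR H a)
    (h2 : ∀ i j, i ≠ j → ∀ a ∈ D i, ∀ b ∈ D j, Φ.TR H (a + b)) (w : V) : Φ.TR H w := by
  classical
  have : ∀ s : Finset ι, Φ.TR H (∑ i ∈ s, π i w) := by
    intro s
    induction s using Finset.induction_on with
    | empty => simpa using tr_zero
    | insert j s hj ih =>
      rw [Finset.sum_insert hj]
      set v := ∑ i ∈ s, π i w with hv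
      by_cases h0 : v = 0
      · rw [h0, add_zero]; exact h1 j _ (h.mem j w)
      have hj' : π j v = 0 := by
        rw [hv, map_sum]
        exact Finset.sum_eq_zero fun i hi => h.toPrj.orth (by rintro rfl; exact hj hi) w
      obtain ⟨i, hi⟩ : ∃ i, π i v ≠ 0 := by
        by_contra! hc
        exact h0 (h.eq_zero hc)
      have hij : i ≠ j := by rintro rfl; exact hi hj'
      obtain ⟨a, ha, h3⟩ := h.exists_one' hΦ (h.mem i v) hi
      have h4 := (h2 i j hij a ha _ (h.mem j w)).line hH ih (by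
        rw [map_add, LinearMap.add_apply, ← h.B_right ha, h3, ← h.B_right (h.mem j w), hj']
        simp) 1
      have h5 : v - π i v + π j w ∈ Φ.perp (D i) := h.mem_perp (by
        rw [map_add, map_sub, h.idem, h.toPrj.orth hij]; simp)
      have := TR.repl hε hκ hH (h.disjoint hΦ i) (h1 i) ((D i).add_mem (h.mem i v) ha) (h.mem i v)
        (fun h6 => by
          have := congrArg (Φ.B a) h6
          simp [h3, B_self_alt hε hκ] at this) hi h5 (by convert h4 using 1; module)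
      convert this using 1
      module
  simpa [h.sum] using this Finset.univ

theorem ODec.tr_pair (h : ODec Φ D π) {m : ℕ} (hm : ∀ i, finrank F (D i) = m)
    (hH : H ≤ Φ.O) (hM : decL D ⊓ Φ.O ≤ H) {i j : ι} (hij : i ≠ j) {a b : V} (ha : a ∈ D i)
    (hb : b ∈ D j) (ha0 : a ≠ 0) (hb0 : b ≠ 0) (hab : Φ.TR H (a + b)) :
    ∀ i j, i ≠ j → ∀ a ∈ D i, ∀ b ∈ D j, Φ.TR H (a + b) := by
  have h1 : ∀ i, ∀ a ∈ D i, Φ.TR H a := fun i a ha => (h.tr_block hΦ hε hκ ha).mono hM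
  let R : ι → ι → Prop := fun i j => ∀ a ∈ D i, ∀ b ∈ D j, Φ.TR H (a + b)
  have hs : ∀ {i j}, R i j → R j i := fun hR a ha b hb => by rw [add_comm]; exact hR b hb a ha
  have h2 : R i j := fun a' ha' b' hb' => by
    by_cases h3 : a' = 0
    · rw [h3, zero_add]; exact h1 j _ hb'
    by_cases h4 : b' = 0
    · rw [h4, add_zero]; exact h1 i _ ha'
    have := TR.repl hε hκ hH (h.disjoint hΦ i) (h1 i) ha ha' ha0 h3
      (h.mem_perp (h.zero i j hij b hb)) hab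
    rw [add_comm] at this ⊢
    exact TR.repl hε hκ hH (h.disjoint hΦ j) (h1 j) hb hb' hb0 h4
      (h.mem_perp (h.zero j i hij.symm a' ha')) this
  have h3 : ∀ {i j l}, i ≠ j → i ≠ l → R i j → R i l := by
    intro i j l hij hil hR a ha b hb
    by_cases hjl : j = l
    · subst hjl; exact hR a ha b hb
    obtain ⟨k, hk, h4⟩ := exists_map_alt hΦ hε hκ (h.disjoint hΦ j) (h.disjoint hΦ l)
      (by rw [hm, hm])
    obtain ⟨g, hg, h5, -, h6⟩ := h.exists_swap hΦ hm hjl hk h4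
    rw [← h4] at hb
    obtain ⟨b, hb, rfl⟩ := hb
    have := (hR a ha b hb).conj (hM hg) hg.2
    rwa [map_add, h5 b hb, h6 i hij hil a ha] at this
  intro i' j' h4
  by_cases h5 : j' = i
  · subst h5; exact hs (h3 hij h4.symm h2)
  · exact hs (h3 h5 h4.symm (hs (h3 hij (Ne.symm h5) h2)))

theorem isMaximalIn_oDec_alt [Fintype F] (h : ODec Φ D π) {m : ℕ} (hm : ∀ i, finrank F (D i) = m)
    (hm0 : 0 < m) (ht : 2 ≤ Fintype.card ι) (hex : 3 ≤ m ∨ 3 ≤ Fintype.card F) :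
    IsMaximalIn Φ.E (decL D ⊓ Φ.E) := by
  rw [E_alt hΦ hε hκ]
  have hne : ∀ i, ∃ a ∈ D i, a ≠ 0 := fun i => (Submodule.ne_bot_iff _).1 fun h0 => by
    have := hm i; rw [h0, finrank_bot] at this; omega
  refine ⟨lt_of_le_of_ne inf_le_right fun h0 => ?_, fun H hM hH => ?_⟩
  · obtain ⟨i, j, hij⟩ := Fintype.exists_pair_of_one_lt_card ht
    obtain ⟨a, ha, ha0⟩ := hne i
    obtain ⟨b, hb, hb0⟩ := hne j
    obtain ⟨x, hx, h1⟩ := h.exists_one hΦ ha ha0
    obtain ⟨g, hg, h2⟩ := exists_tv_alt hΦ hε hκ (a + b) 1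
    obtain ⟨s, hs⟩ := (h0.ge hg).1
    have h3 : g x ∈ D (s i) := hs i ▸ ⟨x, hx, rfl⟩
    rw [h2, map_add, LinearMap.add_apply, h1, h.orth j i hij.symm b hb x hx] at h3
    simp only [add_zero, mul_one, one_smul] at h3
    by_cases h4 : s i = i
    · have := h.zero j _ (h4.symm ▸ hij.symm) _ h3
      rw [map_add, map_add, h.zero j i hij.symm x hx, h.zero j i hij.symm a ha, h.self j b hb] at this
      simp [hb0] at this
    · have := congrArg (Φ.B a) (h.zero i _ (Ne.symm h4) _ h3)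
      rw [h.B_right ha] at this
      simp [h1, B_self_alt hε hκ, h.orth i j hij a ha b hb] at this
  by_cases h0 : H ≤ decL D
  · exact Or.inl (le_antisymm (le_inf h0 hH) hM)
  refine Or.inr (le_antisymm hH (O_le_of_tr hΦ hε hκ ?_))
  have h1 : ∀ i, ∀ a ∈ D i, Φ.TR H a := fun i a ha => (h.tr_block hΦ hε hκ ha).mono hM
  obtain ⟨g, hg, hg'⟩ := SetLike.not_le_iff_exists.1 h0
  obtain ⟨l, x, hx, h2⟩ : ∃ l, ∃ x ∈ D l, ∀ j, g x ∉ D j := by
    by_contra! hc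
    exact hg' (h.mem_decL hm hm0 hc)
  have h3 := (h1 l x hx).conj hg (hH hg)
  generalize g x = w at h2 h3
  obtain ⟨j, -, hj⟩ : ∃ j, j ≠ l ∧ π j w ≠ 0 := by
    by_contra! hc
    exact h2 l (h.mem_of hc)
  obtain ⟨i, hij, hi⟩ : ∃ i, i ≠ j ∧ π i w ≠ 0 := by
    by_contra! hc
    exact h2 j (h.mem_of hc)
  obtain ⟨a, ha, h4⟩ := h.exists_one' hΦ (h.mem i w) hi
  obtain ⟨b, hb, hb0, hb1, h5⟩ : ∃ b ∈ D j, b ≠ 0 ∧ b ≠ π j w ∧ Φ.B b (π j w) = 0 := by
    rcases hex with hex | hex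
    · obtain ⟨z, hz, h5, h6⟩ := hΦ.exists_perp_notMem (T := D j) (S := F ∙ π j w) [π j w]
        (by rw [finrank_span_singleton hj, hm]; exact hex)
      exact ⟨z, hz, fun h7 => h5 (by simp [h7]), fun h7 => h5 (by simp [h7]),
        Φ.B_eq_zero_symm (h6 _ (by simp))⟩
    · obtain ⟨c, h5, h6⟩ : ∃ c : F, c ≠ 0 ∧ c ≠ 1 := by
        classical
        by_contra! hc
        have : (Finset.univ : Finset F) ⊆ {0, 1} := fun c _ => by
          by_cases h7 : c = 0 <;> simp [h7, hc]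
        have h8 := (Finset.card_le_card this).trans Finset.card_le_two
        rw [Finset.card_univ] at h8; omega
      refine ⟨c • π j w, (D j).smul_mem _ (h.mem j w), smul_ne_zero h5 hj, fun h7 => h6 ?_, by
        simp [B_self_alt hε hκ]⟩
      exact smul_left_injective F hj (by simpa using h7)
  have ha0 : a ≠ 0 := by rintro rfl; simp at h4
  have h6 := TR.repl hε hκ hH (h.disjoint hΦ i) (h1 i) (h.mem i w) ha hi ha0 (r := w - π i w)
    (h.mem_perp (by rw [map_sub, h.idem, sub_self])) (by simpa using h3)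
  have h7 := TR.repl hε hκ hH (h.disjoint hΦ j) (h1 j) (h.mem j w) hb hj hb0
    (r := a + (w - π i w) - π j w) (h.mem_perp (by
      rw [map_sub, map_add, map_sub, h.idem, h.zero j i hij.symm a ha, h.toPrj.orth hij.symm]
      simp)) (by simpa using h6)
  have h8 := h3.line hH h7 (by
    rw [h.B_right ha] at h4
    rw [h.B_right hb] at h5
    have e1 : Φ.B w (π i w) = 0 := by rw [← h.B_left (h.mem i w), B_self_alt hε hκ]
    have e2 : Φ.B w (π j w) = 0 := by rw [← h.B_left (h.mem j w), B_self_alt hε hκ]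
    simp [e1, e2, B_self_alt hε hκ, B_neg_alt hε a, B_neg_alt hε b, h4, h5]) (-1)
  refine h.tr_all hΦ hε hκ hH h1 (h.tr_pair hΦ hε hκ hm hH hM hij ((D i).sub_mem ha (h.mem i w))
    ((D j).sub_mem hb (h.mem j w)) (fun h9 => ?_) (sub_ne_zero.2 hb1) (by
      convert h8 using 1; module))
  rw [sub_eq_zero.1 h9, B_self_alt hε hκ] at h4
  exact zero_ne_one h4

end Alt

theorem ODec.even_alt [FiniteDimensional F V] {Φ : Form (RingHom.id F) V} (hΦ : Φ.Nondeg)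
    (hε : Φ.ε = -1) (hκ : Φ.κ = 0) (h : ODec Φ D π) (i : ι) : Even (finrank F (D i)) := by
  obtain ⟨m, b, -⟩ := exists_symp_basis (Φ.nondeg_restrict_iff.2 (h.disjoint hΦ i)) hε hκ
  rw [finrank_eq_card_basis b]; simp

theorem isMaximalIn_dec_Sp [Fintype F] {m t k : ℕ} {D : Fin t → Submodule F (Fin m ⊕ Fin m → F)}
    (hD : IsNondegenerateMDecomposition (sympForm m F) k D) (hex : 3 ≤ k ∨ 3 ≤ Fintype.card F) :
    IsMaximalIn (spGL m F) (decompositionStabilizer D ⊓ spGL m F) :=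
  let ⟨_, h⟩ := exists_oDec (Φ := spForm m F) (fun u v h => (spForm_B m u v).trans h) hD
  isMaximalIn_dec_of_E (fun _ => mem_spGL_iff_E) (isMaximalIn_oDec_alt (spForm_nondeg m) rfl rfl h
    hD.decomp.finrank_eq hD.decomp.pos (by simpa using hD.decomp.two_le) hex)

end H23
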