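import Cfsg.Agent.H23.Od1
import Cfsg.Agent.H22.OrthA

/-! Eichler transformations and reflections in orthogonal groups: small tools. -/

set_option autoImplicit false

namespace H23

open Module H22 Cfsg Cfsg.Geo Form

variable {F V : Type*} [Field F] [AddCommGroup V] [Module F V] {Φ : Form (RingHom.id F) V}
  (hκ : Φ.κ = 1) {K : Subgroup (V ≃ₗ[F] V)} {u e f f' : V}
include hκ

theorem eichler_quad (u e x : V) : Φ.eichler u e (Φ.Q e) x =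
    x + (Φ.B e x - Φ.Q e * Φ.B u x) • u - Φ.B u x • e := by
  simp [eichler_apply, eps_quad hκ, sub_eq_add_neg]

theorem aIn_of_apply (he : Φ.B u e = 0) {g : V ≃ₗ[F] V} (hg : g ∈ K)
    (h : ∀ x, g x = x + (Φ.B e x - Φ.Q e * Φ.B u x) • u - Φ.B u x • e) : Φ.AIn K u e :=
  ⟨he, fun s hs => ⟨g, hg, fun x => by
    rw [h, show s = Φ.Q e by simpa [hκ] using hs.trQ, eichler_quad hκ]⟩⟩

theorem Form.AIn.apply (hu : Φ.Q u = 0) (h : Φ.AIn K u e) : ∃ g ∈ K, g ∈ Φ.O ∧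
    ∀ x, g x = x + (Φ.B e x - Φ.Q e * Φ.B u x) • u - Φ.B u x • e :=
  let ⟨g, hg, h1⟩ := h.2 _ (H22.eichData_quad hκ hu h.1)
  ⟨g, hg, mem_O_of_eich (H22.eichData_quad hκ hu h.1) h1, fun x => by rw [h1, eichler_quad hκ]⟩

theorem Q_smul_add (a : F) (x y : V) : Φ.Q (a • x + y) = a ^ 2 * Φ.Q x + Φ.Q y + a * Φ.B x y := by
  simp [Q_add_quad hκ, Φ.Q_smul]

theorem refl_mem_of_map (hK : K ≤ Φ.O) {g : V ≃ₗ[F] V} (hg : g ∈ K) (h : (refl hκ e).1 ∈ K) :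
    (refl hκ (g e)).1 ∈ K := by
  rw [← conj_refl hκ ⟨g, hK hg⟩]
  exact K.mul_mem (K.mul_mem hg h) (K.inv_mem hg)

theorem refl_refl_hyp (h : Hyp Φ u f) {c α β : F} (hc : c ≠ 0) (hα : α ≠ 0) (hβ : β ≠ 0) {v : V}
    (hv : Φ.B u v = 0) : (refl hκ (α • f + (c / α) • u)).1 ((refl hκ (β • f + (c / β) • u)).1 v) =
      v + ((β ^ 2 / α ^ 2 - 1) * Φ.B f v) • u := by
  have h1 : Φ.B f u = 1 := by rw [B_comm_quad hκ, h.one]
  have h2 : ∀ {a : F}, a ≠ 0 → Φ.Q (a • f + (c / a) • u) = c := fun ha => by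
    simp [Q_add_quad hκ, Φ.Q_smul, h.left.2, h.right.2, h1]; field_simp
  simp only [refl_apply, h2 hα, h2 hβ, map_sub, map_add, map_smul, LinearMap.add_apply,
    LinearMap.smul_apply, RingHom.id_apply, smul_eq_mul, hv, h1, h.one, h.left.1, h.right.1]
  match_scalars <;> field_simp <;> ring

variable [FiniteDimensional F V] (hΦ : Φ.Nondeg)
include hΦ

theorem aIn_of_perp (hu : Φ.Q u = 0) {k : V ≃ₗ[F] V} (hk : k ∈ K) (hO : k ∈ Φ.O)
    (he : Φ.B u e = 0) (h : ∀ x, Φ.B u x = 0 → k x = x + Φ.B e x • u) : Φ.AIn K u e := by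
  refine aIn_of_apply hκ he hk fun v => ?_
  rw [← sieg_apply hΦ hκ hu he]
  set E := sieg hΦ hκ hu he
  have huu : Φ.B u u = 0 := by simp [B_self_quad hκ, hu]
  have heu : Φ.B e u = 0 := Φ.B_eq_zero_symm he
  have h1 : ∀ x, Φ.B u x = 0 → E.1 x = k x := fun x hx => by simp [E, sieg_apply, h x hx, hx]
  by_cases hv : Φ.B u v = 0
  · exact (h1 v hv).symm
  have h2 : k v - E.1 v ∈ F ∙ u := by
    rw [← hΦ.perp_perp (F ∙ u)]
    intro w hw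
    replace hw := Φ.mem_perp_span_singleton.1 hw
    have h3 : Φ.B u (w - Φ.B e w • u) = 0 := by simp [hw, huu]
    have h4 : k (w - Φ.B e w • u) = w := by rw [h _ h3]; simp [heu]
    rw [map_sub, sub_eq_zero]
    conv_lhs => rw [← h4, hO.1]
    conv_rhs => rw [← h4, ← h1 _ h3, E.2.1]
  obtain ⟨a, ha⟩ := Submodule.mem_span_singleton.1 h2
  have h3 := hO.2 v
  have h4 : Φ.B u (E.1 v) = Φ.B u v := by simp [E, sieg_apply, huu, he]
  rw [← sub_add_cancel (k v) (E.1 v), ← ha, Q_smul_add hκ, hu, E.2.2, h4] at h3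
  have : a = 0 := by simpa [hv] using h3
  rw [← sub_eq_zero, ← ha, this, zero_smul]

theorem aIn_of_refl (hu : Φ.Q u = 0) (he : Φ.B u e = 0) (hQ : Φ.Q e ≠ 0)
    (h : (refl hκ (e + Φ.Q e • u)).1 * (refl hκ e).1 ∈ K) : Φ.AIn K u e :=
  aIn_of_apply hκ he h fun x => by
    rw [← sieg_apply hΦ hκ hu he, sieg_eq_refl_mul hΦ hκ hu he hQ]; rfl

omit hΦ [FiniteDimensional F V] in
theorem refl_hyp_mem (h2 : (2 : F) ≠ 0) (hK : K ≤ Φ.O) (h : Hyp Φ u f) (hf : Φ.B f e = 0)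
    (hQ : Φ.Q e ≠ 0) (hr : (refl hκ e).1 ∈ K) (h1 : ∀ a : F, Φ.AIn K u (a • e))
    (h3 : ∀ a : F, Φ.AIn K f (a • e)) {β : F} (hβ : β ≠ 0) :
    (refl hκ (β • f + (Φ.Q e / β) • u)).1 ∈ K := by
  obtain ⟨g, hg, -, e1⟩ := (h1 β⁻¹).apply hκ h.left.2
  obtain ⟨k, hk, -, e2⟩ := (h3 (β / (2 * Φ.Q e))).apply hκ h.right.2
  have hu : Φ.B u e = 0 := by simpa using (h1 1).1
  convert refl_mem_of_map hκ hK (K.mul_mem hg hk) hr using 3
  simp only [LinearEquiv.mul_apply, e1, e2, hf, map_add, map_smul, map_sub, B_self_quad hκ, hu,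
    LinearMap.smul_apply, RingHom.id_apply, smul_eq_mul, h.one, Φ.Q_smul, Φ.B_eq_zero_symm hf]
  match_scalars <;> field_simp <;> ring

theorem aIn_torus (hK : K ≤ Φ.O) (h : Hyp Φ u f) (h' : Hyp Φ u f') {c β : F} (hc : c ≠ 0)
    (hβ : β ≠ 0) (h1 : ∀ a, a ≠ 0 → (refl hκ (a • f + (c / a) • u)).1 ∈ K)
    (h2 : ∀ a, a ≠ 0 → (refl hκ (a • f' + (c / a) • u)).1 ∈ K) :
    Φ.AIn K u ((β ^ 2 - 1) • (f - f')) := by
  have hk := K.mul_mem (K.mul_mem (h1 1 one_ne_zero) (h1 β hβ)) (K.mul_mem (h2 β hβ) (h2 1 one_ne_zero))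
  refine aIn_of_perp hκ hΦ h.left.2 hk (hK hk) (by simp [h.one, h'.one]) fun x hx => ?_
  have e1 : Φ.B f u = 1 := by rw [B_comm_quad hκ, h.one]
  simp only [LinearEquiv.mul_apply]
  rw [refl_refl_hyp hκ h' hc hβ one_ne_zero hx,
    refl_refl_hyp hκ h hc one_ne_zero hβ (by simp [hx, h.left.1])]
  simp only [map_add, map_smul, map_sub, LinearMap.sub_apply, LinearMap.smul_apply, e1,
    RingHom.id_apply, smul_eq_mul]
  match_scalars
  · rfl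
  · field_simp; ring

omit hκ hΦ [FiniteDimensional F V] in
theorem Form.AIn.sum {σ : F →+* F} {Φ : Form σ V} {α : Type*} (hu : Sing Φ u) (h0 : Φ.AIn K u 0)
    (s : Finset α) {v : α → V} (h : ∀ i ∈ s, Φ.AIn K u (v i)) : Φ.AIn K u (∑ i ∈ s, v i) :=
  Finset.sum_induction v _ (fun _ _ => AIn.add hu) h0 h

theorem refl_mul_refl_mem_E [Finite F] (hV : 5 ≤ finrank F V) {a b : V} {t : F} (ha : Φ.Q a ≠ 0)
    (h : Φ.Q a = t ^ 2 * Φ.Q b) : (refl hκ a).1 * (refl hκ b).1 ∈ Φ.E :=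
  (mem_E_quad hΦ hκ hV (g := refl hκ a * refl hκ b)).2 (refl_mul_refl_mem_commutator hΦ hκ ha h)

end H23
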