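import Cfsg.Agent.H23.Ut2
import Cfsg.Agent.H23.Ux2
import Cfsg.Agent.H23.Qp4

/-! Hermitian tensor structures over an extension field: the unipotent radicals. -/

set_option autoImplicit false

namespace H23.Uf

open Module H22 Cfsg Cfsg.Geo Form Tn

section

variable {F V : Type*} [Field F] [AddCommGroup V] [Module F V] {σ : F →+* F} {Φ : Form σ V}

theorem exists_adjoint [FiniteDimensional F V] (hn : Φ.Nondeg) (z : End F V) :
    ∃ s : End F V, ∀ x y, Φ.B (z x) y = Φ.B x (s y) := by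
  choose s hs using fun y => hn.exists_repr (Φ.B y ∘ₗ z)
  have h1 : ∀ x y, Φ.B (z x) y = Φ.B x (s y) := fun x y => by
    rw [Φ.symm y, Φ.symm (s y), hs]; rfl
  exact ⟨⟨⟨s, fun y y' => hn.eq_of_forall' fun x => by simp [← h1]⟩,
    fun c y => hn.eq_of_forall' fun x => by simp [← h1]⟩, h1⟩

variable [Fintype F] {q : ℕ} (h : HS Φ q) {u w e e' : V}
include h

theorem HS.exists_fix (hw : Φ.B w e = 0) (he : Φ.B e e = 0) (h0 : e ∉ F ∙ w) {m : F} (hm : m ≠ 0) :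
    ∃ g ∈ Φ.O, LinearMap.det g.toLinearMap = m * (σ m)⁻¹ ∧ g w = w ∧ g e = m • e := by
  have := h.fd
  obtain ⟨f, a1, a2⟩ := exists_hyp_mem h.nd (h.sing he) (Φ.mem_perp_span_singleton.2 hw)
    (by rwa [h.nd.perp_perp])
  obtain ⟨g, b1, b2, b3, b4⟩ := h.exists_hd a2 hm
  exact ⟨g, b1, b2, b4 w (Φ.B_eq_zero_symm hw)
    (Φ.B_eq_zero_symm (Φ.mem_perp_span_singleton.1 a1)), b3⟩

theorem HS.trans4 (hu : Φ.B u u = 0) (hw : Φ.B w w = 0) (u0 : u ≠ 0) (w0 : w ≠ 0)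
    (he : Φ.B e e = 0) (he' : Φ.B e' e' = 0) (h1 : Φ.B u e = 0) (h2 : Φ.B w e' = 0)
    (h3 : e ∉ F ∙ u) (h4 : e' ∉ F ∙ w) : ∃ b ∈ Φ.E, ∃ m : F, m ≠ 0 ∧ b u = w ∧ b e = m • e' := by
  have := h.fd
  have li : ∀ {u e : V}, u ≠ 0 → e ∉ F ∙ u → LinearIndependent F ![u, e] := fun u0 h =>
    (LinearIndependent.pair_iff' u0).2 fun c e => h (Submodule.mem_span_singleton.2 ⟨c, e⟩)
  obtain ⟨g, a1, a2⟩ := h.nd.witt_family (li u0 h3) (li w0 h4) (by
    simp [Fin.forall_fin_two, *, Φ.B_eq_zero_symm h1, Φ.B_eq_zero_symm h2]) (by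
    simp [Q_of_κ h.kap])
  have a3 := h.nd.det_mul_σ_det_of_mem a1
  obtain ⟨m, m0, hm⟩ := h.toHF.hilbert (x := σ (LinearMap.det g.toLinearMap)) (by rwa [h.inv])
  obtain ⟨r, b1, b2, b3, b4⟩ := h.exists_fix h2 he' h4 m0
  exact ⟨r * g, h.mem_E.2 ⟨mul_mem b1 a1, by
    rw [det_mul_equiv, b2, ← map_inv₀, mul_comm m, hm, mul_comm, a3]⟩, m, m0,
    by simpa [b3] using congrArg r (a2 0), by simpa [b4] using congrArg r (a2 1)⟩

theorem HS.diag2 (hw : Φ.B w w = 0) (w0 : w ≠ 0) (he : Φ.B e e = 0) (h1 : Φ.B w e = 0)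
    (h2 : e ∉ F ∙ w) {a c : F} (ha : a ≠ 0) (hc : c ≠ 0) (h3 : σ (a * c) = a * c) :
    ∃ b ∈ Φ.E, b w = a • w ∧ b e = c • e := by
  have := h.fd
  obtain ⟨r, b1, b2, b3, b4⟩ := h.exists_fix h1 he h2 hc
  obtain ⟨k, b5, b6, b7, b8⟩ := h.exists_fix (Φ.B_eq_zero_symm h1) hw (fun e' => by
    obtain ⟨d, rfl⟩ := Submodule.mem_span_singleton.1 e'
    exact h2 (Submodule.mem_span_singleton.2 ⟨d⁻¹, by simp [left_ne_zero_of_smul w0]⟩)) ha
  refine ⟨k * r, h.mem_E.2 ⟨mul_mem b5 b1, ?_⟩, by simp [b3, b8], by simp [b4, b7]⟩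
  rw [det_mul_equiv, b2, b6, mul_mul_mul_comm, ← mul_inv, ← map_mul, h3]
  exact mul_inv_cancel₀ (mul_ne_zero ha hc)

theorem HS.exists_tr (hu : Φ.B u u = 0) {c : F} (hc : c + σ c = 0) :
    ∃ b ∈ Φ.E, ∀ v, b v = v + (c * Φ.B u v) • u := by
  have := h.fd
  obtain ⟨b, a1, a2, a3⟩ := h.nd.exists_qrefl h.kap (d := u) (c := c) (by simp [h.ε, hc, hu])
  exact ⟨b, h.mem_E.2 ⟨a1, by simp [a2, hu]⟩, a3⟩

theorem HS.exists_isot : ∃ u, u ≠ 0 ∧ Φ.B u u = 0 := by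
  have := h.fd
  have := h.dim
  obtain ⟨u, -, u0, hu, -⟩ := exists_sing_of_herm (Φ := Φ) h.ne h.ε (T := ⊤) (by simp; omega)
  exact ⟨u, u0, hu⟩

end

variable {F E S W V : Type*} [Field F] [Fintype F] [Field E] [Fintype E] [Algebra F E]
  [AddCommGroup S] [Module E S] [Module F S] [IsScalarTower F E S] [AddCommGroup W] [Module E W]
  [AddCommGroup V] [Module E V] [Module F V] [IsScalarTower F E V] {σ : F →+* F} {τ : E →+* E}
  {q q' : ℕ}

/-- A hermitian form on a tensor product over an extension field. -/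
structure Ug (Φ : Form σ V) (f : Form σ S) (h : Form τ W) (t : S →ₗ[E] W →ₗ[E] V) (q q' : ℕ) :
    Prop where
  ht : IsTensorProduct t
  hs : HS Φ q
  hw : HS h q'
  fn : f.Nondeg
  fe : f.ε = 1
  two : 2 ≤ finrank F S
  alg : ∀ c, τ (algebraMap F E c) = algebraMap F E (σ c)
  adj : ∀ (c : E) x y, f.B (c • x) y = f.B x (τ c • y)
  B : ∀ x w y w', Φ.B (t x w) (t y w') = f.B x (h.B w w' • y)

variable (F S) in
/-- Multiplication by a scalar of the big field. -/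
abbrev sc (c : E) : End F S := (LinearMap.lsmul E S c).restrictScalars F

namespace Ug

variable {Φ : Form σ V} {f : Form σ S} {h : Form τ W} {t : S →ₗ[E] W →ₗ[E] V}
  (p : Ug Φ f h t q q') {H : Subgroup (V ≃ₗ[F] V)} {u w e : W} {φ φ' : V →ₗ[F] S} {c : E}
include p

/-- The contraction with `h u`. -/
noncomputable abbrev cv (u : W) : V →ₗ[F] S := cov F p.ht (h.B u)

theorem B_t (x : S) (u : W) (v : V) : Φ.B (t x u) v = f.B x (p.cv u v) :=
  ext_t p.ht (f := Φ.B (t x u)) (f' := f.B x ∘ₗ p.cv u) (by simp [p.B]) v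

theorem cv_add (u w : W) (v : V) : p.cv (u + w) v = p.cv u v + p.cv w v := by
  rw [cv, map_add, cov_add]

theorem cv_sub (u w : W) (v : V) : p.cv (u - w) v = p.cv u v - p.cv w v := by
  rw [cv, map_sub, cov_sub]

theorem cv_smul (c : E) (w : W) (v : V) : p.cv (c • w) v = τ c • p.cv w v := by
  rw [cv, LinearMap.map_smulₛₗ, cov_smul_left]

theorem fd : FiniteDimensional F S := finite_of_finrank_pos (by have := p.two; omega)

theorem nt : Nontrivial S := Module.nontrivial_of_finrank_pos (R := F) (by have := p.two; omega)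

theorem iv : IV σ τ := ⟨p.hs.ne, p.hs.inv, p.hw.inv, p.alg⟩

theorem fsy (x y : S) : f.B y x = σ (f.B x y) := by rw [f.symm, p.fe, one_mul]

theorem tens {a : S ≃ₗ[E] S} {b : W ≃ₗ[E] W} (ha : a.restrictScalars F ∈ f.O)
    (ha' : LinearMap.det a.toLinearMap = 1) (hb : b ∈ h.E) :
    ∃ m ∈ Tg F t ⊓ Φ.E, ∀ x y, m (t x y) = t (a x) (b y) := by
  have := p.fd
  have := p.hw.fd
  have : FiniteDimensional E S := Module.Finite.of_restrictScalars_finite F E S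
  obtain ⟨hb, hb'⟩ := p.hw.mem_E.1 hb
  obtain ⟨m, -, a2, a3⟩ := exists_tens_det p.ht ha' hb'
  refine ⟨m.restrictScalars F, ⟨⟨a.restrictScalars F, b, a3⟩, p.hs.mem_E.2
    ⟨mem_O_of_κ p.hs.kap fun v v' => ?_, ?_⟩⟩, a3⟩
  · refine p.ht.inductionOn v (by simp) (fun x y => ?_) fun _ _ e e' => by simp_all
    refine ext_t p.ht (f := Φ.B (m (t x y)) ∘ₗ m.toLinearMap.restrictScalars F) (f' := Φ.B (t x y))
      (fun x' y' => ?_) v'
    simpa [a3, p.B, hb.1] using ha.1 x (h.B y y' • x')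
  · rw [← map_one (Algebra.norm F (S := E)), ← a2, ← LinearMap.det_restrictScalars]; rfl

theorem tw' {b : W ≃ₗ[E] W} (hb : b ∈ h.E) : ∃ m ∈ Tg F t ⊓ Φ.E,
    (∀ x y, m (t x y) = t x (b y)) ∧ ∀ y v, p.cv (b y) (m v) = p.cv y v := by
  obtain ⟨m, a1, a2⟩ := p.tens (a := 1) (one_mem _) (by simp) hb
  exact ⟨m, a1, a2, fun y => ext_t p.ht (f := p.cv (b y) ∘ₗ m.toLinearMap)
    (by simp [a2, (E_le_O hb).1])⟩

theorem tv' (hu : h.B u u = 0) (hc : c + τ c = 0) :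
    ∃ g ∈ Tg F t ⊓ Φ.E, ∀ v, g v = v + t (c • p.cv u v) u := by
  obtain ⟨b, a1, a3⟩ := p.hw.exists_tr hu hc
  obtain ⟨m, a4, a5, -⟩ := p.tw' a1
  exact ⟨m, a4, ext_t p.ht (f := m.toLinearMap) (f' := LinearMap.id + vec F t u ∘ₗ sc F S c ∘ₗ p.cv u)
    (by simp [a5, a3, mul_smul, smul_comm c])⟩

variable (hM : Tg F t ⊓ Φ.E ≤ H)
include hM

theorem tw {b : W ≃ₗ[E] W} (hb : b ∈ h.E) : ∃ m ∈ H, (∀ x y, m (t x y) = t x (b y)) ∧
    ∀ y v, p.cv (b y) (m v) = p.cv y v :=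
  have ⟨m, a1, a2⟩ := p.tw' hb
  ⟨m, hM a1, a2⟩

theorem tv (hu : h.B u u = 0) (hc : c + τ c = 0) :
    ∃ g ∈ H, ∀ v, g v = v + t (c • p.cv u v) u :=
  have ⟨m, a1, a2⟩ := p.tv' hu hc
  ⟨m, hM a1, a2⟩

omit hM

variable (H u φ) in
/-- Elements of the unipotent radical of the stabiliser of a block, modulo its centre. -/
def RT : Prop := ∃ r ∈ H, (∀ x, φ (t x u) = 0) ∧ ∀ v, p.cv u v = 0 → r v = v + t (φ v) u

variable (H) in
/-- The coefficients occurring in `H`. -/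
def Lz (z : End F S) : Prop := ∀ u ≠ 0, h.B u u = 0 → ∀ e, h.B u e = 0 → p.RT H u (z ∘ₗ p.cv e)

variable (H) in
/-- The coefficients of the central elements. -/
def Cz (z : End F S) : Prop :=
  ∀ u ≠ 0, h.B u u = 0 → ∃ g ∈ H, ∀ v, g v = v + t (z (p.cv u v)) u

variable {p} (hu : h.B u u = 0)
include hu

theorem RT.congr (h1 : p.RT H u φ) (h2 : ∀ v, p.cv u v = 0 → φ v = φ' v) : p.RT H u φ' :=
  have ⟨r, a1, a2, a3⟩ := h1
  ⟨r, a1, fun x => by rw [← h2 _ (by simp [hu]), a2], fun v hv => by rw [a3 v hv, h2 v hv]⟩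

theorem rt_zero (h2 : ∀ v, p.cv u v = 0 → φ v = 0) : p.RT H u φ :=
  RT.congr hu (φ := 0) ⟨1, one_mem _, by simp⟩ fun v hv => (h2 v hv).symm

theorem RT.add (h1 : p.RT H u φ) (h2 : p.RT H u φ') : p.RT H u (φ + φ') :=
  have ⟨r, a1, a2, a3⟩ := h1
  have ⟨r', a4, a5, a6⟩ := h2
  ⟨r * r', mul_mem a1 a4, by simp [a2, a5], fun v hv => by
    simp [a6 v hv, a3 v hv, a3 (t _ u) (by simp [hu]), a2, add_assoc]⟩

theorem RT.neg (h1 : p.RT H u φ) : p.RT H u (-φ) :=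
  have ⟨r, a1, a2, a3⟩ := h1
  ⟨r⁻¹, inv_mem a1, by simp [a2], fun v hv => r.symm_apply_eq.2 (by
    simp [a3 v hv, a3 (t _ u) (by simp [hu]), a2])⟩

theorem RT.sub (h1 : p.RT H u φ) (h2 : p.RT H u φ') : p.RT H u (φ - φ') :=
  sub_eq_add_neg φ φ' ▸ h1.add hu (h2.neg hu)

omit hu

theorem RT.smul (hc : c ≠ 0) (h1 : p.RT H (c • u) φ) : p.RT H u (sc F S c ∘ₗ φ) :=
  have ⟨r, a1, a2, a3⟩ := h1
  ⟨r, a1, fun x => by simpa [hc] using a2 (c⁻¹ • x), fun v hv => by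
    simp [a3 v (by simp [cv_smul, hv])]⟩

theorem RT.conj (hH : H ≤ Φ.O) (h1 : p.RT H u φ) {m : V ≃ₗ[F] V} (hm : m ∈ H) {a : S ≃ₗ[F] S}
    (h2 : ∀ x, m (t x u) = t (a x) w) :
    p.RT H w (a.toLinearMap ∘ₗ φ ∘ₗ m.symm.toLinearMap) := by
  obtain ⟨r, a1, a2, a3⟩ := h1
  refine ⟨m * r * m⁻¹, mul_mem (mul_mem hm a1) (inv_mem hm), fun x => ?_, fun v hv => ?_⟩
  · obtain ⟨x, rfl⟩ := a.surjective x
    simp [← h2, a2]
  · have : p.cv u (m.symm v) = 0 := p.fn.eq_of_forall' fun x => by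
      rw [← p.B_t, ← (hH hm).1, h2, p.B_t]; simp [hv]
    simp [a3 _ this, h2]

variable (p H) in
/-- The coefficients form a subspace. -/
def LS : Submodule F (End F S) where
  carrier := {z | p.Lz H z}
  add_mem' ha hb u u0 hu e he := (ha u u0 hu e he).add hu (hb u u0 hu e he)
  zero_mem' u _ hu e _ := rt_zero hu (by simp)
  smul_mem' c z hz u u0 hu e he := (hz u u0 hu (algebraMap F E (σ c) • e) (by simp [he])).congr hu
    fun v _ => by simp [cv_smul, p.alg, p.hs.inv]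

theorem Lz.mul_sc {z : End F S} (hz : p.Lz H z) (c : E) : p.Lz H (z * sc F S c) :=
  fun u u0 hu e he => (hz u u0 hu (τ c • e) (by simp [he])).congr hu
    fun v _ => by simp [cv_smul, p.hw.inv]

variable (hH : H ≤ Φ.O)
include hM

theorem rt_rat (hu : h.B u u = 0) (he : h.B u e = 0) : p.RT H u (p.cv e) := by
  have := p.hw.fd
  obtain ⟨s, hs⟩ := exists_eichData (p.hw.sing hu) he
  obtain ⟨b, hb⟩ := exists_eich p.hw.nd hs
  obtain ⟨m, a1, a2, -⟩ := p.tw hM (Form.mem_E hs hb)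
  refine ⟨m, a1, by simp [h.B_eq_zero_symm he], fun v hv => ?_⟩
  have := ext_t p.ht (f := m.toLinearMap) (f' := LinearMap.id + vec F t u ∘ₗ p.cv e -
    vec F t u ∘ₗ sc F S (τ s) ∘ₗ p.cv u - vec F t e ∘ₗ p.cv u) (fun x y => by
      simp [a2, hb, eichler_apply, p.hw.ε]; module) v
  simp only [LinearMap.sub_apply, LinearMap.comp_apply, hv, map_zero, sub_zero] at this
  exact this

include hH

theorem RT.move {z : End F S} (h1 : p.RT H u (z ∘ₗ p.cv e)) {b : W ≃ₗ[E] W} (hb : b ∈ h.E)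
    (hu : h.B u u = 0) : p.RT H (b u) (z ∘ₗ p.cv (b e)) := by
  obtain ⟨k, b6, b7, b8⟩ := p.tw hM hb
  refine (h1.conj hH b6 (a := 1) fun x => b7 x u).congr (by rwa [(E_le_O hb).1]) fun v _ => ?_
  obtain ⟨v, rfl⟩ := k.surjective v
  simp [b8]

theorem RT.scale {z : End F S} (hu : h.B u u = 0) (u0 : u ≠ 0) (he : h.B e e = 0)
    (h2 : h.B u e = 0) (h3 : e ∉ E ∙ u) (h1 : p.RT H u (z ∘ₗ p.cv e)) (c : E) :
    p.RT H u (z ∘ₗ p.cv (c • e)) := by
  have a1 : ∀ (a : F) (μ : E), τ μ = μ → p.RT H u (z ∘ₗ p.cv ((a ^ 2 • μ) • e)) := fun a μ hμ => by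
    by_cases a0 : a = 0 ∨ μ = 0
    · exact rt_zero hu fun v _ => by rcases a0 with rfl | rfl <;> simp [cv, cov_zero]
    push Not at a0
    have a2 : algebraMap F E (σ a) ≠ 0 := by simp [a0.1]
    obtain ⟨b, b1, b2, b3⟩ := p.hw.diag2 hu u0 he h2 h3 a2 (c := a • μ) (by simp [a0]) (by
      simp [Algebra.smul_def, p.alg, p.hs.inv, hμ]; ring)
    have := h1.move hM hH b1 hu
    rw [b2, b3] at this
    refine (this.smul a2).congr hu fun v _ => ?_
    simp [cv_smul, -smul_assoc, Algebra.smul_def, p.alg, mul_smul, sq]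
  have a2 : ∀ (a : F) (μ : E), τ μ = μ → p.RT H u (z ∘ₗ p.cv ((a • μ) • e)) := fun a μ hμ => by
    obtain ⟨x, y, rfl⟩ := Nd.exists_sq_sub a
    exact ((a1 x μ hμ).sub hu (a1 y μ hμ)).congr hu fun v _ => by simp [sub_smul, cv_sub]
  obtain ⟨θ, -, hθ⟩ := p.iv.dec
  obtain ⟨x, y, hx, hy, rfl⟩ := hθ c
  exact ((a2 1 x hx).add hu (a2 θ y hy)).congr hu fun v _ => by simp [add_smul, cv_add]

theorem RT.lz (h1 : p.RT H u φ) (u0 : u ≠ 0) (hu : h.B u u = 0) (he : h.B u e = 0) :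
    p.Lz H (φ ∘ₗ vec F t e) := by
  let U : Submodule E W :=
    { carrier := {y | φ ∘ₗ vec F t y ∈ p.LS H}
      add_mem' := fun {a b} ha hb => by
        change _ ∈ p.LS H
        convert (p.LS H).add_mem ha hb using 1
        ext x; simp
      zero_mem' := by
        change _ ∈ p.LS H
        convert (p.LS H).zero_mem using 1
        ext x; simp
      smul_mem' := fun c a ha => by
        change p.Lz H _
        convert Lz.mul_sc ha c using 1
        ext x; simp }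
  refine p.hw.ind (U := U) u0 (show φ ∘ₗ vec F t u ∈ p.LS H by
      rw [show φ ∘ₗ vec F t u = 0 from LinearMap.ext h1.choose_spec.2.1]; exact zero_mem _)
    (fun e he e0 e1 w w0 hw y hy => ?_) he
  obtain ⟨s, s0, hs⟩ := p.hw.exists_tz
  obtain ⟨m, a1, a2⟩ := p.tv hM e0 hs
  have a3 := ((h1.conj hH (inv_mem a1) (a := 1) (w := u) fun x => m.symm_apply_eq.2 (by
    simp [a2, h.B_eq_zero_symm he])).sub hu h1).congr hu
      (φ' := (φ ∘ₗ vec F t e) ∘ₗ p.cv (τ s • e)) fun v _ => by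
        change φ (m v) - φ v = _; simp [a2, cv_smul, p.hw.inv, -map_smul]
  let U' : Submodule E W :=
    { carrier := {y | ∀ c : E, p.RT H w ((φ ∘ₗ vec F t e) ∘ₗ p.cv (c • y))}
      add_mem' := fun ha hb c => ((ha c).add hw (hb c)).congr hw fun v _ => by simp [cv_add]
      zero_mem' := fun c => rt_zero hw fun v _ => by simp [cv, cov_zero]
      smul_mem' := fun a _ ha c => by rw [smul_smul]; exact ha _ }
  refine one_smul E y ▸ p.hw.ind (U := U') w0 (fun c => rt_zero hw fun v hv => by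
    simp [cv_smul, hv]) (fun y b1 b2 b3 c => ?_) hy 1
  have s1 : τ s ≠ 0 := by simpa
  obtain ⟨b, b4, m, m0, rfl, b5⟩ := p.hw.trans4 hu hw u0 w0 (e := τ s • e) (by simp [e0]) b2
    (by simp [he]) b1 (by rwa [Submodule.smul_mem_iff _ s1]) b3
  have b6 := a3.move hM hH b4 hu
  rw [b5] at b6
  simpa [smul_smul, m0] using b6.scale hM hH hw w0 (by simp [b2]) (by simp [b1])
    (by rwa [Submodule.smul_mem_iff _ m0]) (c * m⁻¹)

omit hM in
theorem Lz.comm {z z' s s' : End F S} (h1 : p.Lz H z) (h2 : p.Lz H z')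
    (hs : ∀ x y, f.B (z x) y = f.B x (s y)) (hs' : ∀ x y, f.B (z' x) y = f.B x (s' y)) (α : E) :
    p.Cz H (z' * sc F S α * s - z * sc F S (τ α) * s') := fun u u0 hu => by
  have := p.hw.fd
  obtain ⟨e, a2, -, a1⟩ := p.hw.exists_iso u0
  obtain ⟨e', a3, a4⟩ := p.hw.nd.exists_perp_eq_one a1
  replace a3 : h.B u (τ α • e') = 0 := by
    simp [h.B_eq_zero_symm (a3 u (Submodule.mem_span_singleton_self u))]
  replace a4 : h.B (τ α • e') e = α := by simp [a4, p.hw.inv]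
  generalize τ α • e' = e' at a3 a4
  have key : ∀ {z s : End F S} {e : W} {r : V ≃ₗ[F] V}, r ∈ H → h.B u e = 0 →
      (∀ x y, f.B (z x) y = f.B x (s y)) → (∀ v, p.cv u v = 0 → r v = v + t (z (p.cv e v)) u) →
      ∀ y, h.B u y = 0 → ∀ v, p.cv y (r v) = p.cv y v - h.B y e • s (p.cv u v) := by
    intro z s e r b1 b2 b3 b4
    have b5 : ∀ v, p.cv u (r v) = p.cv u v := fun v => p.fn.eq_of_forall' fun x => by
      rw [← p.B_t, ← p.B_t, ← (hH b1).1 _ v, b4 (t x u) (by simp [hu])]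
      simp [h.B_eq_zero_symm b2]
    refine fun y hy v => p.fn.eq_of_forall' fun x => ?_
    have := (hH b1).1 (t x y) v
    rw [b4 _ (by simp [hy])] at this
    simp [p.B_t, b5, b3, p.adj, ← p.hw.sy] at this ⊢
    linear_combination this
  obtain ⟨r, b1, -, b2⟩ := h1 u u0 hu e a2
  obtain ⟨r', b3, -, b4⟩ := h2 u u0 hu e' a3
  have c1 := key b1 a2 hs b2
  have c2 := key b3 a3 hs' b4
  refine ⟨r * r' * (r' * r)⁻¹, mul_mem (mul_mem b1 b3) (inv_mem (mul_mem b3 b1)), fun v => ?_⟩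
  obtain ⟨v, rfl⟩ := (r' * r).surjective v
  have d1 := b2 (r' v - v) (by simp [c2 u hu, a3])
  have d2 := b4 (r v - v) (by simp [c1 u hu, a2])
  simp [c1 e' a3, c2 e a2, a4, p.hw.sy e' e] at d1 d2
  simp [c1 u hu, c2 u hu, a2, a3]
  linear_combination (norm := module) d1 - d2

theorem Lz.mul_cz {z ζ : End F S} (h1 : p.Lz H z) (h2 : p.Cz H ζ) : p.Lz H (z * ζ) := by
  have := p.hw.fd
  obtain ⟨u, u0, hu⟩ := p.hw.exists_isot
  obtain ⟨e, a2, a0, a1⟩ := p.hw.exists_iso u0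
  obtain ⟨y, a3, a4⟩ := p.hw.nd.exists_perp_eq_one a1
  replace a3 := h.B_eq_zero_symm (a3 u (Submodule.mem_span_singleton_self u))
  obtain ⟨m, b1, b2⟩ := h2 e (by rintro rfl; simp at a1) a0
  have b3 := h1 u u0 hu y a3
  convert ((b3.conj hH (inv_mem b1) (a := 1) (w := u) fun x => m.symm_apply_eq.2 (by
    simp [b2, h.B_eq_zero_symm a2])).sub hu b3).lz hM hH u0 hu a3 using 1
  ext x
  change _ = z (p.cv y (m (t x y))) - z (p.cv y (t x y))
  simp [b2, a4, p.hw.sy y e]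

theorem Lz.one : p.Lz H 1 := fun _ _ hu _ he => rt_rat hM hu he

theorem Lz.mul {z z' : End F S} (h1 : p.Lz H z) (h2 : p.Lz H z') : p.Lz H (z * z') := by
  have := p.fd
  obtain ⟨s, hs⟩ := exists_adjoint p.fn z'
  obtain ⟨θ, hθ⟩ := DFunLike.ne_iff.1 p.hs.ne
  have a1 := fun α => h1.mul_cz hM hH (h2.comm hH (Lz.one hM hH) hs (s' := 1) (fun _ _ => rfl) α)
  have a2 : θ - σ θ ≠ 0 := sub_ne_zero.2 (Ne.symm hθ)
  change _ ∈ p.LS H
  convert (p.LS H).smul_mem (θ - σ θ)⁻¹ (sub_mem (a1 (algebraMap F E θ))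
    ((p.LS H).smul_mem θ (a1 1))) using 1
  ext x
  rw [LinearMap.smul_apply, eq_inv_smul_iff₀ a2]
  simp [p.alg]
  module

end Ug

end H23.Uf
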