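import Cfsg.Agent.H23.Qu1
import Cfsg.Agent.H23.Sx4

/-! Hermitian tensor structures over an extension field: stabilisers of blocks. -/

set_option autoImplicit false

namespace H23.Uf

open Module H22 Cfsg Cfsg.Geo Form Tn

variable {F E S W V : Type*} [Field F] [Fintype F] [Field E] [Fintype E] [Algebra F E]
  [AddCommGroup S] [Module E S] [Module F S] [IsScalarTower F E S] [AddCommGroup W] [Module E W]
  [AddCommGroup V] [Module E V] [Module F V] [IsScalarTower F E V] {σ : F →+* F} {τ : E →+* E}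
  {q q' : ℕ}

variable (E) in
/-- Invariant subrings of the endomorphism ring. -/
def HU (f : Form σ S) : Prop := ∀ Λ : Subring (End F S), (∀ c : E, sc F S c ∈ Λ) →
  (∀ a : S ≃ₗ[E] S, a.restrictScalars F ∈ f.O → LinearMap.det a.toLinearMap = 1 → ∀ z ∈ Λ,
    Qp.cn (a.restrictScalars F) z ∈ Λ) → (∃ z ∈ Λ, ∀ c : E, ∃ x, z x ≠ c • x) → ∀ z, z ∈ Λ

variable (F) in
/-- Elements of small support move a block. -/
def HD (t : S →ₗ[E] W →ₗ[E] V) : Prop := ∀ N : V →ₗ[F] V, 0 < finrank F (LinearMap.range N) →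
  finrank F (LinearMap.range N) ≤ finrank F S → ∀ g ∈ Tg F t, (∀ v, g v = v + N v) →
    ∃ u ≠ 0, ∀ x, t x u ∈ LinearMap.range N

namespace Ug

variable {Φ : Form σ V} {f : Form σ S} {h : Form τ W} {t : S →ₗ[E] W →ₗ[E] V}
  {p : Ug Φ f h t q q'} {H : Subgroup (V ≃ₗ[F] V)} {u w e : W} {φ : V →ₗ[F] S} {c : E}

theorem eq_t (p : Ug Φ f h t q q') {u' : W} (h1 : h.B u u' = 1) {v : V}
    (h2 : ∀ e, h.B u e = 0 → p.cv e v = 0) : v = t (p.cv u' v) u :=
  p.hs.nd.eq_of_forall' fun z => p.ht.inductionOn z (by simp) (fun y e => by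
    have := h2 (e - h.B u e • u') (by simp [h1])
    rw [cv_sub, cv_smul, sub_eq_zero, ← p.hw.sy] at this
    simp [p.B_t, this, -map_smul]) fun _ _ a b => by simp [a, b]

variable (hH : H ≤ Φ.O)
include hH p

theorem win (h1 : ∀ z, p.Lz H z) : Φ.E ≤ H := by
  have := p.hw.fd
  have := p.hs.fd
  have := p.fd
  have := p.nt
  have := p.two
  obtain ⟨ρ, hρ⟩ := exists_add_conj_eq_one p.hs.ne p.hs.inv
  have a1 : ∀ x u, h.B u u = 0 → ∀ s, s + σ s = 0 → QR Φ H (t x u) s := fun x u hu s hs => by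
    by_cases u0 : u = 0
    · exact ⟨1, one_mem _, by simp [u0]⟩
    obtain ⟨g, b1, b2⟩ := (h1 (-(ρ * s) • (f.B x).smulRight x)).comm hH (h1 1)
      (s := (σ ρ * s) • (f.B x).smulRight x) (s' := 1) (fun a b => by
        simp [p.fsy x a, ← neg_eq_of_add_eq_zero_right hs, mul_left_comm, mul_comm])
      (fun _ _ => rfl) 1 u u0 hu
    refine ⟨g, b1, fun v => ?_⟩
    simp [b2, p.B_t, t_smul]
    linear_combination (norm := module) (s * f.B x (p.cv u v) * hρ) • t x u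
  obtain ⟨u, u0, hu⟩ := p.hw.exists_isot
  obtain ⟨u', hu'⟩ := exists_hyp p.hw.nd (p.hw.sing hu) u0
  obtain ⟨s, s0, hs⟩ := p.hs.exists_tz
  obtain ⟨a, ha⟩ := exists_ne (0 : S)
  have a0 : Φ.B (t a u) (t a u) = 0 := by simp [p.B, hu]
  have a2 : ∀ x, Φ.AIn H (t a u) (t x u) := fun x => by
    simpa [t_smul, s0] using p.hs.aIn_add a0 (v := t (s⁻¹ • x) u) (by simp [p.B, hu])
      (by simp [p.B, hu]) (p.hs.aIn_of_qr (a1 a u hu)) (p.hs.aIn_of_qr (a1 _ u hu))
      (by simpa using p.hs.aIn_of_qr (a1 (s⁻¹ • x + a) u hu)) hs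
  have a3 : ∀ x w, h.B w w = 0 → h.B w u = 1 → f.B x a = 0 → Φ.AIn H (t a u) (t x w) :=
    fun x w b1 b2 b3 => by
      by_cases x0 : x = 0
      · simpa [x0] using a2 0
      obtain ⟨y, hy⟩ := p.fn.exists_ne x0
      exact p.hs.aIn_tv hH a0 (a2 (s⁻¹ • y)) (a1 x w b1 s hs) (by simp [p.B, b2, b3])
        (by simp [p.B, b2, hy, s0])
  let U : Submodule E W :=
    { carrier := {y | ∀ x, Φ.AIn H (t a u) (t x y)}
      add_mem' := fun ha hb x => by
        rw [map_add]; exact (ha x).add (p.hs.sing a0) (hb x)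
      zero_mem' := fun x => by simpa using a2 0
      smul_mem' := fun c _ ha x => by simpa using ha (c • x) }
  have a4 : ∀ y, h.B u y = 0 → y ∈ U := fun y => p.hw.ind u0 a2 fun w b1 b2 b3 x => by
    obtain ⟨w', b4, b5⟩ := p.hw.nd.exists_perp_eq_one b3
    replace b4 := b4 u (Submodule.mem_span_singleton_self u)
    obtain ⟨d, b6⟩ := exists_sing_add_smul (p.hw.sing hu)
      (x := u' + (1 - h.B w u') • w') (by simp [hu'.one, h.B_eq_zero_symm b4])
    have b7 : ∀ x, x ∉ F ∙ a → Φ.AIn H (t a u) (t x w) := fun x hx => by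
      obtain ⟨x', c1, c2⟩ := p.fn.exists_perp_eq_one hx
      refine p.hs.aIn_tv hH a0 (a3 (s⁻¹ • x') _ b6.1 ?_ ?_) (a1 x w b2 s hs)
        (by simp [p.B, h.B_eq_zero_symm b1]) ?_
      · simp [hu'.B_symm, p.hw.ε, b4, hu]
      · simp [c1 a (Submodule.mem_span_singleton_self a)]
      · rw [p.B]
        simp [p.hw.sy w' w, b5, h.B_eq_zero_symm b1, p.fsy x' x, c2, s0]
    by_cases hx : x ∈ F ∙ a
    · obtain ⟨y, -, hy⟩ := exists_notMem_span (W := (⊤ : Submodule F S)) (by simpa) a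
      simpa using (b7 (x + y) fun e => hy ((Submodule.add_mem_iff_right _ hx).1 e)).sub
        (p.hs.sing a0) (b7 y hy)
    exact b7 x hx
  obtain ⟨b, hb⟩ := p.fn.exists_ne ha
  obtain ⟨g, b1, b2⟩ := a1 b u' hu'.right.1 s hs
  refine E_le_of_qIn_of_mem p.hs.nd (p.hs.sing a0) (qIn_iff.2 fun e he => ?_) b1 (hH b1)
    (by simp [b2, p.B, hu, hb, p.fsy a b, hu'.one, hu'.B_symm, p.hw.ε, s0])
  have b3 : ∀ v, Φ.AIn H (t a u) (v - t (p.cv u v) u') := fun v => p.ht.inductionOn v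
    (by simpa using a2 0) (fun x y => by
      simpa using a4 (y - h.B u y • u') (by simp [hu'.one]) x) fun v v' c1 c2 => by
      convert c1.add (p.hs.sing a0) c2 using 1
      simp; abel
  simpa using (b3 e).add (p.hs.sing a0) (a3 (p.cv u e) u' hu'.right.1
    (by rw [hu'.B_symm, p.hw.ε]) (f.B_eq_zero_symm (p.B_t a u e ▸ he)))

variable (hM : Tg F t ⊓ Φ.E ≤ H) (hR : HU E f) (hN : ¬ Φ.E ≤ H)
include hM hR hN

theorem RT.rat (h1 : p.RT H u φ) (u0 : u ≠ 0) (hu : h.B u u = 0) (he : h.B u e = 0) :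
    ∃ c : E, ∀ x, φ (t x e) = c • x := by
  by_contra! ha
  let Λ : Subring (End F S) :=
    { carrier := {z | p.Lz H z}
      mul_mem' := Lz.mul hM hH
      one_mem' := Lz.one hM hH
      add_mem' := (p.LS H).add_mem
      zero_mem' := (p.LS H).zero_mem
      neg_mem' := (p.LS H).neg_mem }
  refine hN (win (p := p) hH (hR Λ (fun c => (Lz.one hM hH).mul_sc c)
    (fun b a1 a2 z hz u u0 hu e he => ?_) ⟨_, h1.lz hM hH u0 hu he, ha⟩))
  obtain ⟨m, a4, a5⟩ := p.tens a1 a2 (one_mem _)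
  refine ((hz u u0 hu e he).conj hH (hM a4) (a := b.restrictScalars F) fun x => a5 x u).congr hu
    fun v _ => ?_
  obtain ⟨v, rfl⟩ := m.surjective v
  have a4 := ext_t p.ht (f := p.cv e ∘ₗ m.toLinearMap)
    (f' := b.toLinearMap.restrictScalars F ∘ₗ p.cv e) (by simp [a5]) v
  simp only [LinearMap.comp_apply, LinearEquiv.coe_coe] at a4
  simp [a4]

theorem semi {g : V ≃ₗ[F] V} (hg : g ∈ H) {a : S ≃ₗ[F] S} (u0 : u ≠ 0) (w0 : w ≠ 0)
    (hu : h.B u u = 0) (hw : h.B w w = 0) (h1 : ∀ x, g (t x u) = t (a x) w) (d : E) :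
    ∃ d' : E, ∀ x, a (d • x) = d' • a x := by
  have := p.hw.fd
  have := p.nt
  obtain ⟨x₀, hx⟩ := exists_ne (0 : S)
  obtain ⟨u', hu'⟩ := p.hw.nd.exists_ne u0
  obtain ⟨e₁, a1, -, a2⟩ := p.hw.exists_iso w0
  obtain ⟨e, a3, a4⟩ : ∃ e, h.B u e = 0 ∧ p.cv e (g.symm (t x₀ e₁)) ≠ 0 := by
    by_contra! hc
    have := congrArg g (p.eq_t hu' hc)
    rw [g.apply_symm_apply, h1] at this
    exact a2 (Qp.mem_span_of_t p.ht hx this)
  have a5 := fun c : E => ((rt_rat (p := p) hM hu (e := τ c • e) (by simp [a3])).conj hH hg h1).rat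
    hH hM hR hN w0 hw a1
  obtain ⟨μ, a6⟩ := a5 1
  obtain ⟨ν, a7⟩ := a5 d
  simp only [LinearMap.comp_apply, LinearEquiv.coe_coe, cv_smul, p.hw.inv, one_smul] at a6 a7
  have a8 : μ ≠ 0 := by rintro rfl; exact a4 (by simpa using a6 x₀)
  refine ⟨ν / μ, fun x => ?_⟩
  have a9 : p.cv e (g.symm (t (μ⁻¹ • a x) e₁)) = x := a.injective (by rw [a6, smul_inv_smul₀ a8])
  rw [div_eq_mul_inv, mul_smul, ← a7, a9]

theorem step {g : V ≃ₗ[F] V} (hg : g ∈ H) {a : S ≃ₗ[F] S} (u0 : u ≠ 0) (hu : h.B u u = 0)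
    (h1 : ∀ x, g (t x u) = t (a x) w) (he : h.B u e = 0) : ∃ e', ∀ x, g (t x e) = t (a x) e' := by
  have := p.hw.fd
  have := p.nt
  obtain ⟨x₀, a3⟩ := exists_ne (0 : S)
  have z0 : ∀ {c : E}, (∀ x y, f.B (a x) (c • a y) = 0) → c = 0 := fun {c} hc =>
    (smul_eq_zero.1 (p.fn.eq_of_forall' (y := 0) fun x => by
      simpa using hc (a⁻¹ x) (a⁻¹ x₀))).resolve_right a3
  have a0 : ∀ {u w z}, h.B u u = 0 → h.B w w = 0 → h.B w z = 0 → ∀ ψ : S → S,
      (∀ x, g (t x u) = t (a x) z + t (ψ x) w) → h.B z z = 0 := fun {u _ _} hu hw hz ψ e =>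
    z0 fun x y => by
      simpa [e, p.B, hu, hw, hz, h.B_eq_zero_symm hz] using (hH hg).1 (t x u) (t y u)
  have hw := a0 (w := 0) (z := w) hu (by simp) (by simp) id (by simpa using h1)
  have w0 : w ≠ 0 := by
    rintro rfl
    exact a3 (t_eq_zero p.ht u0 (by simpa using h1 x₀))
  have hs := semi (p := p) hH hM hR hN hg u0 w0 hu hw h1
  let U : Submodule E W :=
    { carrier := {e | ∃ e', ∀ x, g (t x e) = t (a x) e'}
      add_mem' := fun ⟨y, h⟩ ⟨y', h'⟩ => ⟨y + y', by simp [h, h']⟩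
      zero_mem' := ⟨0, by simp⟩
      smul_mem' := fun c _ ⟨y, h⟩ => have ⟨d, hd⟩ := hs c
        ⟨d • y, fun x => by simpa [hd] using h (c • x)⟩ }
  refine p.hw.ind (U := U) u0 ⟨w, h1⟩ (fun e he e0 h0 => ?_) he
  have h2 : ∀ x, g⁻¹ (t x w) = t (a⁻¹ x) u := fun x => g.symm_apply_eq.2 (by simp [h1])
  obtain ⟨w₀, -, a1⟩ := p.hw.nd.exists_perp_eq_one (W := ⊥) (x := w) (by simpa)
  obtain ⟨e', a2⟩ := exists_vec p.ht (e := fun x => g (t x e) - t (p.cv w₀ (g (t x e))) w)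
    (a := a) (F := F) fun ψ => by
      obtain ⟨y, hy⟩ := p.hw.nd.exists_repr (ψ - ψ w • h.B w₀)
      obtain ⟨c, hc⟩ := ((rt_rat (p := p) hM hw (e := y) (h.B_eq_zero_symm (by
        simp [hy, a1]))).conj hH (inv_mem hg) h2).rat hH hM hR hN u0 hu he
      obtain ⟨d, hd⟩ := hs c
      refine ⟨d, fun x => ?_⟩
      have := congrArg a (hc x)
      rw [cv, LinearMap.ext hy, hd] at this
      simpa [cov_sub, cov_smul_left, cv, show g⁻¹.symm = g from rfl] using this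
  set z : S →ₗ[F] S := p.cv w₀ ∘ₗ g.toLinearMap ∘ₗ vec F t e
  replace a2 : ∀ x, g (t x e) = t (a x) e' + t (z x) w := fun x => by simp [z, ← a2]
  have a4 : e' ∉ E ∙ w := fun h3 => by
    obtain ⟨c, rfl⟩ := Submodule.mem_span_singleton.1 h3
    exact h0 (Qp.mem_span_of_t p.ht a3 (g.injective ((a2 x₀).trans
      (show _ = g (t (a⁻¹ (c • a x₀ + z x₀)) u) by simp [h1, -map_add]; simp))))
  have a5 : h.B w e' = 0 := z0 fun x y => by
    simpa [h1, a2, p.B, he, hw] using (hH hg).1 (t x u) (t y e)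
  obtain ⟨e₁, a6, a7⟩ := p.hw.nd.exists_perp_eq_one a4
  replace a6 := a6 w (Submodule.mem_span_singleton_self w)
  have a7' : h.B e' e₁ = 1 := by rw [p.hw.sy, a7, map_one]
  have a6' := h.B_eq_zero_symm a6
  obtain ⟨s, s0, hs'⟩ := p.hw.exists_tz
  obtain ⟨κ, a8⟩ := ((rt_rat (p := p) hM hu (e := τ s • e) (by simp [he])).conj hH hg h1).rat
    hH hM hR hN w0 hw a6'
  simp only [LinearMap.comp_apply, LinearEquiv.coe_coe, cv_smul, p.hw.inv] at a8
  have a9 : ∀ v, p.cv w v = 0 → ∀ x, f.B x (p.cv e (g.symm v)) = f.B (a x) (p.cv e' v) :=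
    fun v hv x => by rw [← p.B_t, ← (hH hg).1, a2]; simp [p.B_t, hv]
  have b1 : ∀ v, p.cv w v = 0 → a (s • p.cv e (g.symm v)) = κ • p.cv e' v := fun v hv => by
    rw [← a8]
    exact congrArg (fun x => a (s • x)) (p.fn.eq_of_forall' fun x => by
      simp [a9 v hv, a9 (t _ e₁) (by simp [a6']), a7'])
  have b7 : κ ≠ 0 := by
    rintro rfl
    simp only [zero_smul, map_eq_zero_iff a a.injective, smul_eq_zero, s0, false_or] at a8
    exact one_ne_zero (z0 (c := 1) fun x y => by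
      simpa [a8, a7'] using (a9 (t (a y) e₁) (by simp [a6']) x).symm)
  have c1 := a0 e0 hw a5 z a2
  obtain ⟨k, b2, b3⟩ := p.tv hM e0 hs'
  have b0 : ∀ v, p.cv w v = 0 → (g * k * g⁻¹) v =
      v + t (κ • p.cv e' v) e' + t (z (s • p.cv e (g.symm v))) w := fun v hv => by
    rw [LinearEquiv.mul_apply, LinearEquiv.mul_apply, b3, map_add, a2, ← b1 v hv, add_assoc]
    simp
  have b9 : κ + τ κ = 0 := z0 fun x y => by
    have := (hH (mul_mem (mul_mem hg b2) (inv_mem hg))).1 (t (a x) e₁) (t (a y) e₁)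
    rw [b0 _ (by simp [a6']), b0 _ (by simp [a6'])] at this
    simp only [map_add, LinearMap.add_apply, p.B] at this
    simp [a5, a6, a6', a7, a7', c1, hw, h.B_eq_zero_symm a5, p.adj] at this
    rw [add_smul, map_add]
    linear_combination this
  obtain ⟨k', b4, b5⟩ := p.tv hM c1 (c := -κ) (by rw [map_neg]; linear_combination -b9)
  obtain ⟨ν, b6⟩ := RT.rat (p := p) hH hM hR hN
    (φ := z ∘ₗ sc F S s ∘ₗ p.cv e ∘ₗ g.symm.toLinearMap)
    ⟨k' * (g * k * g⁻¹), mul_mem b4 (mul_mem (mul_mem hg b2) (inv_mem hg)), fun x => by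
      simp [show g.symm (t x w) = _ from h2 x, h.B_eq_zero_symm he], fun v hv => by
      rw [LinearEquiv.mul_apply, b0 v hv, b5]
      simp [c1, h.B_eq_zero_symm a5, cov_smul]; abel⟩ w0 hw a6'
  refine ⟨e' + (ν / κ) • w, fun x => ?_⟩
  have c2 : s • p.cv e (g.symm (t (κ⁻¹ • a x) e₁)) = x := a.injective (by
    rw [a8, smul_inv_smul₀ b7])
  have c3 := b6 (κ⁻¹ • a x)
  simp only [LinearMap.comp_apply, LinearEquiv.coe_coe, LinearMap.restrictScalars_apply,
    LinearMap.lsmul_apply, c2] at c3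
  simp [a2, c3, div_eq_mul_inv, mul_smul]

theorem block {g : V ≃ₗ[F] V} (hg : g ∈ H) (u0 : u ≠ 0) (hu : h.B u u = 0)
    (h1 : ∀ x, ∃ y, g (t x u) = t y w) : g ∈ Tg F t := by
  have := p.fd
  have := p.nt
  have := p.hw.fd
  have : Finite W := Module.finite_of_finite E
  obtain ⟨a, h2⟩ := exists_blockEquiv p.ht u0 h1
  obtain ⟨u', a2, a3, a1⟩ := p.hw.exists_iso u0
  have a6 : u' ≠ 0 := by rintro rfl; simp at a1
  obtain ⟨y, a4, a5⟩ := p.hw.nd.exists_perp_eq_one a1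
  replace a4 := h.B_eq_zero_symm (a4 u (Submodule.mem_span_singleton_self u))
  obtain ⟨w', a7⟩ := step (p := p) hH hM hR hN hg u0 hu h2 a2
  refine mem_Tg_of p.ht a fun e => ?_
  obtain ⟨e₁, b1⟩ := step (p := p) hH hM hR hN hg u0 hu h2 (e := h.B u' e • y) (by simp [a4])
  obtain ⟨e₂, b2⟩ := step (p := p) hH hM hR hN hg a6 a3 a7 (e := e - h.B u' e • y)
    (by simp [p.hw.sy y u', a5])
  exact ⟨e₂ + e₁, fun x => by simp [← b1, ← b2]⟩

variable (hD : HD F t)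
include hD

theorem mem_of_conj {k y : V ≃ₗ[F] V} (hk : k ∈ H) (u0 : u ≠ 0) (hu : h.B u u = 0) (hc : c ≠ 0)
    (hy : y ∈ Tg F t) (h1 : ∀ v, k (y v) = k v + t (c • p.cv u (k v)) u) : k ∈ Tg F t := by
  have := p.hw.fd
  have := p.hs.fd
  have := p.two
  have := p.nt
  have b0 : finrank F (LinearMap.range (k.symm.toLinearMap ∘ₗ vec F t u ∘ₗ (sc F S c ∘ₗ p.cv u) ∘ₗ
      k.toLinearMap)) = finrank F S := by
    obtain ⟨y, hy⟩ := p.hw.nd.exists_ne u0
    have h5 : LinearMap.range ((sc F S c ∘ₗ p.cv u) ∘ₗ k.toLinearMap) = ⊤ :=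
      LinearMap.range_eq_top.2 fun x => ⟨k.symm (t (c⁻¹ • x) y), by simp [hy, hc, cov_smul]⟩
    rw [← LinearMap.comp_assoc, LinearMap.range_comp, h5, Submodule.map_top]
    exact LinearMap.finrank_range_of_inj ((injective_iff_map_eq_zero _).2 fun x hx =>
      t_eq_zero p.ht u0 (by simpa using hx))
  obtain ⟨w, a7, a8⟩ := hD _ (by omega) b0.le y hy fun v => k.injective (by simp [h1, -map_smul])
  have a9 : ∀ x, ∃ x', k (t x w) = t x' u := fun x => by
    obtain ⟨v, hv⟩ := a8 x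
    exact ⟨_, by rw [← hv]; exact k.apply_symm_apply _⟩
  refine block (p := p) hH hM hR hN hk a7 ?_ a9
  obtain ⟨x₀, hx⟩ := exists_ne (0 : S)
  refine (smul_eq_zero.1 (p.fn.eq_of_forall' (y := 0) fun x => ?_)).resolve_right hx
  obtain ⟨a', c1⟩ := a9 x
  obtain ⟨b', c2⟩ := a9 x₀
  simpa [c1, c2, p.B, hu] using ((hH hk).1 (t x w) (t x₀ w)).symm

theorem mem_Tg (h4 : ∀ v u, ∃ w ≠ 0, h.B w w = 0 ∧ h.B w u = 0 ∧ p.cv w v = 0)
    (X : Submodule F S) : ∀ g ∈ H, u ≠ 0 → h.B u u = 0 →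
    (∀ x ∈ X, g (t x u) = t x u) → g ∈ Tg F t := by
  have := p.fd
  induction X using WellFoundedGT.induction with
  | ind X ih =>
  intro g hg u0 hu h1
  by_cases a1 : X = ⊤
  · exact block (p := p) hH hM hR hN hg u0 hu fun x => ⟨x, h1 x (a1 ▸ Submodule.mem_top)⟩
  obtain ⟨x₁, a2⟩ : ∃ x₁, x₁ ∉ X := by
    by_contra! a2
    exact a1 (eq_top_iff.2 fun x _ => a2 x)
  obtain ⟨w, a3, hw, a6, a5⟩ := h4 (g (t x₁ u)) u
  obtain ⟨s, s0, hs⟩ := p.hw.exists_tz
  obtain ⟨k, b1, b2⟩ := p.tv hM hw hs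
  exact mem_of_conj (p := p) hH hM hR hN hD hg a3 hw s0 (y := g⁻¹ * k * g)
    (ih (X ⊔ F ∙ x₁) (SetLike.lt_iff_le_and_exists.2 ⟨le_sup_left, x₁,
      Submodule.mem_sup_right (Submodule.mem_span_singleton_self _), a2⟩) _
      (mul_mem (mul_mem (inv_mem hg) b1) hg) u0 hu fun x hx => by
        obtain ⟨x, hx', _, hz, rfl⟩ := Submodule.mem_sup.1 hx
        obtain ⟨e, rfl⟩ := Submodule.mem_span_singleton.1 hz
        exact g.symm_apply_eq.2 (by simp [b2, h1 x hx', a5, a6, t_smul])) fun v => by simp [b2]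

omit hM hH hN hR in
theorem isMaximalIn_of' (h1 : ∀ H, H ≤ Φ.O → Tg F t ⊓ Φ.E ≤ H →
    ¬ Φ.E ≤ H → H ≤ Φ.E → H ≤ Tg F t) : IsMaximalIn Φ.E (Tg F t ⊓ Φ.E) := by
  have := p.hw.fd
  have := p.hs.fd
  have := p.fd
  refine isMaximalIn_of inf_le_right ?_ fun H h2 h3 g hg hg' => by_contra fun h4 =>
    hg' ⟨h1 H (h3.trans E_le_O) h2 h4 h3 hg, h3 hg⟩
  obtain ⟨v, v0, hv⟩ := p.hs.exists_isot
  obtain ⟨s, s0, hs⟩ := p.hs.exists_tz
  obtain ⟨T, a1, a3⟩ := p.hs.exists_tr hv hs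
  refine ⟨T, a1, fun hT => ?_⟩
  have a4 : finrank F (LinearMap.range ((s • Φ.B v).smulRight v)) = 1 := by
    obtain ⟨y, hy⟩ := p.hs.nd.exists_ne v0
    rw [LinearMap.range_smulRight_apply (fun e => by simpa [hy, s0] using DFunLike.congr_fun e y),
      finrank_span_singleton v0]
  obtain ⟨u, u0, a5⟩ := hD _ (a4 ▸ one_pos) (by have := p.two; omega) T hT.1 a3
  have := LinearMap.finrank_le_finrank_of_injective (f := (vec F t u).codRestrict _ a5)
    ((injective_iff_map_eq_zero _).2 fun x hx => t_eq_zero p.ht u0 (congrArg Subtype.val hx))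
  have := p.two
  omega

end Ug

omit [Module E S] [IsScalarTower F E S] [Module E W] in
theorem isMaximalIn_lift {Φ : Form σ V} {Ψ : Form τ V} (h : Lift Φ Ψ) (hs : HS Φ q)
    (hr : (finrank F E).Prime) (h4 : 4 ≤ finrank E V) :
    IsMaximalIn Φ.E (Tg F (ls E V) ⊓ Φ.E) := by
  have iv : IV σ τ := ⟨hs.ne, hs.inv, h.invol, h.alg⟩
  have := hs.fd
  have : FiniteDimensional F E := Module.Finite.of_finite
  obtain ⟨Q, hQ, hτ⟩ := exists_card_eq_sq_of_invol iv.ne' h.invol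
  have hE : HF τ Q := by convert hf_conj hQ; exact RingHom.ext hτ
  let f : Form σ E := ofHerm hs.ne hs.inv (LinearMap.mk₂'ₛₗ σ (RingHom.id F)
    (fun x y => Algebra.trace F E (τ x * y)) (by simp [add_mul]) (fun c x y => by
      rw [Algebra.smul_def, map_mul τ, h.alg, mul_assoc, ← Algebra.smul_def, map_smul])
    (by simp [mul_add]) (by simp)) ⟨fun x y => by simp [← iv.tr, h.invol, mul_comm]⟩
  have hf : ∀ x y, f.B x y = Algebra.trace F E (τ x * y) := fun _ _ => rfl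
  have p : Ug Φ f Ψ (ls E V) q Q := ⟨isTP_ls E V, hs, ⟨hE, by simp [h.eps, hs.ε], h.nondeg, h4⟩,
    fun x hx => by simpa using tr_ext (F := F) (x := τ x) (y := 0) fun k => by simp [← hf, hx],
    rfl, hr.two_le, h.alg, fun c x y => by simp [hf, mul_assoc, mul_left_comm],
    fun x w y w' => by simp [hf, h.B_eq, mul_comm, mul_left_comm]⟩
  have hR : HU E f := fun Λ h1 _ h2 => hr_field (pd_of_prime hr) Λ h1 (fun n hn z hz => by
    have : n = 0 := LinearMap.ext_ring (by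
      have := n.map_smul (n 1) 1
      rw [smul_eq_mul, mul_one, hn] at this
      simpa only [smul_eq_mul, mul_self_eq_zero, LinearMap.zero_apply] using this.symm)
    simpa [this] using hz) h2
  have hD : HD F (ls E V) := fun N h0 h1 g hg h2 => by
    obtain ⟨v, hv⟩ : ∃ v, N v ≠ 0 := by
      by_contra! e
      rw [show N = 0 from LinearMap.ext e, LinearMap.range_zero, finrank_bot] at h0
      omega
    refine ⟨N v, hv, fun x => ⟨x • v, lin_of_dim ?_ (fun y => ?_) x v⟩⟩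
    · rw [← finrank_mul_finrank F E V]
      nlinarith [hr.pos]
    · simpa [h2] using semi_of_Tg hg y
  obtain ⟨u, u0, hu⟩ := p.hw.exists_isot
  refine p.isMaximalIn_of' hD fun H hH hM hN _ g hg => Ug.mem_Tg (p := p) hH hM hR hN hD
    (fun v u => ?_) ⊥ g hg u0 hu (by simp)
  have := p.hw.fd
  have e1 := p.hw.nd.finrank_perp_add (Submodule.span E {x | x ∈ [v, u]})
  have e2 := finrank_span_list_le (F := E) [v, u]
  obtain ⟨w, a4, a3, hw, -⟩ := exists_sing_of_herm (Φ := Ψ) p.hw.ne p.hw.ε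
    (T := Ψ.perp (Submodule.span E {x | x ∈ [v, u]})) (by simp only [List.length] at e2; omega)
  replace a4 : ∀ y ∈ [v, u], Ψ.B w y = 0 := fun y hy =>
    Ψ.B_eq_zero_symm (a4 y (Submodule.subset_span hy))
  exact ⟨w, a3, hw, a4 u (by simp), (cov_ls _ _).trans (a4 v (by simp))⟩

theorem isMaximalIn_uy (hF : Fintype.card F = q ^ 2) {n r : ℕ} (hr : r.Prime) (hn : 4 * r ≤ n)
    {K : Subalgebra F (Matrix (Fin n) (Fin n) F)} (hK : IsFieldSubalgebra r K)
    (hac : IsAdjointClosedFor (hermForm n F q) K) : IsMaximalIn (GU n F q ⊓ specialLinear (Fin n) F)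
      (subalgebraNormalizer K ⊓ (GU n F q ⊓ specialLinear (Fin n) F)) := by
  have := hr.two_le
  have : Nonempty (Fin n) := ⟨⟨0, by omega⟩⟩
  letI := (As.IsFieldSubalgebra.isField hK).toField
  have : Finite K := Subtype.finite
  have := Fintype.ofFinite K
  have hs := hs_hu hF (n := n) (by omega)
  obtain ⟨τ, h⟩ := exists_adjE hs.nd hK fun k hk => (hac k hk).imp fun k' e => ⟨e.1, fun u v => by
    rw [hs.sy, hs.sy (Matrix.mulVec k' v)]; exact congrArg _ (e.2 u v)⟩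
  have h1 := finrank_mul_finrank F K (Fin n → F)
  rw [hK.finrank_eq, finrank_fintype_fun_eq_card, Fintype.card_fin] at h1
  obtain ⟨t, ht⟩ := exists_add_conj_eq_one hs.ne hs.inv
  obtain ⟨Ψ, h2, -⟩ := h.exists_lift (.inl ⟨algebraMap F K t, by
    rw [h.alg, ← map_add, ht, map_one]⟩)
  have h3 := fun g => mem_SU_iff_E (g := g) hF (n := n) (by omega)
  exact isMaximalIn_of_iff (glE _ F) (isMaximalIn_lift h2 hs (hK.finrank_eq ▸ hr)
    (by by_contra! h; nlinarith)) h3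
    fun g => and_congr (mem_normalizer_iff_semi.trans ⟨mem_Tg_of_semi, semi_of_Tg⟩) (h3 g)

end H23.Uf
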