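import Cfsg.Agent.H11.Y9
import Cfsg.Agent.H23.Zd1

/-! The theorem on involutions fixing exactly one point. -/

set_option autoImplicit false

namespace H23.Zd

universe u

theorem zd : ZD.{u} := fun _ Ω _ _ _ _ D h1 h2 h3 h4 h5 h6 h7 h8 x hx h9 =>
  H11.YZ.Y1.zd (Ω := Ω) ⟨⟨h1, h2, h3, h4⟩, h5, h6, h7, h8⟩ (by simpa [H11.ZD.LX] using hx) h9

end H23.Zd
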