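import Cfsg.Agent.H23.Qu2
import Cfsg.Agent.H23.Zd0

/-! Tensor products of hermitian spaces: maximality. -/

set_option autoImplicit false

namespace H23.Uf

open Module H22 Cfsg Cfsg.Geo Form Tn Qp

variable {F S W V : Type*} [Field F] [Fintype F] [AddCommGroup S] [Module F S] [AddCommGroup W]
  [Module F W] [AddCommGroup V] [Module F V] {σ : F →+* F} {q : ℕ}

theorem hu_tensor (hf : HF σ q) {f : Form σ S} (hn : f.Nondeg) (he : f.ε = 1)
    (h3 : 3 ≤ finrank F S) : HU F f := by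
  rintro Λ h1 h2 ⟨z, hz, h0⟩
  have : FiniteDimensional F S := finite_of_finrank_pos (by omega)
  have hk := κ_of_ne_id (Φ := f) hf.ne
  have sy : ∀ x y, f.B y x = σ (f.B x y) := fun x y => by rw [f.symm, he, one_mul]
  let L : Submodule F (End F S) :=
    { carrier := Λ
      add_mem' := Λ.add_mem
      zero_mem' := Λ.zero_mem
      smul_mem' := fun c z hz => Λ.mul_mem (h1 c) hz }
  have a0 : ∀ {z z' : End F S} {c : F}, c ≠ 0 → z ∈ Λ → (∀ v, z v = c • z' v) → z' ∈ Λ :=
    fun {z z' c} hc hz h => by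
      convert L.smul_mem c⁻¹ hz using 1
      exact iff_of_eq (congrArg (· ∈ Λ) (LinearMap.ext fun v => by simp [h, hc]))
  have ker : ∀ φ ψ : Dual F S, ∃ v ≠ 0, φ v = 0 ∧ ψ v = 0 := fun φ ψ => by
    obtain ⟨v, v0, hv⟩ := exists_ker_ne (φ.prod ψ) (by simp; omega)
    exact ⟨v, v0, congrArg Prod.fst hv, congrArg Prod.snd hv⟩
  have a1 : ∀ a ≠ 0, f.B a a = 0 → (f.B a).smulRight a ∈ Λ := fun a a0' aa => by
    obtain ⟨b, ab⟩ := hn.exists_ne a0'
    let K : Subgroup (S ≃ₗ[F] S) :=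
      { carrier := {g | g ∈ f.E ∧ g a = a ∧ ∀ v, f.B a v = 0 → g v - v ∈ F ∙ a}
        mul_mem' := fun {g k} ⟨a1, a2, a3⟩ ⟨b1, b2, b3⟩ => ⟨mul_mem a1 b1, by simp [a2, b2],
          fun v hv => by
            simpa using add_mem (a3 (k v) (by rw [← b2, (E_le_O b1).1, hv])) (b3 v hv)⟩
        one_mem' := ⟨one_mem _, rfl, by simp⟩
        inv_mem' := fun {g} ⟨a1, a2, a3⟩ => ⟨inv_mem a1, g.symm_apply_eq.2 a2.symm, fun v hv => by
          simpa using neg_mem (a3 (g⁻¹ v) (by rw [← (E_le_O a1).1, a2]; simpa))⟩ }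
    obtain ⟨z, hz, h0, h4⟩ := exists_fixed (K := K) (Λ := L) (fun g ⟨a1, a2, a3⟩ => ⟨3, by
      ext v
      obtain ⟨c, hc⟩ := Submodule.mem_span_singleton.1 (a3 (g v - v) (by
        rw [map_sub, ← (E_le_O a1).1 a v, a2, sub_self]))
      have := congrArg g hc
      rw [map_smul, a2, hc] at this
      simp only [map_sub] at this
      simp [pow_succ]
      linear_combination (norm := module) -this⟩)
      (fun g hg => h2 g (E_le_O hg.1) (mem_SLv.1 (E_le_SLv hn hg.1))) hz fun h => by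
        obtain ⟨c, hc⟩ := Submodule.mem_span_singleton.1 h
        obtain ⟨x, hx⟩ := h0 c
        exact hx (DFunLike.congr_fun hc x).symm
    have k0 : ∀ e s, EichData f a e s → ∃ c : F, ∀ v,
        (f.B e (z v) - σ s * f.B a (z v)) • a - f.B a (z v) • e =
          (f.B e v - σ s * f.B a v) • z a - f.B a v • z e +
            c • (v + (f.B e v - σ s * f.B a v) • a - f.B a v • e) := fun e s hs => by
      obtain ⟨g, a2⟩ := exists_eich hn hs
      obtain ⟨c, hc⟩ := h4 g ⟨Form.mem_E hs a2, by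
        simp [a2, eichler_apply, aa, f.B_eq_zero_symm hs.perp], fun v hv => by
        simp [a2, eichler_apply, hv, Submodule.smul_mem, Submodule.mem_span_singleton_self]⟩
      refine ⟨c, fun v => ?_⟩
      have := hc v
      simp only [a2, eichler_apply, he, map_one, one_mul, map_add, map_smul] at this
      linear_combination (norm := module) this
    obtain ⟨s, s0, hs⟩ := exists_trace_zero hf.ne hf.inv
    have k1 : ∀ v, f.B a (z v) • a = f.B a v • z a := fun v => by
      obtain ⟨c, hc⟩ := k0 0 s ⟨⟨aa, Q_of_κ hk a⟩, by simp, by simp [he, hs], by simp [hk]⟩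
      obtain ⟨x, x0, b1, b2⟩ := ker (f.B a) (f.B a ∘ₗ z)
      obtain rfl : c = 0 := by simpa [b1, show f.B a (z x) = 0 from b2, x0] using (hc x).symm
      exact smul_right_injective S (show σ s ≠ 0 by simpa) (by
        have := hc v
        simp only [map_zero, LinearMap.zero_apply] at this ⊢
        linear_combination (norm := module) -this)
    set l := f.B a (z b)
    have k2 : z a = l • a := by simpa [ab] using (k1 b).symm
    have k3 : ∀ v, f.B a (z v) = l * f.B a v := fun v => smul_left_injective F a0' (by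
      simp only [k1, k2, smul_smul, mul_comm])
    have k4 : ∀ e, f.B a e = 0 → z e - l • e = -(f.B e (z b - l • b)) • a := fun e he' => by
      obtain ⟨s, hs⟩ := exists_eichData (Φ := f) ⟨aa, Q_of_κ hk a⟩ he'
      obtain ⟨c, hc⟩ := k0 e s hs
      obtain ⟨x, x0, b1, b2⟩ := ker (f.B a) (f.B e ∘ₗ (z - l • 1))
      have b3 : c • (x + f.B e x • a) = 0 := by
        have := hc x
        simp [sub_eq_zero] at b2
        simp only [k2, k3, b1, b2] at this
        linear_combination (norm := module) -this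
      obtain rfl : c = 0 := (smul_eq_zero.1 b3).resolve_right fun e' => x0 (by
        have := congrArg (f.B e) e'
        simp [f.B_eq_zero_symm he'] at this
        simpa [this] using e')
      have := hc b
      simp only [k2, k3, ab, map_sub, map_smul, smul_eq_mul] at this ⊢
      linear_combination (norm := module) this
    have k5 : ∀ e, f.B a e = 0 → f.B e (z b - l • b) = 0 := fun e he' => by
      obtain ⟨θ, hθ⟩ := DFunLike.ne_iff.1 hf.ne
      have := k4 (θ • e) (by simp [he'])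
      rw [map_smul, smul_comm l, ← smul_sub, k4 e he', smul_smul, B_smul_left] at this
      exact mul_left_cancel₀ (sub_ne_zero.2 hθ) (by
        rw [RingHom.id_apply]; linear_combination smul_left_injective F a0' this)
    obtain ⟨μ, k6⟩ := Submodule.mem_span_singleton.1 (hn.perp_perp (F ∙ a) ▸
      fun e he' => k5 e (f.mem_perp_span_singleton.1 he') : z b - l • b ∈ F ∙ a)
    have k7 : ∀ v, (z - l • 1) v = μ • (f.B a).smulRight a v := fun v => by
      have := k4 (v - f.B a v • b) (by simp [ab])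
      rw [k5 _ (by simp [ab])] at this
      simp at this ⊢
      linear_combination (norm := module) this - f.B a v • k6
    refine a0 (fun e => h0 (Submodule.mem_span_singleton.2 ⟨l, (sub_eq_zero.1 ?_).symm⟩))
      (L.sub_mem hz (L.smul_mem l Λ.one_mem)) k7
    ext v
    simp [-LinearMap.sub_apply, k7, e]
  have a2 : ∀ x y, Sing f x → Sing f y → (f.B x).smulRight y ∈ Λ := fun x y hx hy => by
    by_cases e : x = 0 ∨ y = 0
    · rcases e with rfl | rfl <;> simp [Λ.zero_mem]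
    push Not at e
    by_cases e' : f.B y x = 0
    · obtain ⟨w, b1, b2, b3⟩ := exists_sing_not_perp hn hy e.2 e.1 e'
      exact a0 (mul_ne_zero b2 (mt f.B_eq_zero_symm b3)) (mul_mem (mul_mem (a1 y e.2 hy.1)
        (a1 w (by rintro rfl; simp at b2) b1.1)) (a1 x e.1 hx.1)) fun v => by simp; module
    exact a0 e' (mul_mem (a1 y e.2 hy.1) (a1 x e.1 hx.1)) fun v => by simp; module
  obtain ⟨a, -, b1, b2⟩ := exists_sing_of_herm (Φ := f) hf.ne he (T := ⊤) (by simp; omega)
  obtain ⟨b, b3⟩ := exists_hyp hn b2 b1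
  have a3 : ∀ x y, (f.B x).smulRight y ∈ Λ := b3.sing_induction
    (fun x hx => b3.sing_induction (fun y => a2 x y hx) fun y y' c1 c2 => by
      convert add_mem c1 c2 using 1
      ext; simp) fun x x' c1 c2 y => by
      convert add_mem (c1 y) (c2 y) using 1
      ext; simp [add_smul]
  intro z
  have : z = ∑ i, ((finBasis F S).coord i).smulRight (z (finBasis F S i)) := by
    refine (finBasis F S).ext fun j => ?_
    simp [Finsupp.single_apply]
  refine this ▸ sum_mem fun i _ => ?_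
  obtain ⟨y, hy⟩ := hn.exists_repr ((finBasis F S).coord i)
  exact LinearMap.ext hy ▸ a3 y _

namespace Ug

variable {Φ : Form σ V} {f : Form σ S} {h : Form σ W} {t : S →ₗ[F] W →ₗ[F] V}
  (p : Ug Φ f h t q q) {H : Subgroup (V ≃ₗ[F] V)} {u w e : W} {c : F}
include p

/-- The contraction with `f x`. -/
noncomputable abbrev cs (x : S) : V →ₗ[F] W := cov F (isTP_flip p.ht) (f.B x)

@[simp] theorem cs_t (x y : S) (u : W) : p.cs x (t y u) = f.B x y • u :=
  cov_t (isTP_flip p.ht) _ u y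

theorem B_t' (x : S) (u : W) (v : V) : Φ.B (t x u) v = h.B u (p.cs x v) :=
  ext_t p.ht (f := Φ.B (t x u)) (f' := h.B u ∘ₗ p.cs x) (by simp [p.B, mul_comm]) v

theorem inv_neg (h2' : (2 : F) ≠ 0) (hu : u ≠ 0) {z : V ≃ₗ[F] V}
    (hz : z ∈ Tg F t) (h1 : ∀ v, z (z v) = v) (h2 : z ≠ 1)
    (h3 : ∀ v, z (t (p.cv u v) u) = t (p.cv u (z v)) u)
    (h4 : ∀ v, z v = -v → p.cv u v = 0 → ∃ x, t x u = v) :
    ∃ b : W →ₗ[F] W, (∀ x w, z (t x w) = -t x (b w)) ∧ b u = u := by
  have := p.nt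
  obtain ⟨x₀, hx⟩ := exists_ne (0 : S)
  obtain ⟨w₀, hw⟩ := p.hw.nd.exists_ne hu
  obtain ⟨a, b, a1, a2⟩ : ∃ (a : S →ₗ[F] S) (b : W →ₗ[F] W), (∀ x w, z (t x w) = t (a x) (b w)) ∧
      b u = u := by
    obtain ⟨a, b, a1⟩ := exists_linear_of_Tg p.ht hz
    have a2 := h3 (t x₀ w₀)
    rw [cov_t, hw, one_smul, a1] at a2
    obtain ⟨c, hc⟩ := Submodule.mem_span_singleton.1 (mem_span_of_t p.ht (by simpa) a2)
    have a3 : c ≠ 0 := by rintro rfl; exact hu (by simpa using hc.symm)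
    exact ⟨c • a.toLinearMap, c⁻¹ • b.toLinearMap, fun x w => by simp [a1, smul_smul, a3],
      by simp [← hc, a3]⟩
  have a3 : ∀ x, a (a x) = x := fun x => sub_eq_zero.1 (t_eq_zero p.ht hu (by
    simpa [a1, a2, sub_eq_zero] using h1 (t x u)))
  have a4 : ∀ w, b (b w) = w := fun w => t_inj p.ht hx (by simpa [a1, a3] using h1 (t x₀ w))
  refine ⟨b, fun x w => ?_, a2⟩
  by_contra hc
  have a5 : x + a x ≠ 0 := fun e => hc (by simp [a1, eq_neg_of_add_eq_zero_right e])
  have a6 : a (x + a x) = x + a x := by simp [a3, add_comm]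
  generalize x + a x = y at a5 a6
  have a7 : ∀ w, b w = w := fun w => by
    have b1 : h.B u (b w) = h.B u w := by
      have := h3 (t y w)
      simp only [cov_t, a1, a2, map_smul, a6, LinearMap.smul_apply] at this
      exact (smul_left_injective F (fun e => a5 (t_eq_zero p.ht hu e)) this).symm
    obtain ⟨x', b2⟩ := h4 (t y (w - b w)) (by simp [a1, a6, a4]) (by simp [b1])
    obtain ⟨c, b3⟩ := Submodule.mem_span_singleton.1 (mem_span_of_t p.ht a5 b2.symm)
    have b4 := congrArg b b3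
    rw [map_smul, a2, b3, map_sub, a4] at b4
    exact smul_right_injective W h2' (by simp only; linear_combination (norm := module) -b4)
  obtain ⟨x', b1⟩ : ∃ x', x' - a x' ≠ 0 := by
    by_contra! e
    exact h2 (LinearEquiv.ext (ext_t p.ht (f := z.toLinearMap) (f' := LinearMap.id) fun x w => by
      simp [a1, a7, ← sub_eq_zero.1 (e x)]))
  obtain ⟨e, b3, -, b2⟩ := p.hw.exists_iso hu
  obtain ⟨x'', b4⟩ := h4 (t (x' - a x') e) (by simp [a1, a7, a3]) (by simp [b3])
  exact b2 (mem_span_of_t p.ht b1 b4.symm)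

variable (hH : H ≤ Φ.O) (hM : Tg F t ⊓ Φ.E ≤ H) (hR : HU F f) (hN : ¬ Φ.E ≤ H) (hD : HD F t)
  (hE : H ≤ Φ.E)
include hH hM hR hN hD hE

theorem fix {x : V ≃ₗ[F] V} (u0 : u ≠ 0) (hu : h.B u u = 0) (hc : c ≠ 0)
    (hx : ∀ v, x v = v + t (c • p.cv u v) u) : ∀ k ∈ H, k⁻¹ * x * k ∈ Tg F t ⊓ Φ.E →
      k ∈ Tg F t ⊓ Φ.E := fun _ hk h1 =>
  ⟨mem_of_conj (p := p) hH hM hR hN hD hk u0 hu hc h1.1 fun v => by simp [hx], hE hk⟩

theorem mem_Tg_odd (h2 : (2 : F) ≠ 0) {g : V ≃ₗ[F] V} (hg : g ∈ H) : g ∈ Tg F t := by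
  by_contra hc
  have := p.nt
  have := p.hs.fd
  obtain ⟨x₀, hx⟩ := exists_ne (0 : S)
  obtain ⟨u', hu', hi'⟩ := p.hw.exists_isot
  obtain ⟨x₁, a1⟩ : ∃ x, p.cs x (g (t x₀ u')) ≠ 0 := by
    by_contra! e
    refine hx (t_eq_zero p.ht hu' (g.injective (p.hs.nd.eq_of_forall' fun v => ?_)))
    exact p.ht.inductionOn v (by simp) (fun x w => by simp [p.B_t', e]) fun _ _ a b => by
      simp_all
  obtain ⟨u, a3, hi, a2⟩ := p.hw.exists_iso a1
  have hu : u ≠ 0 := by rintro rfl; simp at a2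
  obtain ⟨s, s0, hs⟩ := p.hw.exists_tz
  obtain ⟨x, b1, b2⟩ := p.tv' hi hs
  obtain ⟨x', b3, b4⟩ := p.tv' hi' hs
  have D := p.fix hH hM hR hN hD hE hu hi s0 b2
  have D' := p.fix hH hM hR hN hD hE hu' hi' s0 b4
  have b5 : g * x' * g⁻¹ ∈ H := mul_mem (mul_mem hg (hM b3)) (inv_mem hg)
  rcases quad_pair (x := x) (y := g * x' * g⁻¹) h2 (N := s • vec F t u ∘ₗ p.cv u)
    (N' := s • g.toLinearMap ∘ₗ vec F t u' ∘ₗ p.cv u' ∘ₗ g.symm.toLinearMap) (by simpa using b2)
    (by simp [b4]) (by simp [hi]) (by simp [hi']) with e | ⟨z, c1, c2, c3, c4, c5, c6⟩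
  · exact hc (by simpa using (Tg F t).inv_mem (D' g⁻¹ (inv_mem hg)
      (by simpa using mem_of_nilpotent b1 (hM b1) b5 D e)).1)
  have c7 : z ∈ H := (Subgroup.closure_le H).2 (by
    rintro _ (rfl | rfl)
    exacts [hM b1, b5]) c1
  simp only [LinearMap.comp_apply, vec_apply, LinearEquiv.coe_coe, LinearMap.smul_apply, map_smul,
    smul_right_inj s0] at c4 c5 c6
  obtain ⟨b, d1, d2⟩ := p.inv_neg h2 hu (D z c7 (by
    rwa [show z⁻¹ * x * z = x from LinearEquiv.ext fun v => z.symm_apply_eq.2 (by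
      simp [b2, c4])])).1 c2 c3 c4 fun v e1 e2 => ((c6 v e1).1 (by simp [e2])).elim fun w e =>
        ⟨s • _, by simpa using e⟩
  obtain ⟨b', d3, d4⟩ := p.inv_neg h2 hu' (z := g⁻¹ * z * g) (D' _
    (mul_mem (mul_mem (inv_mem hg) c7) hg) (by
      rwa [show (g⁻¹ * z * g)⁻¹ * x' * (g⁻¹ * z * g) = x' from LinearEquiv.ext fun v => by
        have := c5 (g v)
        simp at this
        simp [b4, ← this]])).1 (by simp [c2]) (fun e => c3 (by
          rw [show z = g * (g⁻¹ * z * g) * g⁻¹ by group, e]; simp))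
    (fun v => g.symm_apply_eq.2 (by simpa using c5 (g v))) fun v e1 e2 => by
      obtain ⟨w, e⟩ := (c6 (g v) (by simpa using congrArg g e1)).2 (by simp [e2])
      exact ⟨s • _, g.injective (by simpa using e)⟩
  have d5 : z (g (t x₀ u')) = -g (t x₀ u') := by simpa [d4] using congrArg g (d3 x₀ u')
  have d6 := ext_t p.ht (f := p.cs x₁ ∘ₗ z.toLinearMap) (f' := -b ∘ₗ p.cs x₁)
    (fun x w => by simp [d1]) (g (t x₀ u'))
  simp only [LinearMap.comp_apply, LinearEquiv.coe_coe, d5, map_neg, LinearMap.neg_apply,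
    neg_inj] at d6
  obtain ⟨w, d7⟩ := (c6 (t x₀ (p.cs x₁ (g (t x₀ u')))) (by rw [d1, ← d6])).1
    (by simp [h.B_eq_zero_symm a3])
  obtain ⟨c, d8⟩ := Submodule.mem_span_singleton.1 (mem_span_of_t p.ht hx
    (y := s • _) (d7.symm.trans (by simp; rfl)))
  rw [← d8] at a1 a2
  exact a2 (Submodule.mem_span_singleton.2 ⟨c⁻¹, by simp [left_ne_zero_of_smul a1]⟩)

end Ug

end H23.Uf
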