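import Cfsg.Agent.H23.Qu3

/-! Tensor products of hermitian spaces in characteristic two. -/

set_option autoImplicit false

namespace H23.Uf

open Module H22 Cfsg Cfsg.Geo Form Tn Qp

variable {F S W V : Type*} [Field F] [AddCommGroup S] [Module F S] [AddCommGroup W]
  [Module F W] [AddCommGroup V] [Module F V] {σ : F →+* F} {q : ℕ} {t : S →ₗ[F] W →ₗ[F] V}

/-- The action of the second factor. -/
noncomputable def ot (ht : IsTensorProduct t) : (W ≃ₗ[F] W) →* (V ≃ₗ[F] V) where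
  toFun b := ht.equiv.symm ≪≫ₗ TensorProduct.congr 1 b ≪≫ₗ ht.equiv
  map_one' := LinearEquiv.toLinearMap_injective (LinearMap.ext (ext_t ht (by simp)))
  map_mul' _ _ := LinearEquiv.toLinearMap_injective (LinearMap.ext (ext_t ht (by simp)))

@[simp] theorem ot_t (ht : IsTensorProduct t) (b : W ≃ₗ[F] W) (x : S) (w : W) :
    ot ht b (t x w) = t x (b w) := by simp [ot]

variable [Fintype F]

theorem HS.comm_eq {Φ : Form σ V} (h : HS Φ q) {a e e' : V} (ha : Φ.B a a = 0) (he : Φ.B a e = 0)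
    (he' : Φ.B a e' = 0) {r r' : V ≃ₗ[F] V} (hr : r ∈ Φ.O) (hr' : r' ∈ Φ.O)
    (h1 : ∀ x, Φ.B a x = 0 → r x = x + Φ.B e x • a) (h2 : ∀ x, Φ.B a x = 0 → r' x = x + Φ.B e' x • a)
    (v : V) : (r * r' * (r' * r)⁻¹) v = v + ((Φ.B e' e - Φ.B e e') * Φ.B a v) • a := by
  have := h.fd
  have key : ∀ {r e}, r ∈ Φ.O → Φ.B a e = 0 → (∀ x, Φ.B a x = 0 → r x = x + Φ.B e x • a) →
      r a = a ∧ ∀ v, ∃ l : F, l • a = r v - v + Φ.B a v • e := fun {r e} hr he h1 => by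
    have a1 : r a = a := by simp [h1 a ha, Φ.B_eq_zero_symm he]
    refine ⟨a1, fun v => Submodule.mem_span_singleton.1 ?_⟩
    rw [← h.nd.perp_perp (F ∙ a)]
    intro x hx
    have a2 := hr.1 x v
    have a3 := hr.1 a v
    rw [a1] at a3
    simp only [h1 x (Φ.mem_perp_span_singleton.1 hx), map_add, LinearMap.add_apply, B_smul_left, a3,
      ← h.sy] at a2
    simp only [map_add, map_sub, B_smul_right]
    linear_combination a2
  obtain ⟨a1, a2⟩ := key hr he h1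
  obtain ⟨a3, a4⟩ := key hr' he' h2
  obtain ⟨v, rfl⟩ := (r' * r).surjective v
  obtain ⟨l, b2⟩ := a2 v
  obtain ⟨l', b4⟩ := a4 v
  replace b2 : r v = v - Φ.B a v • e + l • a := by rw [b2]; abel
  replace b4 : r' v = v - Φ.B a v • e' + l' • a := by rw [b4]; abel
  have b5 : Φ.B a ((r' * r) v) = Φ.B a v := by
    rw [← (mul_mem hr' hr).1 a v]; simp [a1, a3]
  rw [b5, show (r * r' * (r' * r)⁻¹) ((r' * r) v) = r (r' v) by simp, LinearEquiv.mul_apply, b4, b2]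
  simp only [map_add, map_sub, map_smul, a1, a3, b2, b4, h1 e' he', h2 e he]
  module

namespace Ug

variable {Φ : Form σ V} {f : Form σ S} {h : Form σ W} (p : Ug Φ f h t q q)
  {H : Subgroup (V ≃ₗ[F] V)} {u w e : W} {c : F} {b : W ≃ₗ[F] W}
include p

theorem ot_mem (hb : b ∈ h.E) : ot p.ht b ∈ Tg F t ⊓ Φ.E := by
  obtain ⟨m, a1, a2, -⟩ := p.tw' hb
  rwa [show ot p.ht b = m from LinearEquiv.toLinearMap_injective (LinearMap.ext
    (ext_t p.ht (by simp [a2])))]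

theorem ot_tr (hb : ∀ w, b w = w + (c * h.B u w) • u) (v : V) :
    ot p.ht b v = v + t (c • p.cv u v) u :=
  ext_t p.ht (f := (ot p.ht b).toLinearMap) (f' := LinearMap.id + c • vec F t u ∘ₗ p.cv u)
    (by simp [hb, mul_smul]) v |>.trans (by simp)

theorem sim {m : V ≃ₗ[F] V} (hm : m ∈ Φ.O) {a : S → S} {b : W → W}
    (h1 : ∀ x w, m (t x w) = t (a x) (b w)) :
    ∃ l, σ l = l ∧ ∀ w w', l * h.B (b w) (b w') = h.B w w' := by
  have := p.nt
  obtain ⟨x, hx⟩ := exists_ne (0 : S)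
  obtain ⟨y, hy⟩ := p.fn.exists_ne hx
  have a1 : ∀ w w', f.B (a x) (a y) * h.B (b w) (b w') = h.B w w' := fun w w' => by
    simpa [h1, p.B, hy, mul_comm] using hm.1 (t x w) (t y w')
  obtain ⟨u, u0, -⟩ := p.hw.exists_isot
  obtain ⟨w, hw⟩ := p.hw.nd.exists_ne u0
  have a2 := a1 u w
  have a3 := congrArg σ (a1 w u)
  rw [map_mul, ← p.hw.sy, ← p.hw.sy] at a3
  exact ⟨_, mul_right_cancel₀ (right_ne_zero_of_mul_eq_one (a2.trans hw)) (a3.trans a2.symm), a1⟩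

theorem conj_tr {m : V ≃ₗ[F] V} (hm : m ∈ Tg F t ⊓ Φ.E) (u0 : u ≠ 0) (hu : h.B u u = 0) (c0 : c ≠ 0)
    (hc : c + σ c = 0) (hb : ∀ w, b w = w + (c * h.B u w) • u) : ∃ u' ≠ 0, ∃ c' ≠ 0, ∃ b' ∈ h.E,
      h.B u' u' = 0 ∧ (∀ w, b' w = w + (c' * h.B u' w) • u') ∧
        m * ot p.ht b * m⁻¹ = ot p.ht b' := by
  have := p.nt
  obtain ⟨a, k, a1⟩ := exists_linear_of_Tg p.ht hm.1
  obtain ⟨l, a2, a3⟩ := p.sim (E_le_O hm.2) a1
  obtain ⟨w, hw⟩ := p.hw.nd.exists_ne u0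
  have l0 : l ≠ 0 := left_ne_zero_of_mul_eq_one ((a3 u w).trans hw)
  have a4 : h.B (k u) (k u) = 0 := by simpa [l0, hu] using a3 u u
  obtain ⟨b', b1, b2⟩ := p.hw.exists_tr a4 (c := c * l) (by
    rw [map_mul, a2]; linear_combination l * hc)
  refine ⟨k u, by simpa, _, mul_ne_zero c0 l0, b', b1, a4, b2, mul_inv_eq_iff_eq_mul.2
    (LinearEquiv.toLinearMap_injective (LinearMap.ext (ext_t p.ht fun x w => ?_)))⟩
  simp [a1, hb, b2, mul_assoc, a3]

theorem exists_comm (h2 : (2 : F) = 0) {y : V ≃ₗ[F] V} (hy : y ∈ Tg F t ⊓ Φ.E)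
    (h1 : ∀ v, y (y v) = v) : ∃ w ≠ 0, h.B w w = 0 ∧ ∀ c b, (∀ v, b v = v + (c * h.B w v) • w) →
      y * ot p.ht b = ot p.ht b * y := by
  have := p.nt
  obtain ⟨u, u0, hu⟩ := p.hw.exists_isot
  obtain ⟨x₀, hx⟩ := exists_ne (0 : S)
  obtain ⟨a, k, a1, a2⟩ : ∃ (a : S →ₗ[F] S) (k : W →ₗ[F] W), (∀ x w, y (t x w) = t (a x) (k w)) ∧
      ∀ w, k (k w) = w := by
    obtain ⟨a, k, a1⟩ := exists_linear_of_Tg p.ht hy.1
    obtain ⟨c, hc⟩ := Submodule.mem_span_singleton.1 (mem_span_of_t (isTP_flip p.ht) u0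
      (w := x₀) (u := a (a x₀)) (y := k (k u)) (by simpa [a1] using (h1 (t x₀ u)).symm))
    obtain ⟨d, rfl⟩ := isSquare_of_two_eq_zero h2 c
    have d0 : d ≠ 0 := by rintro rfl; simp [hx.symm] at hc
    refine ⟨d • a.toLinearMap, d⁻¹ • k.toLinearMap, fun x w => by simp [a1, smul_smul, d0],
      fun w => t_inj p.ht hx ?_⟩
    conv_lhs => rw [← hc]
    simpa [a1, smul_smul, show d⁻¹ * d⁻¹ * (d * d) = 1 by field_simp] using h1 (t x₀ w)
  obtain ⟨l, -, a3⟩ := p.sim (E_le_O hy.2) a1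
  obtain rfl : l = 1 := by
    obtain ⟨w, hw⟩ := p.hw.nd.exists_ne u0
    have b1 := a3 (k u) (k w)
    have b2 := a3 u w
    rw [a2, a2, hw] at b1
    refine sub_eq_zero.1 (pow_eq_zero_iff two_ne_zero |>.1 ?_)
    linear_combination l * b1 + b2 + hw - (l - 1) * h2
  simp only [one_mul] at a3
  obtain ⟨w, b1, b2, b3⟩ : ∃ w ≠ 0, h.B w w = 0 ∧ k w = w := by
    by_cases e : ∀ w, k w = w
    · exact ⟨u, u0, hu, e u⟩
    obtain ⟨w, hw⟩ := not_forall.1 e
    have b3 : k (k w - w) = k w - w := by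
      rw [map_sub, a2]
      linear_combination (norm := module) h2 • (w - k w)
    refine ⟨k w - w, sub_ne_zero.2 hw, ?_, b3⟩
    rw [map_sub h.B, LinearMap.sub_apply, ← a3 w, b3, sub_self]
  refine ⟨w, b1, b2, fun c b hb => LinearEquiv.toLinearMap_injective
    (LinearMap.ext (ext_t p.ht fun x v => ?_))⟩
  simp [a1, hb, b3, show h.B w (k v) = h.B w v by rw [← a3 w v, b3]]

variable (hH : H ≤ Φ.O) (hM : Tg F t ⊓ Φ.E ≤ H) (hR : HU F f) (hN : ¬ Φ.E ≤ H) (hD : HD F t)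
  (hE : H ≤ Φ.E)
include hH hM hR hN hD hE

theorem block2 (u0 : u ≠ 0) (hu : h.B u u = 0) {k : V ≃ₗ[F] V} (hk : k ∈ H)
    (h1 : ∀ x y, Φ.B (t x u) (k (t y u)) = 0) : k ∈ Tg F t ⊓ Φ.E := by
  obtain ⟨s, s0, hs⟩ := p.hw.exists_tz
  obtain ⟨x, b1, b2⟩ := p.tv' hu hs
  have D := p.fix hH hM hR hN hD hE u0 hu s0 b2
  have a1 : ∀ y, p.cv u (k (t y u)) = 0 := fun y => p.fn.eq_of_forall' fun x => by
    simp [← p.B_t, h1]
  have a2 : ∀ y, p.cv u (k.symm (t y u)) = 0 := fun y => p.fn.eq_of_forall' fun x => by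
    rw [← p.B_t, ← (hH hk).1]; simp [Φ.B_eq_zero_symm (h1 y x)]
  simpa using inv_mem (D k⁻¹ (inv_mem hk) (by
    simpa using D (k * x * k⁻¹) (mul_mem (mul_mem hk (hM b1)) (inv_mem hk)) (by
      rwa [show (k * x * k⁻¹)⁻¹ * x * (k * x * k⁻¹) = x from LinearEquiv.ext fun v =>
        (k * x * k⁻¹).symm_apply_eq.2 (by simp [b2, a1, a2]; abel)])))

theorem fix2 (h2 : (2 : F) = 0) (h0 : b w ≠ w) (h1 : ∀ v v', h.B (b v - v) (b v' - v') = 0)
    (h3 : ∀ v, b (b v) = v) {k : V ≃ₗ[F] V} (hk : k ∈ H)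
    (h4 : k⁻¹ * ot p.ht b * k ∈ Tg F t ⊓ Φ.E) : k ∈ Tg F t ⊓ Φ.E := by
  obtain ⟨u, u0, hu, a1⟩ := p.exists_comm h2 h4 fun v => by
    have := DFunLike.congr_fun (map_mul (ot p.ht) b b) (k v)
    rw [show b * b = 1 from LinearEquiv.ext h3, map_one] at this
    simp at this
    simp [← this]
  obtain ⟨s, s0, hs⟩ := p.hw.exists_tz
  obtain ⟨x, b1, b2⟩ := p.hw.exists_tr hu hs
  have a2 : ∀ v, (k * ot p.ht x * k⁻¹) (ot p.ht b v) = ot p.ht b ((k * ot p.ht x * k⁻¹) v) :=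
    fun v => by simpa using (congrArg k (DFunLike.congr_fun (a1 s x b2) (k.symm v))).symm
  have a3 : ∀ x' v, Φ.B (t x' (b w - w)) (ot p.ht b v) = Φ.B (t x' (b w - w)) v := fun x' =>
    ext_t p.ht (f := Φ.B (t x' (b w - w)) ∘ₗ (ot p.ht b).toLinearMap) fun y v => by
      have := h1 w v
      rw [map_sub (h.B _), sub_eq_zero] at this
      simp only [LinearMap.comp_apply, LinearEquiv.coe_coe, ot_t, p.B, this]
  simpa using inv_mem (p.fix hH hM hR hN hD hE u0 hu s0 (p.ot_tr b2) k⁻¹ (inv_mem hk) (by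
    simpa using p.block2 hH hM hR hN hD hE (sub_ne_zero.2 h0) (h1 w w)
      (mul_mem (mul_mem hk (hM (p.ot_mem b1))) (inv_mem hk)) fun x' y => by
        rw [map_sub (t y), ← ot_t p.ht b y, map_sub (k * _ * _), a2, map_sub (Φ.B _), a3,
          sub_self]))

theorem core (h0 : ∀ g ∈ H, g⁻¹ * ot p.ht b * g ∈ Tg F t ⊓ Φ.E) (hb : b ∈ h.E) (u0 : u ≠ 0)
    (hu : h.B u u = 0) (h1 : b u = u) (h2 : h.B u w = 0) (h3 : b w - w ∉ F ∙ u) :
    H ≤ Tg F t ⊓ Φ.E := by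
  have := p.hw.fd
  let C : Subgroup (W ≃ₗ[F] W) :=
    { carrier := {x | ∀ g ∈ H, g⁻¹ * ot p.ht x * g ∈ Tg F t ⊓ Φ.E}
      mul_mem' := fun ha hb g hg => by simpa [mul_assoc] using mul_mem (ha g hg) (hb g hg)
      one_mem' := by simp
      inv_mem' := fun ha g hg => by simpa [mul_assoc] using inv_mem (ha g hg) }
  have a1 : ∀ x ∈ C, ∀ y ∈ h.E, x * y * (y * x)⁻¹ ∈ C := fun x hx y hy => by
    rw [show x * y * (y * x)⁻¹ = x * (y * x⁻¹ * y⁻¹) by group]
    refine mul_mem hx fun g hg => ?_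
    simpa [mul_assoc] using C.inv_mem hx ((ot p.ht y)⁻¹ * g)
      (mul_mem (inv_mem (hM (p.ot_mem hy))) hg)
  have a2 : ∀ y, h.B u y = 0 → ∃ T ∈ h.E, ∀ v, h.B u v = 0 → T v = v + h.B y v • u := fun y hy => by
    obtain ⟨s, hs⟩ := exists_eichData (p.hw.sing hu) hy
    obtain ⟨T, hT⟩ := exists_eich p.hw.nd hs
    exact ⟨T, Form.mem_E hs hT, fun v hv => by simp [hT, eichler_apply, hv]⟩
  obtain ⟨T, b1, b2⟩ := a2 w h2
  obtain ⟨y, b3, b4⟩ := p.hw.nd.exists_perp_eq_one h3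
  replace b3 := h.B_eq_zero_symm (b3 u (Submodule.mem_span_singleton_self u))
  obtain ⟨θ, hθ⟩ := DFunLike.ne_iff.1 p.hw.ne
  obtain ⟨T', b5, b6⟩ := a2 (θ • y) (by simp [b3])
  have b7 : ∀ v, h.B u (b v) = h.B u v := fun v => by rw [← (E_le_O hb).1 u v, h1]
  have b8 := mul_mem (mul_mem hb b1) (inv_mem (mul_mem b1 hb))
  refine fun g hg => p.fix hH hM hR hN hD hE u0 hu (c := σ θ - θ) (sub_ne_zero.2 hθ) (p.ot_tr
    fun v => ?_) g hg (a1 _ (a1 b h0 T b1) T' b5 g hg)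
  rw [p.hw.comm_eq hu (e := b w - w) (e' := θ • y) (by simp [b7]) (by simp [b3]) (E_le_O b8)
    (E_le_O b5) (fun v hv => ?_) b6, B_smul_left, B_smul_right, p.hw.sy y, b4]
  · simp
  obtain ⟨v, rfl⟩ := (T * b).surjective v
  have c1 : h.B u v = 0 := by
    rwa [← (E_le_O (mul_mem b1 hb)).1, show (T * b) u = u by
      simp [h1, b2 u hu, h.B_eq_zero_symm h2]]
  rw [show (b * T * (T * b)⁻¹) ((T * b) v) = b (T v) by simp]
  simp [b2 v c1, b2 (b v) (by rw [b7, c1]), h1, (E_le_O hb).1, h.B_eq_zero_symm h2,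
    h.B_eq_zero_symm (show h.B u (b w) = 0 by rw [b7, h2])]
  module

theorem le_even (h2 : (2 : F) = 0) : H ≤ Tg F t ⊓ Φ.E := by
  have := p.hw.fd
  have := p.hs.fd
  have := p.hw.dim
  have : Finite V := Module.finite_of_finite F
  have : Finite (V ≃ₗ[F] V) := Finite.of_injective _ DFunLike.coe_injective
  obtain ⟨u, u0, hu⟩ := p.hw.exists_isot
  obtain ⟨e, ue, ee, e1⟩ := p.hw.exists_iso u0
  have eu := h.B_eq_zero_symm ue
  have e0 : e ≠ 0 := by rintro rfl; simp at e1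
  obtain ⟨s, s0, hs⟩ := p.hw.exists_tz
  obtain ⟨x, b1, b2⟩ := p.hw.exists_tr hu hs
  have e2 : u ∉ F ∙ e := fun e' => by
    obtain ⟨d, rfl⟩ := Submodule.mem_span_singleton.1 e'
    exact e1 (Submodule.mem_span_singleton.2 ⟨d⁻¹, by simp [left_ne_zero_of_smul u0]⟩)
  obtain ⟨m₀, b3, -, -, b4, -⟩ := p.hw.trans4 hu ee u0 e0 ee hu ue eu e1 e2
  have b5 : ∀ v, (m₀ * x * m₀⁻¹) v = v + (s * h.B e v) • e := fun v => by
    obtain ⟨v, rfl⟩ := m₀.surjective v
    simp [b2, ← b4, (E_le_O b3).1]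
  have b6 := mul_mem (mul_mem b3 b1) (inv_mem b3)
  have b7 : ot p.ht m₀ * ot p.ht x * (ot p.ht m₀)⁻¹ = ot p.ht (m₀ * x * m₀⁻¹) := by simp
  generalize m₀ * x * m₀⁻¹ = x₀ at b5 b6 b7
  obtain ⟨y, c1, c2⟩ := p.hw.nd.exists_perp_eq_one e1
  obtain ⟨y', c3, c4⟩ := p.hw.nd.exists_perp_eq_one e2
  replace c1 := h.B_eq_zero_symm (c1 u (Submodule.mem_span_singleton_self u))
  replace c3 := h.B_eq_zero_symm (c3 e (Submodule.mem_span_singleton_self e))
  replace c2 : h.B e y = 1 := by rw [p.hw.sy, c2, map_one]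
  replace c4 : h.B u y' = 1 := by rw [p.hw.sy, c4, map_one]
  have xx : x * x = 1 := LinearEquiv.ext fun v => by
    simp [b2, hu]; linear_combination (norm := module) (h2 * s * h.B u v) • u
  refine Zd.le_of Zd.zd hM (p.ot_mem b1) (by rw [← map_mul, xx, map_one])
    (p.fix hH hM hR hN hD hE u0 hu s0 (p.ot_tr b2)) (fun m hm d1 d2 g hg d3 => ?_) (p.ot_mem b3)
    (fun d => ?_) ?_ fun m hm d1 => ?_
  · obtain ⟨u', u1, s', s1, x', d4, d5, d6, d7⟩ := p.conj_tr hm u0 hu s0 hs b2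
    rw [d7] at d1
    simp only [d7] at d2 d3
    simp only [← map_mul, ← map_pow] at d2 d3
    by_cases d8 : h.B u u' = 0
    · have d9 := h.B_eq_zero_symm d8
      obtain ⟨w, hw⟩ : ∃ w, (x * x') w ≠ w := by
        by_contra! hc
        exact d1 (congrArg _ (mul_left_cancel ((LinearEquiv.ext hc).trans xx.symm)))
      exact p.fix2 hH hM hR hN hD hE h2 hw (fun v v' => by
        simp [b2, d6, d8, d9, hu, d5, add_assoc]) (fun v => by
          simp [b2, d6, d8, d9, hu, d5]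
          linear_combination (norm := module) (h2 * s * h.B u v) • u + (h2 * s' * h.B u' v) • u')
        hg d3
    have f1 := p.hw.nd.finrank_perp_add (Submodule.span F {x | x ∈ [u, u']})
    have f2 := finrank_span_list_le (F := F) [u, u']
    obtain ⟨a, a4, a3, aa, -⟩ := exists_sing_of_herm (Φ := h) p.hw.ne p.hw.ε
      (T := h.perp (Submodule.span F {x | x ∈ [u, u']})) (by simp only [List.length] at f2; omega)
    have a5 := a4 u (Submodule.subset_span (by simp))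
    have a6 := a4 u' (Submodule.subset_span (by simp))
    refine p.core hH hM hR hN hD hE d2 (pow_mem (mul_mem b1 d4) 2) a3 aa (by
      simp [sq, b2, d6, a5, a6]) (h.B_eq_zero_symm a6) (fun e' => ?_) hg
    obtain ⟨c, hc⟩ := Submodule.mem_span_singleton.1 e'
    have := congrArg (h.B u) hc
    simp [sq, b2, d6, a5, hu, d5, d8, s0, s1, mt h.B_eq_zero_symm d8] at this
  · have := p.nt
    obtain ⟨z, hz⟩ := exists_ne (0 : S)
    have := DFunLike.congr_fun (b7.symm.trans d) (t z y)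
    rw [ot_t, ot_t] at this
    simpa [b2, b5, c1, c2, s0, e0] using t_inj p.ht hz this
  · rw [b7, ← map_mul, ← map_pow, show (x * x₀) ^ 2 = 1 from LinearEquiv.ext fun v => by
      simp [sq, b2, b5, hu, ee, ue, eu]
      linear_combination (norm := module) (h2 * s * h.B u v) • u + (h2 * s * h.B e v) • e, map_one]
  obtain ⟨u', u1, s', s1, x', d4, d5, d6, d7⟩ := p.conj_tr hm u0 hu s0 hs b2
  simp only [d7, b7] at d1
  simp only [← map_mul] at d1
  by_cases d8 : u' ∈ Submodule.span F {u, e}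
  · obtain ⟨α, β, d8⟩ := Submodule.mem_span_pair.1 d8
    have f1 : h.B u u' = 0 := by simp [← d8, hu, ue]
    have f2 : h.B e u' = 0 := by simp [← d8, eu, ee]
    have f3 := h.B_eq_zero_symm f1
    have f4 := h.B_eq_zero_symm f2
    obtain ⟨w, hw⟩ : ∃ w, (x * x₀ * x') w ≠ w := by
      by_contra! hc
      have g1 := hc y
      have g2 := hc y'
      simp [b2, b5, d6, f1, f2, ue, c1, c2, c3, c4, add_assoc] at g1 g2
      have g3 : s' * h.B u' y' ≠ 0 := fun e => by simp [e, s0, u0] at g2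
      exact e1 ((Submodule.smul_mem_iff _ (mul_ne_zero g3 s0)).1 (Submodule.mem_span_singleton.2
        ⟨s' * h.B u' y * s, by
          linear_combination (norm := module) (s' * h.B u' y) • g2 - (s' * h.B u' y') • g1⟩))
    exact fun g hg => p.fix2 hH hM hR hN hD hE h2 hw (fun v v' => by
      simp [b2, b5, d6, f1, f2, f3, f4, hu, ee, ue, eu, d5, add_assoc]) (fun v => by
        simp [b2, b5, d6, f1, f2, f3, f4, hu, ee, ue, eu, d5]
        linear_combination (norm := module) (h2 * s * h.B u v) • u + (h2 * s' * h.B u' v) • u' +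
          (h2 * s * h.B e v) • e) hg (d1 g hg)
  obtain ⟨a, a1, a2, a3⟩ : ∃ a ∈ Submodule.span F {u, e}, a ≠ 0 ∧ h.B u' a = 0 := by
    by_cases f1 : h.B u' u = 0
    · exact ⟨u, Submodule.subset_span (by simp), u0, f1⟩
    refine ⟨_, Submodule.mem_span_pair.2 ⟨-h.B u' e, h.B u' u, rfl⟩, fun e' => ?_, by simp; ring⟩
    simpa [f1, p.hw.sy u y, p.hw.sy e y, c1, c2] using congrArg (h.B y) e'
  have a4 : (F ∙ a) ≤ Submodule.span F {u, e} := (Submodule.span_singleton_le_iff_mem _ _).2 a1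
  obtain ⟨w, a5, a6⟩ := p.hw.nd.exists_perp_eq_one fun e' => d8 (a4 e')
  obtain ⟨α, β, rfl⟩ := Submodule.mem_span_pair.1 a1
  refine p.core hH hM hR hN hD hE d1 (mul_mem (mul_mem b1 b6) d4) a2 (by simp [hu, ee, ue, eu])
    (by simp [b2, b5, d6, a3, hu, ee, ue, eu, -map_add]; simp [hu, ee, ue, eu])
    (h.B_eq_zero_symm (a5 _ (Submodule.mem_span_singleton_self _))) fun e' => d8 ?_
  obtain ⟨γ, δ, e'⟩ := Submodule.mem_span_pair.1 (a4 e')
  simp only [LinearEquiv.mul_apply, b2, b5, d6, p.hw.sy w u', a6, map_one, mul_one] at e'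
  exact (Submodule.smul_mem_iff _ s1).1 (Submodule.mem_span_pair.2
    ⟨γ - s * h.B u (w + s' • u' + (s * h.B e (w + s' • u')) • e), δ - s * h.B e (w + s' • u'), by
      linear_combination (norm := module) e'⟩)

omit hH hM hR hN hD hE in
theorem isMaximalIn_tens (h3 : 3 ≤ finrank F S) (h4 : finrank F S < finrank F W) :
    IsMaximalIn Φ.E (Tg F t ⊓ Φ.E) := by
  have := p.hs.fd
  have hR := hu_tensor p.hs.toHF p.fn p.fe h3
  have hD : HD F t := fun N h0 h1 g => block_of_mem p.ht h0 (by omega)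
  refine p.isMaximalIn_of' hD fun H hH hM hN hE => ?_
  by_cases h2 : (2 : F) = 0
  · exact (p.le_even hH hM hR hN hD hE h2).trans inf_le_left
  exact fun g => p.mem_Tg_odd hH hM hR hN hD hE h2

end Ug

theorem isMaximalIn_su_tens (hF : Fintype.card F = q ^ 2) {n j k : ℕ} (h3 : 3 ≤ j) (hj : j < k)
    {e : Fin n ≃ Fin j × Fin k} {P : GL (Fin n) F} {f₁ f₂} (hf₁ : IsUnitaryFormPow q f₁)
    (hf₂ : IsUnitaryFormPow q f₂)
    (hT : IsTensorFormStructure (fun x : F => x ^ q) (hermForm n F q) f₁ f₂ e P) :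
    IsMaximalIn (GU n F q ⊓ specialLinear (Fin n) F)
      (tensorProductSubgroup j k e P ⊓ (GU n F q ⊓ specialLinear (Fin n) F)) := by
  have hn : 4 ≤ n := by have := Fintype.card_congr e; simp at this; nlinarith
  have hs := hs_hu hF hn
  obtain ⟨c, a1, a2⟩ := As.tensor_pure (σ := conj hF) hT
  obtain ⟨f, b1, b2, b3⟩ := exists_form_pow hF hf₁
  obtain ⟨h, c1, c2, c3⟩ := exists_form_pow hF hf₂
  rw [← As.eq_fog_of_herm hs.inv hf₁.add_left hf₁.smul_left hf₁.herm,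
    ← As.eq_fog_of_herm hs.inv hf₂.add_left hf₂.smul_left hf₂.herm] at a2
  have a3 : conj hF c = c := by
    have : Nonempty (Fin j) := ⟨⟨0, by omega⟩⟩
    obtain ⟨x, -, hx⟩ := exists_herm_self_eq_one hs.ne f b2 b1.disjoint_top (by simp)
    have : Nonempty (Fin k) := ⟨⟨0, by omega⟩⟩
    obtain ⟨y, -, hy⟩ := exists_herm_self_eq_one hs.ne h c2 c1.disjoint_top (by simp)
    have e1 := a2 x y x y
    rw [b3, c3, hx, hy, mul_one, mul_one] at e1
    rw [← e1]; exact (hs.sy _ _).symm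
  have h3 := fun g => mem_SU_iff_E (g := g) hF hn
  exact isMaximalIn_of_iff (glE _ F) (Ug.isMaximalIn_tens (p := ⟨isTensorProduct_tP e P, hs,
    ⟨hs.toHF, c2, c1, by simp; omega⟩, Sf.scale_nondeg a1 b1, by simp [Sf.scale, b2, a3, a1],
    by simp; omega, fun _ => rfl, fun c x y => by simp, fun x w y w' => (a2 y w' x w).trans (by
      rw [b3, c3, B_smul_right, mul_comm]; rfl)⟩) (by simpa) (by simpa)) h3
    fun g => and_congr (mem_tensorProductSubgroup_iff_Tg (by omega)) (h3 g)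

end H23.Uf
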