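import Cfsg.Agent.H23.Sv9

/-! Maximality of the tensor product of a unitary plane with a unitary three-space. -/

set_option autoImplicit false

namespace H23.Uf

open Module H22 Cfsg Cfsg.Geo Form Tn

variable {F S W V : Type*} [Field F] [Fintype F] [AddCommGroup S] [Module F S] [AddCommGroup W]
  [Module F W] [AddCommGroup V] [Module F V] {σ : F →+* F} {q : ℕ}

namespace Uc

variable {Φ : Form σ V} {f : Form σ S} {h : Form σ W} {t : S →ₗ[F] W →ₗ[F] V}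
  (p : Uc Φ f h t q) {H : Subgroup (V ≃ₗ[F] V)} {a a' e e' b w : W} {u u' : S} {c s : F}
  {g k : V ≃ₗ[F] V}
include p

theorem cv_map (hg : g ∈ Φ.O) {α : S ≃ₗ[F] S} (h1 : ∀ x, g (t x w) = t (α x) a) (v : V) (x : S) :
    f.B (α x) (p.cv a (g v)) = f.B x (p.cv w v) := by
  rw [← p.B_t, ← h1, hg.1, p.B_t]

theorem cv_zero (hg : g ∈ Φ.O) {α : S ≃ₗ[F] S} (h1 : ∀ x, g (t x w) = t (α x) a) {v : V}
    (hv : p.cv w v = 0) : p.cv a (g v) = 0 := p.fn.eq_of_forall' fun x => by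
  obtain ⟨x, rfl⟩ := α.surjective x
  simp [p.cv_map hg h1, hv]

theorem blk (w0 : w ≠ 0) (s0 : s ≠ 0) (c0 : c ≠ 0) (hk : k ∈ Tg F t)
    (h1 : ∀ v, k v = c • v + s • g.symm (t (p.cv w (g v)) w)) :
    ∃ y ≠ 0, ∀ x, ∃ x', g (t x y) = t x' w := by
  have := p.hs.fd
  have := p.fd
  have s1 : c⁻¹ * s ≠ 0 := by simp [c0, s0]
  have b0 : finrank F (LinearMap.range (g.symm.toLinearMap ∘ₗ vec F t w ∘ₗ ((c⁻¹ * s) • p.cv w) ∘ₗ
      g.toLinearMap)) = finrank F S := by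
    obtain ⟨y, hy⟩ := p.hw.nd.exists_ne w0
    have h5 : LinearMap.range (((c⁻¹ * s) • p.cv w) ∘ₗ g.toLinearMap) = ⊤ :=
      LinearMap.range_eq_top.2 fun x => ⟨g.symm (t ((c⁻¹ * s)⁻¹ • x) y), by
        simp [hy, s1, -mul_inv_rev]⟩
    rw [← LinearMap.comp_assoc, LinearMap.range_comp, h5, Submodule.map_top]
    exact LinearMap.finrank_range_of_inj ((injective_iff_map_eq_zero _).2 fun x hx =>
      t_eq_zero p.ht w0 (by simpa using hx))
  obtain ⟨y, a7, a8⟩ := block_of_mem p.ht (by rw [b0, p.two]; omega)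
    (by rw [b0, p.two, p.hw.thr]; omega)
    (g := LinearEquiv.smulOfNeZero F V c⁻¹ (inv_ne_zero c0) * k) (mul_mem
      ⟨LinearEquiv.smulOfNeZero F S c⁻¹ (inv_ne_zero c0), 1, by simp⟩ hk) fun v => by
        simp [h1, c0, mul_smul]
  refine ⟨y, a7, fun x => ?_⟩
  obtain ⟨v, hv⟩ := a8 x
  exact ⟨_, by rw [← hv]; exact g.apply_symm_apply _⟩

variable (hM : Tg F t ⊓ Φ.E ≤ H) (hH : H ≤ Φ.O) (hN : ¬ Φ.E ≤ H)
include hM hH hN

theorem z_rat (fr : Fm h a e b) (hk : k ∈ H) (h1 : ∀ x, k (t x a) = t x a)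
    (h2 : ∀ x, k (t x e) = t x e) : ∃ c : F, ∀ x, k (t x b) = t x b + c • t x a := by
  have a0 : a ≠ 0 := by rintro rfl; simpa using fr.ba
  have a1 : ∀ x, k (t x b) = t x b + t (p.cv b (k (t x b))) a := fun x => by
    conv_lhs => rw [p.dec fr (k (t x b))]
    rw [p.cv_zero (hH hk) (α := 1) h2 (by simp [fr.eb]), show p.cv a (k (t x b)) = x from
      p.fn.eq_of_forall' fun y => by simpa [fr.ab] using p.cv_map (hH hk) (α := 1) h1 (t x b) y]
    simp [add_comm]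
  obtain ⟨c, hc⟩ := p.za_rat hM hH hN fr.aa a0 (ζ := p.cv b ∘ₗ k.toLinearMap ∘ₗ vec F t b)
    ⟨k, hk, fun v => by
      conv_lhs => rw [p.dec fr v, map_add, map_add, h1, h2, a1, ← add_assoc, ← p.dec fr v]
      rfl⟩
  exact ⟨c, fun x => by rw [a1, show p.cv b (k (t x b)) = c • x from hc x]; simp⟩

theorem rt_rat (fr : Fm h a e b) (hk : k ∈ H) (h1 : ∀ x, k (t x a) = t x a) {z : S → S}
    (h2 : ∀ x, k (t x e) = t x e + t (z x) a) : ∃ c : F, ∀ x, z x = c • x := by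
  have a0 : a ≠ 0 := by rintro rfl; simpa using fr.ba
  have a1 : ∀ x, k (t x b) = t (p.cv b (k (t x b))) a + t (p.cv e (k (t x b))) e + t x b :=
    fun x => by
      conv_lhs => rw [p.dec fr (k (t x b))]
      rw [show p.cv a (k (t x b)) = x from p.fn.eq_of_forall' fun y => by
        simpa [fr.ab] using p.cv_map (hH hk) (α := 1) h1 (t x b) y]
  have a2 : ∀ l : F, ∃ c : F, ∀ x, l • p.cv e (k (t x b)) + c • x + σ l • z x = 0 := fun l => by
    obtain ⟨β, b1, b2, b3, b4, μ, b5⟩ := p.hw.eich fr l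
    obtain ⟨m, b6, b7, -⟩ := p.tw b1 b2
    set r := k * m * (m * k)⁻¹
    have c0 : ∀ v, r (m (k v)) = k (m v) := fun v => by simp [r]
    have c1 : ∀ x, r (t x a) = t x a := fun x => by simpa [h1, b7, b3] using c0 (t x a)
    obtain ⟨c, hc⟩ := p.z_rat hM hH hN fr (k := r)
      (mul_mem (mul_mem hk (hM b6)) (inv_mem (mul_mem (hM b6) hk))) c1 fun x => by
        have := c0 (t x e)
        simp only [h1, h2, b7, b3, b4, map_add, map_smul, c1] at this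
        linear_combination (norm := module) this
    have c2 : ∀ x, r (t x e) = t x e := fun x => by
      have := c0 (t x e)
      simp only [h1, h2, b7, b3, b4, map_add, map_smul, c1] at this
      linear_combination (norm := module) this
    refine ⟨c, fun x => t_eq_zero p.ht a0 ?_⟩
    have := c0 (t x b)
    rw [b7, b5, map_add, map_sub, map_smul, map_smul, map_add, map_sub, map_smul, map_smul,
      a1] at this
    simp only [h1, h2, b7, b3, b4, b5, map_add, map_sub, map_smul, c1, c2, hc,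
      LinearMap.add_apply, LinearMap.smul_apply] at this ⊢
    linear_combination (norm := module) this
  obtain ⟨θ, hθ⟩ := DFunLike.ne_iff.1 p.hs.ne
  obtain ⟨c₁, b1⟩ := a2 1
  obtain ⟨c₂, b2⟩ := a2 θ
  have b3 : σ θ - θ ≠ 0 := sub_ne_zero.2 hθ
  refine ⟨(σ θ - θ)⁻¹ * (θ * c₁ - c₂), fun x => ?_⟩
  rw [mul_smul, eq_inv_smul_iff₀ b3]
  have b4 := b1 x
  rw [map_one] at b4
  linear_combination (norm := module) b2 x - θ • b4

theorem stab2 (fr : Fm h a e b) (hg : g ∈ H) {α β : S ≃ₗ[F] S} (h1 : ∀ x, g (t x a) = t (α x) a)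
    (h2 : ∀ x, g (t x e) = t (β x) e) : g ∈ Tg F t := by
  have := p.nt
  have := p.hw.fd
  have : Finite W := Module.finite_of_finite F
  have a0 : a ≠ 0 := by rintro rfl; simpa using fr.ba
  have i1 : ∀ x, g.symm (t x a) = t (α.symm x) a := fun x => g.symm_apply_eq.2 (by simp [h1])
  have i2 : ∀ x, g.symm (t x e) = t (β.symm x) e := fun x => g.symm_apply_eq.2 (by simp [h2])
  obtain ⟨l, a1⟩ : ∃ l : F, ∀ x, α x = l • β x := by
    obtain ⟨γ, b1, b2, b3, b4, -⟩ := p.hw.eich fr 1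
    obtain ⟨m, b6, b7, -⟩ := p.tw b1 b2
    obtain ⟨l, hl⟩ := p.rt_rat hM hH hN fr (k := g * m * g⁻¹)
      (mul_mem (mul_mem hg (hM b6)) (inv_mem hg)) (by simp [i1, b7, b3, h1])
      (z := fun x => α (β.symm x)) (by simp [i2, b7, b4, h1, h2])
    exact ⟨l, fun x => by simpa using hl (β x)⟩
  have a2 : ∀ x, σ l • p.cv a (g (t x b)) = β x := fun x => p.fn.eq_of_forall' fun y => by
    obtain ⟨y, rfl⟩ := β.surjective y
    have b1 := p.cv_map (hH hg) h1 (t x b) y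
    have b2 := (hH hg).1 (t y e) (t x e)
    simp [a1, B_smul_left, fr.ab, h2, p.B, fr.ee] at b1 b2 ⊢
    rw [b1, b2]
  have a3 : σ l ≠ 0 := fun e => by
    obtain ⟨x, hx⟩ := exists_ne (0 : S)
    exact hx (by simpa [e] using (a2 x).symm)
  have a4 : ∀ x, g (t x b) = t (p.cv b (g (t x b))) a + (σ l)⁻¹ • t (β x) b := fun x => by
    conv_lhs => rw [p.dec fr (g (t x b))]
    rw [p.cv_zero (hH hg) h2 (by simp [fr.eb]), ← a2]
    simp [a3]
  obtain ⟨n, n1, n0, n2⟩ := p.hs.exists_fix p.three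
  obtain ⟨m, rfl⟩ := exists_norm_eq_of_invol p.hs.ne p.hs.inv n1
  have m0 : m ≠ 0 := right_ne_zero_of_mul n0
  have m1 : σ m ≠ 0 := left_ne_zero_of_mul n0
  obtain ⟨γ, b1, b2, b3, b4, b5⟩ := p.hw.torus fr m0
  obtain ⟨δ, b6, b7, -⟩ := p.tw b1 b2
  set r := δ⁻¹ * g * δ * g⁻¹
  have c0 : ∀ v, δ (r (g v)) = g (δ v) := fun v => by simp [r]
  have c1 : ∀ x, r (t x a) = t x a := fun x => δ.injective (by
    simpa [h1, b7, b3] using c0 (t (α.symm x) a))
  obtain ⟨c, hc⟩ := p.z_rat hM hH hN fr (k := r) (mul_mem (mul_mem (mul_mem (inv_mem (hM b6)) hg)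
    (hM b6)) (inv_mem hg)) c1 fun x => δ.injective (by
      simpa [h2, b7, b4] using c0 (t (β.symm x) e))
  have c2 : (σ m)⁻¹ - m ≠ 0 := fun e => n2 (by field_simp at e; linear_combination -e)
  have c3 : ∀ x, t (p.cv b (g (t x b))) a = (((σ m)⁻¹ - m)⁻¹ * ((σ l)⁻¹ * c * m)) • t (β x) a :=
    fun x => by
      have := c0 (t x b)
      rw [b7, b5, map_smul, map_smul, a4] at this
      simp only [map_add, map_smul, c1, hc, b7, b3, b5] at this
      rw [mul_smul, eq_inv_smul_iff₀ c2]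
      linear_combination (norm := module) -this
  refine mem_Tg_of p.ht β fun w => ⟨h.B b w • l • a + h.B e w • e + h.B a w •
    ((((σ m)⁻¹ - m)⁻¹ * ((σ l)⁻¹ * c * m)) • a + (σ l)⁻¹ • b), fun x => ?_⟩
  conv_lhs => rw [fr.span w]
  simp only [map_add, map_smul, h1, h2, a1, LinearMap.smul_apply]
  rw [a4, c3]

theorem stab (ha : h.B a a = 0) (a0 : a ≠ 0) (hg : g ∈ H) {α : S ≃ₗ[F] S}
    (h1 : ∀ x, g (t x a) = t (α x) a) : g ∈ Tg F t := by
  have := p.fd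
  obtain ⟨e, b, fr⟩ := p.hw.exists_fm ha a0
  have a1 : ∀ x, g (t x e) = t (p.cv b (g (t x e))) a + t (p.cv e (g (t x e))) e := fun x => by
    conv_lhs => rw [p.dec fr (g (t x e))]
    simp [p.cv_zero (hH hg) h1 (v := t x e) (by simp [fr.ae])]
  obtain ⟨β, a2⟩ : ∃ β : S ≃ₗ[F] S, ∀ x, p.cv e (g (t x e)) = β x :=
    ⟨LinearEquiv.ofInjectiveEndo (p.cv e ∘ₗ g.toLinearMap ∘ₗ vec F t e)
      ((injective_iff_map_eq_zero _).2 fun x hx => p.fn x fun y => by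
        have := (hH hg).1 (t x e) (t y e)
        rw [a1 x, a1 y, show p.cv e (g (t x e)) = 0 from hx] at this
        simpa [p.B, fr.aa, fr.ae, fr.ee] using this.symm), fun _ => rfl⟩
  simp only [a2] at a1
  obtain ⟨m, m1, m2⟩ := p.hs.exists_cube p.three
  have m0 : m ≠ 0 := right_ne_zero_of_mul_eq_one m1
  obtain ⟨γ, b1, b2, b3, b4, -⟩ := p.hw.torus fr m0
  obtain ⟨δ, b6, b7, -⟩ := p.tw b1 b2
  set r := δ⁻¹ * g * δ * g⁻¹
  have c0 : ∀ v, δ (r (g v)) = g (δ v) := fun v => by simp [r]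
  have c1 : ∀ x, r (t x a) = t x a := fun x => δ.injective (by
    simpa [h1, b7, b3] using c0 (t (α.symm x) a))
  obtain ⟨c, hc⟩ := p.rt_rat hM hH hN fr (k := r) (mul_mem (mul_mem (mul_mem (inv_mem (hM b6)) hg)
    (hM b6)) (inv_mem hg)) c1
    (z := fun x => (m⁻¹ * (σ m / m - m)) • p.cv b (g (t (β.symm x) e))) fun x => δ.injective (by
      obtain ⟨x, rfl⟩ := β.surjective x
      have := c0 (t x e)
      rw [b7, b4, map_smul, map_smul, a1] at this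
      simp only [map_add, map_smul, c1, b7, b3, b4, β.symm_apply_apply, LinearMap.smul_apply,
        smul_smul, mul_right_comm _ _ m, inv_mul_cancel₀ m0] at this ⊢
      linear_combination (norm := module) this)
  have c2 : m⁻¹ * (σ m / m - m) ≠ 0 := by simp [m0, m2]
  obtain ⟨ε, d1, d2, d3, d4, -⟩ := p.hw.eich fr (-((m⁻¹ * (σ m / m - m))⁻¹ * c))
  obtain ⟨n, d6, d7, -⟩ := p.tw d1 d2
  refine (Subgroup.mul_mem_cancel_left _ d6.1).1 (p.stab2 hM hH hN fr (mul_mem (hM d6) hg)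
    (α := α) (β := β) (fun x => by simp [h1, d7, d3]) fun x => ?_)
  have d8 : p.cv b (g (t x e)) = (m⁻¹ * (σ m / m - m))⁻¹ • c • β x := by
    rw [eq_inv_smul_iff₀ c2, ← hc (β x), β.symm_apply_apply]
  rw [LinearEquiv.mul_apply, a1, d8]
  simp [d7, d3, d4, mul_smul, -mul_inv_rev]

theorem block (ha : h.B a a = 0) (w0 : w ≠ 0) (hg : g ∈ H)
    (h1 : ∀ x, ∃ y, g (t x w) = t y a) : g ∈ Tg F t := by
  have := p.fd
  obtain ⟨α, a1⟩ := exists_blockEquiv p.ht w0 h1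
  obtain ⟨u, u', hf, -⟩ := p.hyp
  have a0 : a ≠ 0 := by
    rintro rfl
    exact hf.left_ne (t_eq_zero p.ht w0 (by simpa using a1 u))
  obtain ⟨β, b1, b2, b3⟩ := p.hw.trans ha a0 (a' := w) (by
    simpa [a1, p.B, ha, hf.one] using ((hH hg).1 (t u w) (t u' w)).symm) w0
  obtain ⟨m, b4, b5, -⟩ := p.tw b1 b2
  exact (Subgroup.mul_mem_cancel_right _ b4.1).1 (p.stab hM hH hN ha a0 (mul_mem hg (hM b4))
    (α := α) fun x => by simp [b5, b3, a1])

theorem fix (ha : h.B a a = 0) (a0 : a ≠ 0) (hg : g ∈ H)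
    (h1 : ∀ k ∈ H, ∀ s : F, (∀ v, k v = v + s • g.symm (t (p.cv a (g v)) a)) → k ∈ Tg F t) :
    g ∈ Tg F t := by
  obtain ⟨s, s0, hs⟩ := p.hs.exists_tz
  obtain ⟨y, b1, b2⟩ := p.tv ha hs
  obtain ⟨w, w0, hw⟩ := p.blk (g := g) a0 s0 one_ne_zero (h1 (g⁻¹ * y * g)
    (mul_mem (mul_mem (inv_mem hg) (hM b1)) hg) s fun v => by simp [b2]) fun v => by simp [b2]
  exact p.block hM hH hN ha w0 hg hw

theorem of_eig (hu : f.B u u = 0) (u0 : u ≠ 0) (ha : h.B a a = 0) (a0 : a ≠ 0) (hg : g ∈ H)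
    (c0 : c ≠ 0) (h1 : g (t u a) = c • t u a) : g ∈ Tg F t := by
  refine p.fix hM hH hN ha a0 hg fun k hk s h2 => p.block hM hH hN ha a0 hk fun x => ?_
  obtain ⟨u', hf, -⟩ := p.hyp' hu u0
  obtain ⟨α, β, a1⟩ := span_hyp p.two hf (p.cv a (g (t x a)))
  obtain rfl : β = 0 := by
    have := (hH hg).1 (t u a) (t x a)
    rw [h1, B_smul_left, p.B_t, ← a1] at this
    simpa [p.B, ha, hu, hf.one, c0] using this
  have a2 : g.symm (t u a) = c⁻¹ • t u a := g.symm_apply_eq.2 (by simp [h1, c0])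
  exact ⟨x + (s * α * c⁻¹) • u, by simp [h2, ← a1, a2, mul_smul]⟩

theorem of_cv (hu : f.B u u = 0) (u0 : u ≠ 0) (ha : h.B a a = 0) (a0 : a ≠ 0)
    (ha' : h.B a' a' = 0) (a0' : a' ≠ 0) (hg : g ∈ H) (h1 : p.cv a' (g (t u a)) = 0) :
    g ∈ Tg F t :=
  p.fix hM hH hN ha' a0' hg fun k hk s h2 =>
    p.of_eig hM hH hN hu u0 ha a0 hk one_ne_zero (by simp [h2, h1])

omit p hM hH hN in
variable (h t g) in
/-- Blocks mapped to non-degenerate blocks. -/
def EE (e' : W) : Prop := ∃ e, h.B e e = 1 ∧ ∀ x, ∃ x', g (t x e') = t x' e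

theorem exists_ee (hg : g ∈ H) (h0 : g ∉ Tg F t) (ha : h.B a a = 0) (a0 : a ≠ 0) :
    ∃ e' ≠ 0, h.B e' a = 0 ∧ EE h t g e' := by
  have := p.fd
  have := p.hw.fd
  obtain ⟨u, u', hf, hu⟩ := p.hyp
  obtain ⟨ψ, a1, a2⟩ := exists_ker_ne (covL p.ht (g (t u a))) (by simp [p.two, p.hw.thr])
  obtain ⟨d, a3⟩ := p.hw.nd.exists_repr ψ
  obtain rfl : h.B d = ψ := LinearMap.ext a3
  replace a2 : p.cv d (g (t u a)) = 0 := a2
  have a4 : h.B d d ≠ 0 := fun e => h0 (p.of_cv hM hH hN hf.left.1 hf.left_ne ha a0 e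
    (by rintro rfl; simp at a1) hg a2)
  obtain ⟨x, hx⟩ := exists_norm_eq_of_invol p.hs.ne p.hs.inv (μ := (h.B d d)⁻¹) (by
    rw [map_inv₀, ← p.hw.sy])
  have a5 : h.B (x • d) (x • d) = 1 := by
    rw [B_smul_left, B_smul_right, ← mul_assoc, hx, inv_mul_cancel₀ a4]
  have a6 : p.cv (x • d) (g (t u a)) = 0 := by simp [cv_smul, a2, -map_smul]
  generalize x • d = e at a5 a6
  obtain ⟨a₁, b, fr⟩ := p.hw.exists_fm' a5
  obtain ⟨m, m1, m2⟩ := p.hs.exists_cube p.three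
  have m0 : m ≠ 0 := right_ne_zero_of_mul_eq_one m1
  obtain ⟨γ, b1, b2, b3, b4, b5⟩ := p.hw.torus fr m0
  obtain ⟨δ, b6, b7, -⟩ := p.tw b1 b2
  rw [inv_eq_of_mul_eq_one_right m1] at b5
  have b8 : ∀ v, δ v = m • v + (σ m / m - m) • t (p.cv e v) e := fun v => by
    have := p.dec fr v
    generalize p.cv b v = x₁, p.cv e v = x₂, p.cv a₁ v = x₃ at this
    simp only [this, map_add, b7, b3, b4, b5, map_smul]
    module
  obtain ⟨y, y0, hy⟩ := p.blk (g := g) (w := e) (k := g⁻¹ * δ * g)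
    (by rintro rfl; simp at a5) m2 m0
    (p.of_eig hM hH hN hf.left.1 hf.left_ne ha a0 (mul_mem (mul_mem (inv_mem hg) (hM b6)) hg) m0
      (by simp [b8, a6])) fun v => by simp [b8]
  refine ⟨y, y0, ?_, e, a5, hy⟩
  obtain ⟨x', c1⟩ := hy u'
  have := (hH hg).1 (t u' y) (t u a)
  rw [c1, p.B_t, a6] at this
  simpa [p.B, hu] using this.symm

theorem of_ee (hg : g ∈ H) (h1 : EE h t g e) (h2 : EE h t g e') (h3 : h.B e e' ≠ 0)
    (h4 : e' ∉ F ∙ e) : g ∈ Tg F t := by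
  have := p.fd
  have := p.hw.fd
  obtain ⟨u, u', hf, hu⟩ := p.hyp
  have e0 : e ≠ 0 := by rintro rfl; simp at h3
  obtain ⟨d, a1, a2⟩ := h1
  obtain ⟨d', -, a3⟩ := h2
  obtain ⟨α, a4⟩ := exists_blockEquiv p.ht e0 a2
  obtain ⟨x, a5⟩ := a3 u
  have a6 : α u = ((h.B e e')⁻¹ * (h.B e e * h.B d d')) • x := by
    rw [mul_smul, eq_inv_smul_iff₀ h3]
    refine p.fn.eq_of_forall' fun y => ?_
    obtain ⟨y, rfl⟩ := α.surjective y
    have b1 := (hH hg).1 (t y e) (t u e')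
    have b2 := (hH hg).1 (t y e) (t u e)
    simp only [a4, a5, p.B, a1, B_smul_right] at b1 b2 ⊢
    linear_combination h.B e e' * b2 - h.B e e * b1
  have li : LinearIndependent F ![e, e'] :=
    (LinearIndependent.pair_iff' e0).2 fun c e => h4 (Submodule.mem_span_singleton.2 ⟨c, e⟩)
  obtain ⟨a, b1, b2, b3⟩ := p.hw.iso (T := Submodule.span F (Set.range ![e, e']))
    (by simp [finrank_span_eq_card li, -Matrix.range_cons])
  obtain ⟨c, rfl⟩ := (Submodule.mem_span_range_iff_exists_fun F).1 b1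
  obtain ⟨a', b4, b5, b6⟩ := p.hw.iso_perp
    ((c 0 * ((h.B e e')⁻¹ * (h.B e e * h.B d d'))) • d + c 1 • d')
  refine p.of_cv hM hH hN hf.left.1 hf.left_ne b3 b2 b5 b4 hg ?_
  rw [show g (t u (∑ i, c i • ![e, e'] i)) = t x
    ((c 0 * ((h.B e e')⁻¹ * (h.B e e * h.B d d'))) • d + c 1 • d') by
      simp [a4, a5, a6, smul_smul], cov_t, b6, zero_smul]

theorem mem_Tg (hg : g ∈ H) : g ∈ Tg F t := by
  by_contra h0
  have := p.fd
  have a0 : ∀ {e} (c : F), EE h t g e → EE h t g (c • e) := fun c ⟨d, h1, h2⟩ =>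
    ⟨d, h1, fun x => have ⟨y, hy⟩ := h2 x; ⟨c • y, by simp [hy]⟩⟩
  obtain ⟨e, a1, a2⟩ : ∃ e, h.B e e = 1 ∧ EE h t g e := by
    obtain ⟨a, b1, b2, -⟩ := p.hw.iso_perp 0
    obtain ⟨d, b3, -, b4⟩ := p.exists_ee hM hH hN hg h0 b2 b1
    have b5 : h.B d d ≠ 0 := fun e => by
      obtain ⟨d', b5, b6⟩ := b4
      obtain ⟨α, b7⟩ := exists_blockEquiv p.ht b3 b6
      obtain ⟨u, u', hf, -⟩ := p.hyp
      simpa [b7, p.B, e, b5, hf.one] using (hH hg).1 (t (α.symm u) d) (t (α.symm u') d)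
    obtain ⟨x, hx⟩ := exists_norm_eq_of_invol p.hs.ne p.hs.inv (μ := (h.B d d)⁻¹) (by
      rw [map_inv₀, ← p.hw.sy])
    exact ⟨x • d, by rw [B_smul_left, B_smul_right, ← mul_assoc, hx, inv_mul_cancel₀ b5], a0 x b4⟩
  obtain ⟨a, b, fr⟩ := p.hw.exists_fm' a1
  have a3 : ∀ μ : F, μ + σ μ = -1 → EE h t g (b - σ μ • a) := fun μ hμ => by
    obtain ⟨d, b1, b2, b3⟩ := p.exists_ee hM hH hN hg h0 (a := b + e + μ • a) (by
      simp [B_smul_left, fr.aa, fr.bb, fr.ab, fr.ba, fr.ee, fr.ae, fr.ea, fr.be, fr.eb]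
      linear_combination hμ) fun e' => by simpa [fr.ee, fr.ea, fr.eb] using congrArg (h.B e) e'
    have b4 : h.B e d = 0 := by_contra fun b4 => h0 (p.of_ee hM hH hN hg a2 b3 b4 fun e' => by
      obtain ⟨c, rfl⟩ := Submodule.mem_span_singleton.1 e'
      simp [B_smul_left, fr.ee, fr.ea, fr.eb] at b2
      simp [b2] at b1)
    have b5 := fr.span d
    have b6 : h.B b d = -(σ μ * h.B a d) := by
      have := h.B_eq_zero_symm b2
      simp [B_smul_left, b4] at this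
      linear_combination this
    have b7 : h.B a d ≠ 0 := fun e => b1 (by simpa [b4, b6, e] using b5)
    convert a0 (h.B a d)⁻¹ b3 using 1
    rw [eq_inv_smul_iff₀ b7]
    rw [b4, b6] at b5
    linear_combination (norm := module) -b5
  obtain ⟨ρ, hρ⟩ := exists_add_conj_eq_one p.hs.ne p.hs.inv
  obtain ⟨s, s0, hs, s1⟩ : ∃ s : F, s ≠ 0 ∧ s + σ s = 0 ∧ 1 + s ≠ 0 := by
    obtain ⟨s, s0, hs⟩ := p.hs.exists_tz
    obtain ⟨m, m1, m0, m2⟩ := p.hs.exists_fix p.three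
    by_cases e : 1 + s = 0
    · exact ⟨m * s, mul_ne_zero m0 s0, by rw [map_mul, m1]; linear_combination m * hs,
        fun e' => m2 (by linear_combination m * e - e')⟩
    exact ⟨s, s0, hs, e⟩
  refine h0 (p.of_ee hM hH hN hg (a3 (-ρ) (by rw [map_neg]; linear_combination -hρ))
    (a3 (s - ρ) (by rw [map_sub]; linear_combination hs - hρ)) (fun e' => s1 ?_) fun e' => s0 ?_)
  · simp [B_smul_left, fr.aa, fr.bb, fr.ab, fr.ba, p.hs.inv] at e'
    linear_combination e' - hρ + hs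
  obtain ⟨c, hc⟩ := Submodule.mem_span_singleton.1 e'
  have b1 := congrArg (h.B a) hc
  have b2 := congrArg (h.B b) hc
  simp [fr.aa, fr.bb, fr.ab, fr.ba] at b1 b2
  rw [b1] at b2
  linear_combination hs - b2

omit hM hH hN in
theorem isMaximalIn : IsMaximalIn Φ.E (Tg F t ⊓ Φ.E) := by
  have := p.hw.fd
  have := p.hs.fd
  refine isMaximalIn_of inf_le_right ?_ fun H h1 h3 g hg hg' => by_contra fun h4 =>
    hg' ⟨p.mem_Tg h1 (h3.trans E_le_O) h4 hg, h3 hg⟩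
  obtain ⟨u, u0, hu, -⟩ := p.hw.iso_perp 0
  obtain ⟨u', hu'⟩ := exists_hyp p.hw.nd (p.hw.sing hu) u0
  obtain ⟨a, b, hf, -⟩ := p.hyp
  obtain ⟨s, s0, hs⟩ := p.hs.exists_tz
  have a0 : Φ.B (t a u) (t a u) = 0 := by simp [p.B, hu]
  obtain ⟨T, a1, a2, a3⟩ := p.hs.nd.exists_qrefl p.hs.kap (d := t a u) (c := s)
    (by simp [p.hs.ε, hs, a0])
  refine ⟨T, p.hs.mem_E.2 ⟨a1, by simp [a2, a0]⟩, fun ⟨⟨α, β, b2⟩, _⟩ => ?_⟩
  have b3 := congrArg (p.cv u') (b2 a u')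
  have b4 := congrArg (p.cv u') (b2 b u')
  simp [a3, p.B, hf.left.1, hu'.right.1, hf.left_ne] at b3
  simp [a3, p.B, hf.one, hu'.one, hu'.right.1, hu'.B_symm, p.hw.ε, s0, hf.left_ne,
    (smul_eq_zero.1 b3.symm).resolve_right (α.map_ne_zero_iff.2 hf.left_ne)] at b4

end Uc

theorem isMaximalIn_su_tensor3 (hF : Fintype.card F = q ^ 2) (hq : 3 ≤ q) {n : ℕ}
    {e : Fin n ≃ Fin 2 × Fin 3} {P : GL (Fin n) F} {f₁ f₂} (hf₁ : IsUnitaryFormPow q f₁)
    (hf₂ : IsUnitaryFormPow q f₂)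
    (hT : IsTensorFormStructure (fun x : F => x ^ q) (hermForm n F q) f₁ f₂ e P) :
    IsMaximalIn (GU n F q ⊓ specialLinear (Fin n) F)
      (tensorProductSubgroup 2 3 e P ⊓ (GU n F q ⊓ specialLinear (Fin n) F)) := by
  have hn : 4 ≤ n := by have := Fintype.card_congr e; simp at this; omega
  have hs := hs_hu hF hn
  obtain ⟨c, a1, a2⟩ := As.tensor_pure (σ := conj hF) hT
  obtain ⟨f, b1, b2, b3⟩ := exists_form_pow hF hf₁
  obtain ⟨h, c1, c2, c3⟩ := exists_form_pow hF hf₂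
  rw [← As.eq_fog_of_herm hs.inv hf₁.add_left hf₁.smul_left hf₁.herm,
    ← As.eq_fog_of_herm hs.inv hf₂.add_left hf₂.smul_left hf₂.herm] at a2
  have a3 : conj hF c = c := by
    obtain ⟨x, -, hx⟩ := exists_herm_self_eq_one hs.ne f b2 b1.disjoint_top (by simp)
    obtain ⟨y, -, hy⟩ := exists_herm_self_eq_one hs.ne h c2 c1.disjoint_top (by simp)
    have e1 := a2 x y x y
    rw [b3, c3, hx, hy, mul_one, mul_one] at e1
    rw [← e1]; exact (hs.sy _ _).symm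
  have h3 := fun g => mem_SU_iff_E (g := g) hF hn
  exact isMaximalIn_of_iff (glE _ F) (Uc.isMaximalIn (p := ⟨isTensorProduct_tP e P, hs,
    ⟨hs.toHF, c2, c1, by simp⟩, Sf.scale_nondeg a1 b1, by simp [Sf.scale, b2, a3, a1],
    by simp, hq, fun x w y w' => (a2 y w' x w).trans (by rw [b3, c3]; rfl)⟩)) h3
    fun g => and_congr (mem_tensorProductSubgroup_iff_Tg two_pos) (h3 g)

end H23.Uf
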