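import Cfsg.Agent.H23.Ux1

/-! Maximality of the two-dimensional unitary group over an extension field of odd prime degree. -/

set_option autoImplicit false

namespace H23.Uf.Cub

open Module H22 Cfsg Cfsg.Geo Form Finset Tn

variable {F E V : Type*} [Field F] [Fintype F] [Field E] [Algebra F E] [FiniteDimensional F E]
  [Finite E] [AddCommGroup V] [Module F V] [Module E V] [IsScalarTower F E V] {σ : F →+* F}
  {τ : E →+* E} {q : ℕ}

omit [FiniteDimensional F E] in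
theorem exists_norm3 (h : IV σ τ) (hF : Fintype.card F = q ^ 2) (hq : HF σ q)
    (h5 : 3 ≤ finrank F E) (h3 : 3 ≤ q) : ∃ a : E, a ≠ 0 ∧ Algebra.norm F (a * (τ a)⁻¹) = 1 ∧
      ∀ c, a * (τ a)⁻¹ ≠ algebraMap F E c := by
  classical
  have := Fintype.ofFinite E
  obtain ⟨Q, hQ, hτ⟩ := exists_card_eq_sq_of_invol h.ne' h.inv'
  have hE : HF τ Q := by convert hf_conj hQ; exact RingHom.ext hτ
  have a1 : q ^ 3 ≤ Q := by
    rw [Module.card_eq_pow_finrank (K := F), hF, ← pow_mul, mul_comm, pow_mul] at hQ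
    rw [← Nat.pow_left_injective two_ne_zero hQ]
    exact Nat.pow_le_pow_right (by omega) h5
  obtain ⟨v, -, hv⟩ := exists_lt_card_fiber_of_mul_lt_card_of_maps_to (s := {x : E | τ x * x = 1})
    (t := {x : F | σ x * x = 1}) (f := Algebra.norm F) (n := q + 1) (fun x hx => by
      simp only [mem_filter, mem_univ, true_and] at hx ⊢
      refine (algebraMap F E).injective ?_
      rw [map_mul, ← h.alg, Algebra.norm_eq_prod_automorphisms, map_prod, ← prod_mul_distrib]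
      simp [← h.comm, ← map_mul, hx]) (by
      rw [hE.cardU', hq.cardU']
      have : 3 * (q * q) ≤ q ^ 3 := by nlinarith
      nlinarith)
  obtain ⟨y, hy⟩ := card_pos.1 (Nat.zero_lt_of_lt hv)
  obtain ⟨z, hz, hz'⟩ := exists_mem_notMem_of_card_lt_card (s := ({x : F | σ x * x = 1} :
    Finset F).image fun c => algebraMap F E c * y) (card_image_le.trans_lt (hq.cardU' ▸ hv))
  simp only [mem_filter, mem_univ, true_and, mem_image, not_exists, not_and] at hy hz hz'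
  have y0 : y ≠ 0 := by rintro rfl; simp at hy
  obtain ⟨a, a0, ha⟩ := hE.hilbert (x := z / y) (by
    rw [map_div₀, div_mul_div_comm, hy.1, hz.1, div_one])
  rw [map_inv₀, mul_comm] at ha
  refine ⟨a, a0, ?_, fun c hc => hz' c ?_ (by rw [← hc, ha, div_mul_cancel₀ _ y0])⟩
  · refine mul_right_cancel₀ ((Algebra.norm_ne_zero_iff (R := F)).2 y0) ?_
    rw [← map_mul, ha, div_mul_cancel₀ _ y0, hy.2, hz.2, one_mul]
  · refine (algebraMap F E).injective ?_
    rw [map_mul, ← h.alg, ← hc, ha, map_div₀, div_mul_div_comm, hy.1, hz.1, div_one, map_one]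

/-- A hermitian plane over an extension of prime degree. -/
structure Ux (Φ : Form σ V) (Ψ : Form τ V) (q : ℕ) : Prop extends Lift Φ Ψ where
  hs : HS Φ q
  kap' : Ψ.κ = 0
  pr : (finrank F E).Prime
  five : 3 ≤ finrank F E
  thr : 3 ≤ q
  two : finrank E V = 2

variable (F) in
/-- The unipotent radical of the stabiliser of a line. -/
def LU (Ψ : Form τ V) (H : Subgroup (V ≃ₗ[F] V)) (u : V) (a : Gal(E/F) → E) : Prop :=
  ∃ z ∈ H, ∀ x, z x = x + (∑ s, a s * s (Ψ.B u x)) • u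

variable (τ) in
/-- coefficients supported on a pair -/
noncomputable def pp (j : Gal(E/F)) (θ : E) (i : Gal(E/F)) : E := gs j θ i - i (τ (gs j θ i⁻¹))

namespace Ux

variable {Φ : Form σ V} {Ψ : Form τ V} (h : Ux Φ Ψ q) {H : Subgroup (V ≃ₗ[F] V)} {u v w x f : V}
  {a b : Gal(E/F) → E} {j : Gal(E/F)}
include h

section
omit [FiniteDimensional F E] [Finite E]

theorem iv : IV σ τ := ⟨h.hs.ne, h.hs.inv, h.invol, h.alg⟩

omit [IsScalarTower F E V]

theorem ε' : Ψ.ε = 1 := by simp [h.eps, h.hs.ε]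

theorem fd : FiniteDimensional E V := finite_of_finrank_pos (by rw [h.two]; omega)

theorem sy (x y : V) : Ψ.B y x = τ (Ψ.B x y) := by rw [Ψ.symm, h.ε', one_mul]

theorem B_smul (c : E) (u v : V) : Φ.B (c • u) v = Algebra.trace F E (Ψ.B u v * τ c) := by
  rw [h.tr, h.adj]

theorem hyp (hu : Ψ.B u u = 0) (h0 : u ≠ 0) : ∃ f, Hyp Ψ u f :=
  haveI := h.fd; exists_hyp h.nondeg ⟨hu, Q_of_κ h.kap' u⟩ h0

theorem span (hf : Hyp Ψ u f) (v : V) : ∃ a b : E, a • u + b • f = v := by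
  have := hf.linearIndependent.span_eq_top_of_card_eq_finrank (by simp [h.two])
  obtain ⟨a, b, e⟩ : ∃ a b : E, a • f + b • u = v := by
    simpa [Submodule.mem_span_pair] using this.ge (Submodule.mem_top (x := v))
  exact ⟨b, a, by rw [add_comm, e]⟩

theorem mem_line (hu : Ψ.B u u = 0) (h0 : u ≠ 0) (hv : Ψ.B u v = 0) : v ∈ E ∙ u := by
  obtain ⟨f, hf⟩ := h.hyp hu h0
  obtain ⟨a, b, rfl⟩ := h.span hf v
  simp [hu, hf.one] at hv
  simp [hv, Submodule.mem_span_singleton]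

theorem exists_hd (hu : Ψ.B u u = 0) (h0 : u ≠ 0) {m : E} (hm : m ≠ 0) : ∃ g ∈ Ψ.O,
    LinearMap.det g.toLinearMap = m * (τ m)⁻¹ ∧ g u = m • u := by
  have := h.fd
  obtain ⟨f, hf⟩ := h.hyp hu h0
  obtain ⟨g, a1, a2⟩ := h.nondeg.exists_hdiag hf (a := m) (b := (τ m)⁻¹)
    (mul_inv_cancel₀ (by simpa))
  exact ⟨g.1, g.2, a1, by rw [a2, hdiag_left hf]⟩

end

omit [FiniteDimensional F E] [Finite E] in
theorem mem_E {k : V ≃ₗ[E] V} (hk : k ∈ Ψ.O)
    (h1 : Algebra.norm F (LinearMap.det k.toLinearMap) = 1) : k.restrictScalars F ∈ Φ.E :=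
  h.hs.mem_E.2 ⟨⟨fun x y => by simp [h.B_eq, hk.1], fun x => by simp [Q_of_κ h.hs.kap]⟩, by
    rw [← h1, ← LinearMap.det_restrictScalars]; rfl⟩

omit [FiniteDimensional F E] in
theorem trans (hu : Ψ.B u u = 0) (hw : Ψ.B w w = 0) (h0 : u ≠ 0) (h1 : w ≠ 0) : ∃ k ∈ Ψ.O,
    Algebra.norm F (LinearMap.det k.toLinearMap) = 1 ∧ ∃ c : E, c ≠ 0 ∧ k u = c • w := by
  have := h.fd
  have := Fintype.ofFinite E
  obtain ⟨Q, hQ, hτ⟩ := exists_card_eq_sq_of_invol h.iv.ne' h.invol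
  have hE : HF τ Q := by convert hf_conj hQ; exact RingHom.ext hτ
  obtain ⟨k, a1, a2⟩ := h.nondeg.witt_one h0 h1 (by rw [hu, hw])
    (by rw [Q_of_κ h.kap', Q_of_κ h.kap'])
  have a3 := h.nondeg.det_mul_σ_det_of_mem a1
  obtain ⟨m, m0, hm⟩ := hE.hilbert (x := τ (LinearMap.det k.toLinearMap)) (by rwa [h.invol])
  obtain ⟨g, a4, a5, a6⟩ := h.exists_hd hw h1 m0
  exact ⟨g * k, mul_mem a4 a1, by
    rw [det_mul_equiv, a5, ← map_inv₀, mul_comm m, hm, mul_comm, a3, map_one], m, m0, by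
    simp [a2, a6]⟩

section
omit [Finite E] [IsScalarTower F E V] h

theorem l_add (hu : Ψ.B u u = 0) (h1 : LU F Ψ H u a) (h2 : LU F Ψ H u b) : LU F Ψ H u (a + b) := by
  obtain ⟨z, a1, a2⟩ := h1
  obtain ⟨z', a3, a4⟩ := h2
  exact ⟨z * z', mul_mem a1 a3, fun x => by
    simp [a4, a2 (_ + _), hu, add_mul, sum_add_distrib, add_smul]; abel⟩

theorem l_neg (hu : Ψ.B u u = 0) (h1 : LU F Ψ H u a) : LU F Ψ H u (-a) := by
  obtain ⟨z, a1, a2⟩ := h1
  exact ⟨z⁻¹, inv_mem a1, fun x => z.injective (by simp [a2 (_ - _), hu, ← sub_eq_add_neg])⟩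

theorem l_sum (hu : Ψ.B u u = 0) {α : Type*} (S : Finset α) {f : α → Gal(E/F) → E}
    (h1 : ∀ i, LU F Ψ H u (f i)) : LU F Ψ H u (∑ i ∈ S, f i) :=
  sum_induction _ _ (fun _ _ => l_add hu) ⟨1, one_mem _, by simp⟩ fun i _ => h1 i

end

theorem l_symm (hH : H ≤ Φ.O) (hu : Ψ.B u u = 0) (h0 : u ≠ 0) (h1 : LU F Ψ H u a) (j : Gal(E/F)) :
    j (a j⁻¹) = -τ (a j) := by
  obtain ⟨z, a1, a2⟩ := h1
  obtain ⟨f, hf⟩ := h.hyp hu h0
  refine congrFun (gal_ext (F := F) (h := fun s => s (a s⁻¹)) (h' := fun s => -τ (a s))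
    fun y => ?_) j
  rw [← sum_inv_gal]
  refine tr_ext (F := F) fun c => ?_
  have := (hH a1).1 (τ y • f) (c • f)
  simp only [a2, h.B_eq, map_add, LinearMap.add_apply, B_smul_left, B_smul_right, hf.one, hu,
    hf.B_symm, h.ε', mul_one, mul_zero, map_zero, map_sum τ, map_mul τ, ← h.iv.comm,
    h.invol] at this
  rw [← tr_adj]
  simp only [neg_mul, sum_neg_distrib, map_neg, mul_comm _ (Finset.sum _ _)] at this ⊢
  linear_combination this

theorem adjT {m : V ≃ₗ[F] V} (hm : m ∈ Φ.O) (h1 : ∀ y : E, m (y • u) = (∑ s, a s * s y) • w)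
    (x : V) : Ψ.B u (m⁻¹ x) = ∑ t : Gal(E/F), t⁻¹ (τ (a t) * Ψ.B w x) := tr_ext (F := F) fun c => by
  rw [← tr_adj, ← h.invol c, ← h.B_smul, ← B_O_left hm, h1, h.B_smul, mul_comm]
  simp [h.iv.comm]

theorem l_conj (hH : H ≤ Φ.O) {m : V ≃ₗ[F] V} (hm : m ∈ H)
    (h1 : ∀ y : E, m (y • u) = (∑ s, a s * s y) • w) (h2 : LU F Ψ H u b) :
    LU F Ψ H w fun i => ∑ s, ∑ j, a s * s (b j) * i (τ (a (i⁻¹ * s * j))) := by
  obtain ⟨z, a1, a2⟩ := h2
  refine ⟨_, mul_mem (mul_mem hm a1) (inv_mem hm), fun x => ?_⟩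
  simp only [LinearEquiv.mul_apply, a2, map_add, h1, h.adjT (hH hm) h1, map_sum, map_mul,
    mul_sum, sum_mul]
  rw [sum_comm (γ := Gal(E/F)) (f := fun i s => ∑ j, a s * s (b j) * i (τ (a (i⁻¹ * s * j))) *
    i (Ψ.B w x))]
  congr 2
  · exact m.apply_symm_apply x
  refine sum_congr rfl fun s _ => ?_
  refine Eq.trans ?_ sum_comm
  refine sum_congr rfl fun j _ => Fintype.sum_equiv
    ((Equiv.inv _).trans (Equiv.mulLeft (s * j))) _ _ fun t => ?_
  simp [mul_assoc]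

variable (hM : ∀ k ∈ Ψ.O, Algebra.norm F (LinearMap.det k.toLinearMap) = 1 →
  k.restrictScalars F ∈ H)
include hM

omit [Finite E] in
theorem l_rat (hu : Ψ.B u u = 0) {c : E} (hc : c + τ c = 0) : LU F Ψ H u (gs 1 c) := by
  have := h.fd
  obtain ⟨g, a1, a2, a3⟩ := h.nondeg.exists_qrefl h.kap' (d := u) (c := c) (by simp [h.ε', hc, hu])
  exact ⟨_, hM g a1 (by simp [a2, hu]), fun x => by simp [sum_gs, a3]⟩

omit h in
theorem l_move {k : V ≃ₗ[E] V} (hk : k ∈ Ψ.O) (h2 : Algebra.norm F (LinearMap.det k.toLinearMap) = 1)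
    {c : E} (h3 : k u = c • w) (h1 : LU F Ψ H u a) : LU F Ψ H w fun s => c * s (τ c) * a s := by
  obtain ⟨z, a1, a2⟩ := h1
  refine ⟨_, mul_mem (mul_mem (hM k hk h2) a1) (inv_mem (hM k hk h2)), fun x => ?_⟩
  have := B_O_left hk u x
  rw [h3, B_smul_left] at this
  simp [a2, h3, ← show _ = Ψ.B u (k.symm x) from this, smul_smul, sum_mul]
  congr 1; exact sum_congr rfl fun s _ => by ring

theorem l_scale (hu : Ψ.B u u = 0) (h0 : u ≠ 0) (h1 : LU F Ψ H u a) {c : E}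
    (hc : c ≠ 0 → Algebra.norm F (c * (τ c)⁻¹) = 1) : LU F Ψ H u fun s => c * s (τ c) * a s := by
  by_cases e : c = 0
  · exact ⟨1, one_mem _, by simp [e]⟩
  obtain ⟨g, a1, a2, a3⟩ := h.exists_hd hu h0 e
  exact l_move hM a1 (a2 ▸ hc e) a3 h1

theorem l_polar (hu : Ψ.B u u = 0) (h0 : u ≠ 0) (h1 : LU F Ψ H u a) {θ : Gal(E/F) → E}
    (hθ : ∀ j, τ (θ j) = θ j) : LU F Ψ H u fun j => (θ j + j (θ j⁻¹)) * a j := by
  have := Fintype.ofFinite E
  have a1 : ∀ c, τ c = c → LU F Ψ H u fun s => c * s c * a s := fun c hc => by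
    simpa only [hc] using h.l_scale hM hu h0 h1 (c := c) fun e => by simp [hc, e]
  have a2 : ∀ c y, τ c = c → τ y = y → LU F Ψ H u fun s => (c * s y + y * s c) * a s :=
    fun c y hc hy => by
      convert l_add hu (a1 (c + y) (by simp [hc, hy])) (l_neg hu (l_add hu (a1 c hc) (a1 y hy)))
        using 1
      funext s; simp; ring
  obtain ⟨c, hc⟩ := gal_span θ
  obtain ⟨t, -, hd⟩ := h.iv.dec
  choose x y b1 b2 b3 using hd
  obtain ⟨ρ, hρ⟩ := exists_add_conj_eq_one h.iv.ne' h.invol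
  have a3 : ∀ z, τ (ρ * z + τ (ρ * z)) = ρ * z + τ (ρ * z) := fun z => by
    rw [map_add, h.invol, add_comm]
  have a4 : ∀ j, θ j = ∑ b, ((ρ * c b + τ (ρ * c b)) * j (x b) +
      (ρ * (t • c b) + τ (ρ * (t • c b))) * j (y b)) := fun j => by
    have e1 : θ j = ∑ b, (c b * j (x b) + t • c b * j (y b)) := by
      rw [hc]
      exact sum_congr rfl fun b _ => by nth_rw 2 [b3 b]; simp [mul_add]
    have e2 := congrArg τ e1
    simp only [hθ, map_sum, map_add, map_mul, ← h.iv.comm, b1, b2] at e2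
    rw [← one_mul (θ j), ← hρ, add_mul]
    nth_rw 2 [e2]
    rw [e1, mul_sum, mul_sum, ← sum_add_distrib]
    exact sum_congr rfl fun b _ => by simp only [map_mul]; ring
  convert l_sum hu univ fun b => l_add hu (a2 _ _ (a3 (c b)) (b1 b)) (a2 _ _ (a3 (t • c b)) (b2 b))
    using 1
  funext j
  rw [a4 j, a4 j⁻¹, map_sum, ← sum_add_distrib, sum_mul, Finset.sum_apply]
  refine sum_congr rfl fun b _ => ?_
  simp only [map_add j (_ * _) (_ * _), map_mul j (_ + _), ← AlgEquiv.mul_apply, mul_inv_cancel,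
    AlgEquiv.one_apply, Pi.add_apply]
  ring

theorem l_pair (hH : H ≤ Φ.O) (hu : Ψ.B u u = 0) (h0 : u ≠ 0) (h1 : LU F Ψ H u a) (hj : a j ≠ 0)
    (θ : E) : LU F Ψ H u (pp τ j θ) := by
  by_cases e : j = 1
  · convert h.l_rat hM hu (c := θ - τ θ) (by simp [h.invol]) using 1
    funext i
    by_cases e' : i = 1 <;> simp [pp, e, e']
  have a1 : ∀ {a}, LU F Ψ H u a → ∀ x, τ x = x → LU F Ψ H u (pp τ j (x * a j)) := fun {a} h1 x hx => by
    convert h.l_polar hM hu h0 h1 (θ := gs j x) (fun i => by by_cases e : i = j <;> simp [e, hx])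
      using 2 with i
    rw [pp, add_mul, sub_eq_add_neg]
    congr 1
    · by_cases e : i = j <;> simp [e]
    by_cases e : i⁻¹ = j
    · have := congrArg τ (h.l_symm hH hu h0 h1 i)
      simp [← e, hx, h.iv.comm, this, h.invol]
    simp [e]
  obtain ⟨c, c0, c1, c2⟩ := exists_norm3 h.iv h.hs.card h.hs.toHF h.five h.thr
  have c3 : τ c ≠ 0 := by simpa
  have a2 : c * j (τ c) - τ (c * j (τ c)) ≠ 0 := fun e' => by
    have := Fact.mk h.pr
    obtain ⟨d, hd⟩ := (IsGalois.mem_range_algebraMap_iff_fixed (F := F) (c * (τ c)⁻¹)).2 fun s => by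
      obtain ⟨n, rfl⟩ := mem_powers_of_prime_card (card_gal (F := F) (E := E)) e (g' := s)
      refine (congrFun (AlgEquiv.coe_pow j n) _).trans (Function.iterate_fixed ?_ n)
      rw [map_mul, ← h.iv.comm, h.invol] at e'
      have : j (τ c) ≠ 0 := by simpa
      rw [map_mul, map_inv₀]; field_simp; linear_combination -e'
    exact c2 d hd.symm
  have a3 := a1 (h.l_scale hM hu h0 h1 fun _ => c1)
  generalize c * j (τ c) = μ at a2 a3
  have a4 : τ μ - μ ≠ 0 := fun e => a2 (by linear_combination -e)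
  convert l_add hu (a3 ((θ / a j - τ (θ / a j)) / (μ - τ μ)) (by
    simp [h.invol]; field_simp; ring)) (a1 h1 (θ / a j - μ * ((θ / a j - τ (θ / a j)) / (μ - τ μ)))
      (by generalize θ / a j = z; simp [h.invol]; field_simp; ring)) using 1
  funext i
  nth_rw 1 [show θ = (θ / a j - τ (θ / a j)) / (μ - τ μ) * (μ * a j) +
    (θ / a j - μ * ((θ / a j - τ (θ / a j)) / (μ - τ μ))) * a j by field_simp; ring]
  simp only [pp, gs, Pi.add_apply]
  split_ifs <;> simp only [map_add, map_zero] <;> ring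

theorem win (hH : H ≤ Φ.O) (hu : Ψ.B u u = 0) (h0 : u ≠ 0)
    (h1 : ∀ j, ∃ a, LU F Ψ H u a ∧ a j ≠ 0) : Φ.E ≤ H := by
  classical
  have := h.hs.fd
  obtain ⟨ρ, hρ⟩ := exists_add_conj_eq_one h.hs.ne h.hs.inv
  have a1 : ∀ w, Ψ.B w w = 0 → w ≠ 0 → ∀ x y : E, Φ.AIn H (x • w) (y • w) := fun w hw w0 x y => by
    obtain ⟨k, b1, b2, c, c0, b3⟩ := h.trans hu hw h0 w0
    choose a b4 b5 using h1
    refine ⟨by simp [h.B_eq, hw], fun s hs => ?_⟩
    have e : σ s = -s := by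
      have := hs.trB; simp [h.B_eq, hw, h.hs.ε] at this; linear_combination -this
    obtain ⟨z, b6, b7⟩ := l_sum hw univ fun j => h.l_pair hM hH hw w0 (l_move hM b1 b2 b3 (b4 j))
      (j := j) (by simp [c0, b5]) (x * j (τ y) + algebraMap F E (ρ * s) * (x * j (τ x)))
    refine ⟨z, b6, fun v => ?_⟩
    have b8 : ∀ (g : Gal(E/F) → E) i, ∑ j, gs j (g j) i = g i := fun g i => by simp [gs]
    simp only [b7, eichler_apply, h.B_smul, h.hs.ε, map_one, one_mul, add_assoc, add_right_inj,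
      ← algebraMap_smul E (_ : F) (_ • w), smul_smul, ← add_smul, map_sub, map_neg, map_mul, tr_sum,
      Finset.sum_apply, pp, sum_sub_distrib, ← map_sum, b8]
    congr 1
    simp only [map_add, map_mul, h.alg, AlgEquiv.commutes, ← h.iv.comm, h.invol, e, map_neg,
      ← AlgEquiv.mul_apply, mul_inv_cancel, AlgEquiv.one_apply, sub_mul, neg_mul, sum_mul, mul_sum,
      ← sum_sub_distrib, ← sum_neg_distrib, ← sum_add_distrib]
    refine sum_congr rfl fun i _ => ?_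
    have := congrArg (algebraMap F E) hρ
    rw [map_add, map_one] at this
    linear_combination (algebraMap F E s * x * i (τ x) * i (Ψ.B w v)) * this
  obtain ⟨f, hf⟩ := h.hyp hu h0
  obtain ⟨s, s0, hs⟩ := h.hs.exists_tz
  have a2 : ∀ y : E, QR Φ H (y • f) s := fun y => h.hs.tv (by simp [h.B_eq, hf.right.1])
    (by simpa using a1 f hf.right.1 hf.right_ne y 0) hs
  have a3 : Sing Φ u := h.hs.sing (by simp [h.B_eq, hu])
  have a4 : ∀ y : E, Φ.AIn H u (y • u) := fun y => by simpa using a1 u hu h0 1 y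
  obtain ⟨d, hd⟩ := Algebra.trace_surjective F E s⁻¹
  obtain ⟨g, a5, a6⟩ := a2 (τ d)
  refine E_le_of_qIn_of_mem h.nd a3 (qIn_iff.2 fun e he => ?_) a5 (hH a5) ?_
  · obtain ⟨x, y, rfl⟩ := h.span hf e
    refine (a4 x).add a3 ?_
    by_cases y0 : y = 0
    · simpa [y0] using a4 0
    obtain ⟨k, b1, b2⟩ := a2 y
    have b3 : Φ.B (y • f) u = 0 := Φ.B_eq_zero_symm (by simpa [(a4 x).1] using he)
    have b4 : Φ.B (y • f) ((d / τ y) • u) = s⁻¹ := by
      rw [h.B_smul, B_smul_right, hf.B_symm, h.ε', mul_one, div_mul_cancel₀ _ (by simpa), hd]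
    have := (a4 (d / τ y)).conj b1 (hH b1)
    simp only [b2, b3, b4, mul_zero, zero_smul, add_zero, mul_inv_cancel₀ s0, one_smul] at this
    simpa using this.sub a3 (a4 (d / τ y))
  · have b1 : Φ.B (τ d • f) u = s⁻¹ := by simp [h.B_smul, hf.B_symm, h.ε', h.invol, hd]
    simp [a6, a3.1, b1, s0, h.hs.sy (τ d • f) u]

variable (hH : H ≤ Φ.O) (hN : ¬ Φ.E ≤ H)
include hH hN

theorem mono (hu : Ψ.B u u = 0) (h0 : u ≠ 0) {m : V ≃ₗ[F] V} (hm : m ∈ H)
    (h1 : ∀ y : E, m (y • u) ∈ E ∙ u) :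
    ∃ (c : E) (s : Gal(E/F)), ∀ y, m (y • u) = (c * s y) • u := by
  obtain ⟨l, hl⟩ := exists_coord h0 h1
  obtain ⟨a, ha⟩ := gal_coeff l
  simp only [ha] at hl
  let J : Set Gal(E/F) := {j | ∃ a, LU F Ψ H u a ∧ a j ≠ 0}
  have a2 : ∀ s t, a s ≠ 0 → a t ≠ 0 → ∀ j ∈ J, s * t⁻¹ * j ∈ J := fun s t hs ht j ⟨b, hb, hj⟩ =>
    by_contra fun h2 => by
      generalize hi : s * t⁻¹ * j = i at h2
      have := h.iv.indep (a := fun s' => a s' * i (τ (a (i⁻¹ * s' * j))))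
        (b := fun s' => a (s' * j) * i (τ (a (i⁻¹ * s')))) (fun y => by
        by_contra h3
        refine h2 ⟨_, h.l_conj hH hm hl (h.l_pair hM hH hu h0 hb hj y), fun h4 =>
          h3 (sub_eq_zero.1 (h4 ▸ ?_))⟩
        simp only [pp, sub_mul, map_sub, mul_sub, sum_sub_distrib]
        congr 1
        · refine sum_congr rfl fun s' _ => ?_
          rw [sum_eq_single j (fun j _ hj => by simp [hj]) (by simp)]
          simp [mul_right_comm]
        refine Fintype.sum_equiv (Equiv.mulRight j) _ _ fun s' => ?_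
        rw [sum_eq_single j⁻¹ (fun j' _ hj => by simp [inv_eq_iff_eq_inv.not.2 hj]) (by simp)]
        simp [mul_right_comm, mul_assoc]) s
      have e1 : i⁻¹ * s * j = t := by rw [← hi, gal_comm _ j]; simp [mul_assoc]
      simp [e1, hs, ht] at this
  obtain ⟨s, hs⟩ : ∃ s, a s ≠ 0 := by
    by_contra! h2
    simpa [h2, h0] using hl 1
  refine ⟨a s, s, fun y => ?_⟩
  rw [hl, sum_eq_single s (fun t _ ht => ?_) (by simp)]
  by_contra h2
  have := Fact.mk h.pr
  refine hN (h.win hM hH hu h0 fun j => ?_)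
  obtain ⟨n, rfl⟩ := mem_powers_of_prime_card (card_gal (F := F) (E := E))
    (mul_inv_eq_one.not.2 ht) (g' := j)
  induction n with
  | zero =>
    obtain ⟨c, c0, hc⟩ := exists_trace_zero h.iv.ne' h.invol
    exact ⟨_, h.l_rat hM hu hc, by simpa⟩
  | succ n ih => simp only [pow_succ']; exact a2 t s (left_ne_zero_of_mul h2) hs _ ih

theorem triv (hu : Ψ.B u u = 0) (h0 : u ≠ 0) {m : V ≃ₗ[F] V} (hm : m ∈ H)
    (h1 : ∀ y : E, m (y • u) ∈ E ∙ u) {x : E} (hx : x ≠ 0) (h2 : m (x • u) = x • u)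
    (h3 : ∀ y : E, m (m (y • u)) - (2 : E) • m (y • u) + y • u = 0) (y : E) :
    m (y • u) = y • u := by
  obtain ⟨c, s, h4⟩ := h.mono hM hH hN hu h0 hm h1
  have h5 : c * s x = x := smul_left_injective E h0 ((h4 x).symm.trans h2)
  have := Fact.mk h.pr
  obtain rfl := gal_quad (s := s) (a := c * s c) (b := c) (fun h6 e => absurd h.five (by
      rw [← card_gal, ← orderOf_eq_card_of_forall_mem_zpowers fun t =>
        mem_zpowers_of_prime_card card_gal h6, orderOf_eq_prime (p := 2) (by rwa [sq]) h6]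
      omega)) (by rintro rfl; simp [hx.symm] at h5) fun y => by
      have := h3 y
      simp only [h4, smul_smul, ← sub_smul, ← add_smul, map_mul, smul_eq_zero, h0, or_false] at this
      linear_combination this
  simp [h4, show c = 1 by simpa [hx] using h5]

theorem line (hu : Ψ.B u u = 0) (h0 : u ≠ 0) (X : Submodule F E) : X ≠ ⊥ → ∀ g ∈ H,
    (∀ x ∈ X, g (x • u) ∈ E ∙ u) → ∀ x : E, g (x • u) ∈ E ∙ u := by
  induction X using WellFoundedGT.induction with
  | ind X ih =>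
  intro hX g hg h1
  by_contra! h2
  obtain ⟨x₀, a1, a2⟩ := X.exists_mem_ne_zero_of_ne_bot hX
  have a0 : ∀ v ∈ E ∙ u, Ψ.B u v = 0 := fun v hv => by
    obtain ⟨c, rfl⟩ := Submodule.mem_span_singleton.1 hv
    simp [hu]
  let ψ := (Ψ.B u).restrictScalars F ∘ₗ g.toLinearMap ∘ₗ
    (LinearMap.toSpanSingleton E V u).restrictScalars F
  obtain ⟨c, c0, hc, _, ⟨x₁, rfl⟩, a3, a4⟩ := h.iv.exists_deg (Z := LinearMap.range ψ) (fun e => by
    obtain ⟨x, hx⟩ := h2
    exact hx (h.mem_line hu h0 (e.le ⟨x, rfl⟩))) (by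
      have := ψ.finrank_range_add_finrank_ker
      have := Submodule.one_le_finrank_iff.2 ((LinearMap.ker ψ).ne_bot_iff.2
        ⟨x₀, a0 _ (h1 x₀ a1), a2⟩)
      omega)
  replace a3 : Ψ.B u (g (x₁ • u)) ≠ 0 := a3
  obtain ⟨δ, δ0, hδ⟩ := h.hs.exists_tz
  obtain ⟨t, ht, a6⟩ := h.l_rat hM hu (c := δ • c) (by
    rw [Algebra.smul_def, map_mul, h.alg, hc, ← add_mul, ← map_add, hδ]; simp)
  simp only [sum_gs, AlgEquiv.one_apply] at a6
  obtain ⟨x₂, hb⟩ := Submodule.mem_span_singleton.1 (h.mem_line hu h0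
    (v := g⁻¹ ((δ • c * Ψ.B u (g (x₁ • u))) • u)) (Ψ.B_eq_zero_symm (h.B_eq_zero.2 fun y => by
      refine Φ.B_eq_zero_symm ?_
      rw [← B_O_left (hH hg), ← h.tr, h.sy, smul_mul_assoc, mul_smul_comm, map_smul]
      exact smul_eq_zero_of_right _ (a4 _ ⟨y, rfl⟩))))
  set k := g⁻¹ * t * g
  have b1 : k ∈ H := mul_mem (mul_mem (inv_mem hg) ht) hg
  have b2 : ∀ x : E, k (x • u) = x • u + g⁻¹ ((δ • c * Ψ.B u (g (x • u))) • u) := by simp [k, a6]
  have b3 : ∀ x ∈ X, k (x • u) = x • u := fun x hx => by simp [b2, a0 _ (h1 x hx)]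
  have b4 : k (x₁ • u) = x₁ • u + x₂ • u := by rw [b2, hb]
  have b5 := ih (X ⊔ F ∙ x₁) (SetLike.lt_iff_le_and_exists.2 ⟨le_sup_left, x₁,
    Submodule.mem_sup_right (Submodule.mem_span_singleton_self _), fun e => a3 (a0 _ (h1 _ e))⟩)
    (fun h => hX (eq_bot_iff.2 (h ▸ le_sup_left))) k b1 fun x hx => by
      obtain ⟨x, hx', _, hz, rfl⟩ := Submodule.mem_sup.1 hx
      obtain ⟨e, rfl⟩ := Submodule.mem_span_singleton.1 hz
      rw [add_smul, smul_assoc, map_add, map_smul k e, b3 x hx', b4, ← add_smul, ← smul_assoc,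
        ← add_smul]
      exact Submodule.smul_mem _ _ (Submodule.mem_span_singleton_self u)
  have := h.triv hM hH hN hu h0 b1 b5 a2 (b3 x₀ a1) (fun y => by
    obtain ⟨d, hd⟩ := Submodule.mem_span_singleton.1 (b5 y)
    have e1 : g (d • u) = g (y • u) + (δ • c * Ψ.B u (g (y • u))) • u := by simp [hd, b2]
    rw [← hd, b2 d, e1, map_add, map_smul (Ψ.B u), hu, hd, b2 y]
    simp [two_smul]; abel) x₁
  rw [b2] at this
  simp [δ0, c0, a3, h0] at this

theorem semi (hu : Ψ.B u u = 0) (h0 : u ≠ 0) {g : V ≃ₗ[F] V} (hg : g ∈ H) :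
    ∃ s : Gal(E/F), ∀ a, g (a • u) = s a • g u := by
  obtain ⟨x, x0, hx⟩ := h.iv.exists_iso (AddMonoidHom.mk' (fun x => AddMonoidHom.mk'
    (fun y => Ψ.B (g (x • u)) (g (y • u))) (by simp [add_smul])) fun _ _ => by ext; simp [add_smul])
    (fun c x y => by
      simp only [AddMonoidHom.mk'_apply, smul_assoc, map_smul]
      rw [← algebraMap_smul E c, B_smul_left, h.alg, Algebra.smul_def])
    (fun c x y => by
      simp only [AddMonoidHom.mk'_apply, smul_assoc, map_smul]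
      rw [← algebraMap_smul E c, B_smul_right, Algebra.smul_def])
    (fun x => (h.sy _ _).symm) fun x => by simp [← h.B_eq, (hH hg).1]; simp [h.B_eq, hu]
  obtain ⟨m, a1, a2, c, -, a3⟩ := h.trans hx hu (by simp [x0, h0]) h0
  have h5 := mul_mem (hM m a1 a2) hg
  obtain ⟨d, s, h6⟩ := h.mono hM hH hN hu h0 h5 (h.line hM hH hN hu h0 (F ∙ x) (by simpa) _ h5
    fun y hy => by
      obtain ⟨e, rfl⟩ := Submodule.mem_span_singleton.1 hy
      rw [smul_assoc, map_smul]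
      exact Submodule.smul_of_tower_mem _ _ (Submodule.mem_span_singleton.2 ⟨c, a3.symm⟩))
  refine ⟨s, fun y => m.injective ?_⟩
  have h7 : m (g u) = d • u := by simpa using h6 1
  rw [map_smul m, h7, smul_smul, mul_comm]
  exact h6 y

omit hM hH hN in
theorem isMaximalIn : IsMaximalIn Φ.E (Tg F (ls E V) ⊓ Φ.E) := by
  have := h.fd
  have := h.hs.fd
  have := h.nt
  obtain ⟨u, -, h0, ⟨hu, -⟩⟩ := exists_sing_of_herm (Φ := Ψ) h.iv.ne' h.ε' (T := ⊤) (by simp [h.two])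
  obtain ⟨f, hf⟩ := h.hyp hu h0
  refine isMaximalIn_of inf_le_right ?_ fun H h1 h2 g hg hg' => ?_
  · obtain ⟨s, s0, hs⟩ := h.hs.exists_tz
    have a0 : Φ.B u u = 0 := by simp [h.B_eq, hu]
    obtain ⟨t, a1, a2, a3⟩ := h.nd.exists_qrefl h.hs.kap (d := u) (c := s) (by simp [h.hs.ε, hs, a0])
    refine ⟨t, h.hs.mem_E.2 ⟨a1, by simp [a2, a0]⟩, fun h1 => ?_⟩
    obtain ⟨d, hd⟩ := Algebra.trace_surjective F E 1
    refine h.pr.one_lt.not_ge (finrank_le_one d fun b => ⟨Algebra.trace F E b, ?_⟩)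
    have a4 : ∀ y : E, algebraMap F E (Algebra.trace F E y) =
        y * algebraMap F E (Algebra.trace F E 1) := fun y => by
      obtain ⟨y', hy⟩ := semi_of_Tg h1.1 y
      have b1 := congrArg (Ψ.B f) (hy u)
      have b2 := congrArg (Ψ.B f) (hy f)
      simp [a3, h.B_eq, hu, hf.one, hf.B_symm, h.ε', hf.right.1, ← algebraMap_smul E (_ : F) u,
        -algebraMap_smul] at b1 b2
      exact mul_left_cancel₀ ((map_ne_zero (algebraMap F E)).2 s0) (by rw [b2, b1]; ring)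
    have a5 := a4 d
    rw [hd, map_one] at a5
    rw [Algebra.smul_def, a4 b]
    linear_combination -b * a5
  have hM : ∀ k ∈ Ψ.O, Algebra.norm F (LinearMap.det k.toLinearMap) = 1 → k.restrictScalars F ∈ H :=
    fun k hk e => h1 ⟨mem_Tg_of_semi fun y => ⟨y, k.map_smul y⟩, h.mem_E hk e⟩
  by_contra h3
  have hO := E_le_O (h2 hg)
  obtain ⟨s, hs⟩ := h.semi hM (h2.trans E_le_O) h3 hu h0 hg
  obtain ⟨t, ht⟩ := h.semi hM (h2.trans E_le_O) h3 hf.right.1 hf.right_ne hg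
  have a1 : ∀ a, t⁻¹ (s a * Ψ.B (g u) (g f)) = a := fun a => tr_ext (F := F) fun b => by
    have := hO.1 (τ a • u) (b • f)
    rw [hs, ht, h.B_smul, h.B_smul, B_smul_right, B_smul_right, ← h.iv.comm, h.invol,
      hf.one] at this
    rw [← tr_gal t, map_mul t, ← AlgEquiv.mul_apply, mul_inv_cancel, AlgEquiv.one_apply]
    convert this using 2 <;> ring
  have a2 : ∀ a, s a = t a := fun a => by
    have a3 := a1 1
    have a4 := a1 a
    rw [map_one, one_mul] at a3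
    rw [map_mul, a3, mul_one] at a4
    exact t.symm_apply_eq.1 a4
  refine hg' ⟨mem_Tg_of_semi fun y => ⟨s y, fun v => ?_⟩, h2 hg⟩
  obtain ⟨a, b, rfl⟩ := h.span hf v
  simp [smul_smul, hs, ht, a2]

end Ux

omit [FiniteDimensional F E] [Finite E] in
theorem isMaximalIn_ux (hF : Fintype.card F = q ^ 2) {n r : ℕ} (hr : r.Prime) (h5 : 3 ≤ r) (hq : 3 ≤ q)
    (hn : n = r * 2) {K : Subalgebra F (Matrix (Fin n) (Fin n) F)} (hK : IsFieldSubalgebra r K)
    (hac : IsAdjointClosedFor (hermForm n F q) K) : IsMaximalIn (GU n F q ⊓ specialLinear (Fin n) F)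
      (subalgebraNormalizer K ⊓ (GU n F q ⊓ specialLinear (Fin n) F)) := by
  have : Nonempty (Fin n) := ⟨⟨0, by omega⟩⟩
  letI := (As.IsFieldSubalgebra.isField hK).toField
  have : Finite K := Subtype.finite
  have hs := hs_hu hF (n := n) (by omega)
  obtain ⟨τ, h⟩ := exists_adjE hs.nd hK fun k hk => (hac k hk).imp fun k' e => ⟨e.1, fun u v => by
    rw [hs.sy, hs.sy (Matrix.mulVec k' v)]; exact congrArg _ (e.2 u v)⟩
  have h1 := finrank_mul_finrank F K (Fin n → F)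
  rw [hK.finrank_eq, finrank_fintype_fun_eq_card, Fintype.card_fin] at h1
  obtain ⟨t, ht⟩ := exists_add_conj_eq_one hs.ne hs.inv
  obtain ⟨Ψ, h2, h6⟩ := h.exists_lift (.inl ⟨algebraMap F K t, by
    rw [h.alg, ← map_add, ht, map_one]⟩)
  have h3 := fun g => mem_SU_iff_E (g := g) hF (n := n) (by omega)
  exact isMaximalIn_of_iff (glE _ F) (Ux.isMaximalIn ⟨h2, hs, h6, hK.finrank_eq ▸ hr,
    hK.finrank_eq ▸ h5, hq, Nat.eq_of_mul_eq_mul_left hr.pos (h1.trans hn)⟩) h3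
    fun g => and_congr (mem_normalizer_iff_semi.trans ⟨mem_Tg_of_semi, semi_of_Tg⟩) (h3 g)

end H23.Uf.Cub
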