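import Cfsg.Agent.H23.Ut1

/-! Stabilisers of small non-degenerate subspaces in unitary groups. -/

set_option autoImplicit false

namespace H23.Uf

open Module H22 Cfsg Cfsg.Geo Form Finset

variable {F V : Type*} [Field F] {σ : F →+* F} [AddCommGroup V] [Module F V] [Fintype F] {q : ℕ}

theorem UD.E_le_of_tv3 {ι : Type*} [Fintype ι] {Φ : Form σ V} {D : ι → Submodule F V}
    {π : ι → V →ₗ[F] V} (h : UD Φ q D π) {H : Subgroup (V ≃ₗ[F] V)} {v : V} {i j : ι}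
    (hH : H ≤ Φ.O) (hM : ∀ g ∈ Φ.E, (∀ i, g ∈ stabL (D i)) → g ∈ H)
    (hP : ∀ i j l, j ≠ i → l ≠ i → j ≠ l →
      ∃ g ∈ H, (∀ x ∈ D i, g x = x) ∧ (D j).map g.toLinearMap = D l)
    (hb : 3 ≤ finrank F (D i)) (hij : i ≠ j) (hv : Φ.B v v = 0)
    (h1 : Φ.AIn H v 0) (hi : π i v ≠ 0) (hj : π j v ≠ 0) : Φ.E ≤ H := by
  have := h.fd
  by_cases e : Φ.B (π i v) (π i v) = 0
  · exact h.E_le_of_iso hH hM hP (Or.inr hb) hij hv h1 hi hj e
  have a0 := finrank_inf_perp_single (h.mem i v) e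
  obtain ⟨a, ⟨a1, a2⟩, a3, a4⟩ := exists_sing_of_herm (Φ := Φ) h.ne h.ε
    (T := D i ⊓ Φ.perp (F ∙ π i v)) (by omega)
  replace a2 := Φ.B_eq_zero_symm (Φ.mem_perp_span_singleton.1 a2)
  obtain ⟨s, hs⟩ := exists_eichData a4 a2
  obtain ⟨g, b1, b2⟩ := (h.aIn_in hM a1 (h.mem i v) a2).2 s hs
  rw [h.B_right a1] at a2
  rw [h.B_right (h.mem i v)] at e
  exact h.E_le_of_add hH hM hP hij (a := Φ.B (π i v) v • a) ((D i).smul_mem _ a1)
    (h.sing (by simp [a4.1])) (smul_ne_zero e a3) hv (by simp [B_smul_left, a2]) h1 b1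
    (by simp [b2, eichler_apply, a2]) hj

theorem HS.isMaximalIn_nondeg2 {Φ : Form σ V} (h : HS Φ q) {W : Submodule F V}
    (hW : Disjoint W (Φ.perp W)) (h3 : 2 ≤ finrank F W) (hd : 2 * finrank F W < finrank F V) :
    IsMaximalIn Φ.E (stabL W ⊓ Φ.E) := by
  have := h.fd
  have h1 := h.nd.finrank_perp_add W
  have hc := h.nd.isCompl_perp hW
  obtain ⟨π, hπ⟩ := exists_prj (D := ![W, Φ.perp W]) (by
    rw [iSupIndep_pair Fin.zero_ne_one (by decide)]; exact hW) (by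
    rw [eq_top_iff, ← hc.sup_eq_top]; exact sup_le (le_iSup ![W, _] 0) (le_iSup ![W, _] 1))
  have hb : 3 ≤ finrank F (![W, Φ.perp W] 1) := by
    change 3 ≤ finrank F (Φ.perp W); omega
  have hU : UD Φ q ![W, Φ.perp W] π := ⟨h, ⟨hπ, Fin.forall_fin_two.2 ⟨Fin.forall_fin_two.2
    ⟨by simp, fun _ x hx y hy => hy x hx⟩, Fin.forall_fin_two.2
    ⟨fun _ x hx y hy => Φ.B_eq_zero_symm (hx y hy), by simp⟩⟩⟩,
    Fin.forall_fin_two.2 ⟨h3, hb.trans' (by omega)⟩⟩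
  refine isMaximalIn_of inf_le_right ?_ fun H hM hH g hg hgM => by_contra fun hN => hgM ?_
  · obtain ⟨g, a1, x, a2, a3⟩ := hU.exists_out Fin.zero_ne_one
    exact ⟨g, a1, fun e => a3 0 (apply_mem_of_mem_stabL e.1 a2)⟩
  have hM' : ∀ g ∈ Φ.E, (∀ i, g ∈ stabL (![W, Φ.perp W] i)) → g ∈ H :=
    fun g h1 h2 => hM ⟨h2 0, h1⟩
  have hO := E_le_O (hH hg)
  obtain ⟨j, hj⟩ := hU.exists_le (l := 1) hO fun a ha hs => by
    by_contra! e
    obtain ⟨i, j, a1, a2, a3⟩ := hU.exists_two e 0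
    have a4 : π 1 (g a) ≠ 0 ∧ π 0 (g a) ≠ 0 := by
      fin_cases i <;> fin_cases j <;> simp_all
    exact hN (hU.E_le_of_tv3 (hH.trans E_le_O) hM' (fun i j l a1 a2 a3 => by omega) hb
      (by decide) (hs.mapO hO).1
      (by simpa using (hU.aIn_in hM' ha (zero_mem _) (by simp)).conj hg hO) a4.1 a4.2)
  rw [← stabL_perp_inf h.nd]
  fin_cases j
  · have := Submodule.finrank_mono hj
    rw [LinearEquiv.finrank_map_eq] at this
    change finrank F (Φ.perp W) ≤ finrank F W at this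
    omega
  · exact ⟨mem_stabL_of_le.2 fun x hx => hj ⟨x, hx, rfl⟩, hH hg⟩

theorem HS.isMaximalIn_nondeg1 {Φ : Form σ V} (h : HS Φ q) (h5 : 5 ≤ finrank F V) {w : V}
    (hw : Φ.B w w = 1) : IsMaximalIn Φ.E (stabL (F ∙ w) ⊓ Φ.E) := by
  have := h.fd
  have w0 : w ≠ 0 := by rintro rfl; simp at hw
  have h1 := h.nd.finrank_perp_add (F ∙ w)
  rw [finrank_span_singleton w0] at h1
  have hD : ∀ {x}, x ∈ Φ.perp (F ∙ w) ↔ Φ.B w x = 0 := Φ.mem_perp_span_singleton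
  have hy : ∀ {a}, Φ.B w a = 0 → Sing Φ a → a ≠ 0 → ∃ f, Φ.B w f = 0 ∧ Hyp Φ a f :=
    fun {a} a1 a2 a3 => by
      obtain ⟨f, b1, b2⟩ := exists_hyp_mem h.nd a2 (hD.2 a1) (by
        rw [h.nd.perp_perp, Submodule.mem_span_singleton]
        rintro ⟨c, rfl⟩
        simp [hw] at a1
        simp [a1] at a3)
      exact ⟨f, hD.1 b1, b2⟩
  obtain ⟨a, a1, a2, a3⟩ := exists_sing_of_herm (Φ := Φ) h.ne h.ε (T := Φ.perp (F ∙ w)) (by omega)
  obtain ⟨f, a4, a5⟩ := hy (hD.1 a1) a3 a2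
  refine isMaximalIn_of inf_le_right ?_ fun H hM hH g hg hgM => by_contra fun hN => hgM ?_
  · obtain ⟨s, hs⟩ := exists_eichData a3 (Φ.B_eq_zero_symm (hD.1 a1))
    obtain ⟨g, hg⟩ := exists_eich h.nd hs
    refine ⟨g, Form.mem_E hs hg, fun e => ?_⟩
    obtain ⟨c, hc⟩ := Submodule.mem_span_singleton.1 (apply_mem_of_mem_stabL e.1
      (Submodule.mem_span_singleton_self w))
    simpa [hg, eichler_apply, hw, Φ.B_eq_zero_symm a4, hs.perp, a5.B_symm, h.ε] using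
      congrArg (Φ.B f) hc
  have hO := hH.trans E_le_O
  have hED : Φ.ED (Φ.perp (F ∙ w)) ≤ H := fun k hk =>
    hM ⟨ED_le_stabL_of_le_perp (by rw [h.nd.perp_perp]) hk, ED_le_E _ hk⟩
  have hA : ∀ {a e}, Φ.B w a = 0 → Φ.B w e = 0 → Φ.B a e = 0 → Φ.AIn H a e := fun b1 b2 b3 =>
    ⟨b3, fun _ hs => (eIn_ED h.nd (hD.2 b1) (hD.2 b2) hs).mono hED⟩
  have win : ∀ a e, Φ.B w a = 0 → Sing Φ a → a ≠ 0 → Φ.AIn H a e → Φ.B w e = 0 :=
    fun a e b1 b2 b3 b4 => by_contra fun b5 => by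
      obtain ⟨d, c1, c2, c3⟩ := h.exists_unit_perp h5 a w
      have b6 := h.spread (P := Φ.AIn H a) (fun _ _ => AIn.add b2) (fun _ _ => AIn.sub b2) hw
        (fun l hl e he => by
          obtain ⟨r, d1, -, d2⟩ := h.nd.exists_qrefl h.kap (d := w) (c := l - 1)
            (by simp [h.ε, hw]; linear_combination hl)
          obtain ⟨r', d3, d4, d5⟩ := h.exists_r c1 d1
          have d6 : r' * r ∈ H := hM ⟨mem_stabL_of_le.2 fun x hx => by
            obtain ⟨c, rfl⟩ := Submodule.mem_span_singleton.1 hx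
            simp only [LinearEquiv.mul_apply, d2, map_add, map_smul, d5 w c3]
            exact Submodule.smul_mem _ _ (add_mem (Submodule.mem_span_singleton_self w)
              (Submodule.smul_mem _ _ (Submodule.mem_span_singleton_self w))), d3⟩
          have d7 := he.conj d6 (hO d6)
          have d8 : Φ.B w (r' e) = Φ.B w e := by rw [← d4.1 w e, d5 w c3]
          have d9 : Φ.B a (r' e) = Φ.B a e := by rw [← d4.1 a e, d5 a c2]
          simp only [LinearEquiv.mul_apply, d2, map_add, map_smul, d5 w c3, d5 a c2, b1, mul_zero,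
            zero_smul, add_zero] at d7
          convert d7.sub b2 (hA (e := r' e - e) b1 (by simp [d8]) (by simp [d9])) using 1
          abel) b4 b5
      obtain ⟨f, c4, c5⟩ := hy b1 b2 b3
      obtain ⟨s, s0, hs⟩ := h.exists_tz
      obtain ⟨k, c6, c7⟩ := h.tv c5.right.1 (hA c4 (by simp) (by simp)) hs
      refine hN (E_le_of_qIn_of_mem h.nd b2 (qIn_iff.2 fun e he => ?_) c6 (hO c6)
        (by simp [c7, b2.1, c5.one, c5.B_symm, h.ε, s0]))
      simpa using (hA (e := e - Φ.B w e • w) b1 (by simp [hw])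
        (by simp [he, Φ.B_eq_zero_symm b1])).add b2 (b6 (Φ.B w e))
  rw [← stabL_perp_inf h.nd]
  refine ⟨mem_stabL_of_le.2 (le_of_sing_mem (U := (Φ.perp (F ∙ w)).comap g.toLinearMap) a5 a1
    (hD.2 a4) fun y hy hs => hD.2 ?_), hH hg⟩
  have b1 := (hA (hD.1 hy) (e := 0) (by simp) (by simp)).conj hg (hO hg)
  have b2 := (hs.mapO (hO hg)).1
  change Φ.B w (g y) = 0
  rw [map_zero] at b1
  generalize g y = v at b1 b2
  by_contra b3
  have b4 : Φ.B w (v - Φ.B w v • w) = 0 := by simp [hw]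
  have b5 : Φ.B (v - Φ.B w v • w) v ≠ 0 := by simp [b2, B_smul_left, b3]
  obtain ⟨a, ⟨c1, c2⟩, c3, c4⟩ := exists_sing_of_herm (Φ := Φ) h.ne h.ε
    (T := Φ.perp (F ∙ w) ⊓ Φ.perp (F ∙ v)) (by
      have := h.nd.finrank_le_inf_perp (Φ.perp (F ∙ w)) (F ∙ v)
      have := Sf.finrank_span_one_le (F := F) v
      omega)
  replace c1 := hD.1 c1
  replace c2 := Φ.B_eq_zero_symm (Φ.mem_perp_span_singleton.1 c2)
  have c5 : Φ.B a (v - Φ.B w v • w) = 0 := by simp [c2, Φ.B_eq_zero_symm c1]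
  generalize v - Φ.B w v • w = x at b4 b5 c5
  obtain ⟨s, hs⟩ := exists_eichData c4 c5
  obtain ⟨k, c6, c7⟩ := (hA c1 b4 c5).2 s hs
  obtain ⟨c, c0, c8⟩ := h.aIn_of_add (a := Φ.B x v • a) (by simp [c4.1]) b2
    (by simp [B_smul_left, c2]) (hA (by simp [c1]) (by simp) (by simp)) b1
    (by simpa [c7, eichler_apply, c2] using b1.conj c6 (hO c6))
  simpa [c0, b3] using win _ _ (by simp [c1]) (c4.smul _) (smul_ne_zero b5 c3) c8

theorem HS.isMaximalIn_nondeg' {Φ : Form σ V} (h : HS Φ q) (h5 : 5 ≤ finrank F V)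
    {W : Submodule F V} (hW : Disjoint W (Φ.perp W)) (h0 : W ≠ ⊥)
    (hd : 2 * finrank F W < finrank F V) : IsMaximalIn Φ.E (stabL W ⊓ Φ.E) := by
  have := h.fd
  by_cases h2 : 2 ≤ finrank F W
  · exact h.isMaximalIn_nondeg2 hW h2 hd
  obtain ⟨w, a1, a2⟩ := exists_herm_self_eq_one h.ne Φ h.ε hW h0
  have a3 : w ≠ 0 := by rintro rfl; simp at a2
  rw [← Submodule.eq_of_le_of_finrank_le ((Submodule.span_singleton_le_iff_mem _ _).2 a1)
    (by rw [finrank_span_singleton a3]; omega)]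
  exact h.isMaximalIn_nondeg1 h5 a2

end H23.Uf
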