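import Cfsg.Agent.H23.Uf2
import Cfsg.Agent.H23.Zd3

/-! Orthonormal frames in six-dimensional unitary spaces: odd characteristic. -/

set_option autoImplicit false

namespace H23.Uf

open Module H22 Cfsg Cfsg.Geo Form Finset Fr

variable {F V : Type*} [Field F] {σ : F →+* F} [AddCommGroup V] [Module F V]
  {ι : Type} [Fintype ι] [DecidableEq ι]

omit [Fintype ι] in
theorem card_sd {S S' : Finset ι} (h1 : #S = 2) (h2 : #S' = 2) (h3 : S ≠ S') :
    #(symmDiff S S') = 2 ∨ #(symmDiff S S') = 4 := by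
  have e1 := card_sdiff_add_card_inter S S'
  have e2 := card_sdiff_add_card_inter S' S
  have e3 := card_pos.2 (symmDiff_nonempty.2 h3)
  rw [inter_comm] at e2
  rw [symmDiff_def, sup_eq_union, card_union_of_disjoint disjoint_sdiff_sdiff] at *
  omega

theorem HF.exists_three [Fintype F] {q : ℕ} (h : HF σ q) (hq : 3 ≤ q) : ∃ x y z : F,
    (σ x * x = 1 ∧ x ≠ 1) ∧ (σ y * y = 1 ∧ y ≠ 1) ∧ (σ z * z = 1 ∧ z ≠ 1) ∧ x ≠ y ∧ x ≠ z ∧
      y ≠ z := by
  obtain ⟨x, a1, a2⟩ := h.exists_U [1] (by simp; omega)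
  obtain ⟨y, a3, a4⟩ := h.exists_U [1, x] (by simp; omega)
  obtain ⟨z, a5, a6⟩ := h.exists_U [1, x, y] (by simpa)
  simp only [List.mem_cons, List.not_mem_nil, or_false, not_or] at a2 a4 a6
  exact ⟨x, y, z, ⟨a1, a2⟩, ⟨a3, a4.1⟩, ⟨a5, a6.1⟩, Ne.symm a4.2, Ne.symm a6.2.1, Ne.symm a6.2.2⟩

namespace UF

variable [Fintype F] {Φ : Form σ V} {b : Basis ι F V} {q : ℕ} (h : UF Φ b q)
  {H : Subgroup (V ≃ₗ[F] V)} {x y z v r : V} {i j k l : ι} {g t : V ≃ₗ[F] V}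
include h

variable (hn : 6 ≤ Fintype.card ι)
include hn

theorem mem_E6 : g ∈ Φ.E ↔ g ∈ Φ.O ∧ LinearMap.det g.toLinearMap = 1 := by
  have := b.finiteDimensional_of_finite
  rw [E_herm h.ne h.nd h.ε (by rw [finrank_eq_card_basis b]; omega), Subgroup.mem_inf, mem_SLv]

theorem exists_perm6 (hij : i ≠ j) (hkl : k ≠ l) : ∃ m ∈ Mb F b ⊓ Φ.E,
    ∀ p, m (b p) = b (Equiv.swap k l (Equiv.swap i j p)) := by
  obtain ⟨g, a1, a2, a3⟩ := h.exists_swap hij
  obtain ⟨g', a4, a5, a6⟩ := h.exists_swap hkl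
  exact ⟨g' * g, ⟨mul_mem a4.1 a1.1, (h.mem_E6 hn).2 ⟨mul_mem a4.2 a1.2, by simp [a2, a5]⟩⟩,
    fun p => h.ext fun r => by simp [a3, a6, h.orth, Equiv.swap_apply_eq_iff]⟩

theorem exists_dd6 (hik : i ≠ k) (hil : i ≠ l) (hkl : k ≠ l) {x y z : F} (hx : σ x * x = 1)
    (hy : σ y * y = 1) (hz : σ z * z = 1) (e : x * y * z = 1) : ∃ m ∈ Mb F b ⊓ Φ.E, ∀ v, m v = v +
      ((x - 1) * Φ.B (b i) v) • b i + ((y - 1) * Φ.B (b k) v) • b k +
        ((z - 1) * Φ.B (b l) v) • b l := by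
  obtain ⟨g, a1, a2, a3⟩ := h.exists_r i hx
  obtain ⟨g', a4, a5, a6⟩ := h.exists_r k hy
  obtain ⟨g'', a7, a8, a9⟩ := h.exists_r l hz
  exact ⟨g'' * g' * g, ⟨mul_mem (mul_mem a7.1 a4.1) a1.1, (h.mem_E6 hn).2
    ⟨mul_mem (mul_mem a7.2 a4.2) a1.2, by simp [a2, a5, a8]; linear_combination e⟩⟩,
    fun v => by simp [a3, a6, a9, h.orth, hik.symm, hil.symm, hkl.symm]⟩

variable (hM : Mb F b ⊓ Φ.E ≤ H) (hH : H ≤ Φ.E) (hne : ¬ Φ.E ≤ H)
include hM hH hne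

theorem st6 (hg : g ∈ H) (hij : g (b i) ∈ F ∙ b j) : g ∈ Mb F b := by
  have := b.finiteDimensional_of_finite
  have hO := E_le_O (hH hg)
  have a1 : ∀ s ∈ h.RR i, s ∈ Mb F b ⊓ Φ.O ∧ (LinearMap.det s.toLinearMap = 1 → s = 1) :=
    fun s ⟨l, b1, b2⟩ => by
      obtain ⟨r, b3, b4, b5⟩ := h.exists_r i b1
      obtain rfl : s = r := LinearEquiv.ext fun v => by rw [b2, b5]
      exact ⟨b3, fun e => LinearEquiv.ext fun v => by simp [b2, ← b4, e]⟩
  have a2 : ∀ m ∈ Mb F b ⊓ Φ.O, m ∈ SLv F V → m ∈ H := fun m hm e =>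
    hM ⟨hm.1, (h.mem_E6 hn).2 ⟨hm.2, mem_SLv.1 e⟩⟩
  by_contra hc
  have := h.E_le_of_notMem (K := KR H (h.RR i) ⊓ Φ.O) inf_le_right (fun m hm => by
    have b1 := h.nd.det_mul_σ_det_of_mem hm.2
    obtain ⟨r, b3, b4, b5⟩ := h.exists_r i (l := σ (LinearMap.det m.toLinearMap)) (by rwa [h.inv])
    exact ⟨⟨r, ⟨_, by rwa [h.inv], b5⟩, fun s hs => a2 _ (mul_mem (mul_mem (a1 s hs).1
      (mul_mem hm b3)) (inv_mem (a1 s hs).1)) (SLv_normal.conj_mem _ (mem_SLv.2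
      (by simp [b4, b1])) s)⟩, hm.2⟩) (by omega) ⟨⟨1, one_mem _, fun s hs => by
        obtain ⟨a, ha⟩ := Submodule.mem_span_singleton.1 hij
        obtain ⟨l, -, b2⟩ := inv_mem hs
        have b3 : g * s⁻¹ * g⁻¹ ∈ Mb F b := mem_dec fun p => ⟨p, h.mem_span fun r hr => by
          rw [LinearEquiv.mul_apply, LinearEquiv.mul_apply, b2, ← B_O_left hO]
          by_cases e : j = p <;> simp [← ha, h.orth, hr, e, B_smul_left]⟩
        simpa [mul_assoc] using mul_mem (a2 _ (mul_mem (a1 s hs).1 ⟨b3, Φ.O.mul_mem (Φ.O.mul_mem hO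
          (Φ.O.inv_mem (a1 s hs).1.2)) (Φ.O.inv_mem hO)⟩) (MonoidHom.mem_ker.2 (by
            simp [mul_comm (LinearEquiv.det g)]))) hg⟩, hO⟩ hc
  refine hne fun k hk => ?_
  obtain ⟨r, b1, b2⟩ := (this hk).1
  have b3 := b2 1 (one_mem _)
  simp only [one_mul, inv_one, mul_one] at b3
  have b4 := (a1 r b1).2 ((h.mem_E6 hn).1 ((Subgroup.mul_mem_cancel_left _ hk).1 (hH b3))).2
  simpa [b4] using b3

theorem tor6 (hg : g ∈ H) (hik : i ≠ k) (hil : i ≠ l) (hkl : k ≠ l) (h1 : Φ.B (b i) (g (b j)) = 0)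
    (h2 : Φ.B (b k) (g (b j)) = 0) (h3 : Φ.B (b l) (g (b j)) = 0) {m p : ι}
    (h4 : Φ.B (b i) (g (b m)) ≠ 0) (hi : p ≠ i) (hk : p ≠ k) (hl : p ≠ l) :
    Φ.B (b p) (g (b m)) = 0 := by
  have hO := E_le_O (hH hg)
  by_contra h5
  have key : ∀ x y : F, σ x * x = 1 → σ y * y = 1 → x ≠ 1 →
      (σ (Φ.B (b k) (g (b m))) * Φ.B (b k) (g (b m))) * y ^ 2 +
      (1 + (x - 1) * (σ (Φ.B (b i) (g (b m))) * Φ.B (b i) (g (b m))) -
        σ (Φ.B (b k) (g (b m))) * Φ.B (b k) (g (b m)) -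
        σ (Φ.B (b l) (g (b m))) * Φ.B (b l) (g (b m))) * y +
      σ x * (σ (Φ.B (b l) (g (b m))) * Φ.B (b l) (g (b m))) = 0 := fun x y hx hy e => by
    obtain ⟨d, a1, a2⟩ := h.exists_dd6 hn hik hil hkl hx hy (z := σ x * σ y) (by
      simp only [map_mul, h.inv]; linear_combination (σ y * y) * hx + hy) (by
      linear_combination (σ y * y) * hx + hy)
    obtain ⟨s, a, ha⟩ := exists_mb (h.st6 hn hM hH hne (mul_mem (mul_mem (inv_mem hg) (hM a1)) hg)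
      (i := j) (j := j) (by simp [a2, h1, h2, h3]))
    have a3 : d (g (b m)) = a m • g (b (s m)) := by rw [← map_smul, ← ha]; simp
    by_cases e' : m = s m
    · have a4 := congrArg (Φ.B (b p)) a3
      have a5 := congrArg (Φ.B (b i)) a3
      simp [a2, ← e', h.orth, hi, hk, hl, h5] at a4
      simp [a2, ← e', h.orth, hik, hil, a4, h4, sub_eq_zero, e] at a5
    have a4 := congrArg (Φ.B (g (b m))) a3
    simp only [a2, map_add, map_smul, hO.1, h.orth, if_neg e', if_pos, h.sy (b _) (g _),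
      smul_eq_mul] at a4
    linear_combination y * a4 - (σ x * (σ (Φ.B (b l) (g (b m))) * Φ.B (b l) (g (b m)))) * hy
  obtain ⟨x, a1, a2⟩ := h.exists_U [1] (by simpa using h.two_le.trans' one_le_two)
  simp only [List.mem_singleton] at a2
  obtain ⟨y, a3, a4⟩ := h.exists_U [1, x] h.two_le
  simp only [List.mem_cons, List.not_mem_nil, or_false, not_or] at a4
  obtain ⟨b1, b2⟩ := quad3 a2 (Ne.symm a4.2) (Ne.symm a4.1) (key x x a1 a1 a2)
    (key x 1 a1 (by simp) a2) (key x y a1 a3 a2)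
  have b3 := (mul_eq_zero.1 b2).resolve_left (by rintro e; simp [e] at a1)
  have b4 := key x 1 a1 (by simp) a2
  have b5 := key y 1 a3 (by simp) a4.1
  rw [b1, b3] at b4 b5
  exact mul_ne_zero (sub_ne_zero.2 a4.2) (mul_ne_zero ((map_ne_zero σ).2 h4) h4)
    (by linear_combination b5 - b4)

theorem of_zero6 (hg : g ∈ H) {Z : Finset ι} (hZ : 4 ≤ #Z) (h0 : ∀ p ∈ Z, Φ.B (b p) (g (b j)) = 0) :
    g ∈ Mb F b := by
  obtain ⟨i, hi⟩ := card_pos.1 (show 0 < #Z by omega)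
  obtain ⟨m, hm⟩ : ∃ l, Φ.B (b i) (g (b l)) ≠ 0 := by
    by_contra! hc
    simpa [h.orth] using LinearMap.congr_fun
      (b.ext (f₁ := Φ.B (b i) ∘ₗ g.toLinearMap) (f₂ := 0) hc) (g⁻¹ (b i))
  refine h.st6 hn hM hH hne hg (i := m) (j := i) (h.mem_span fun p hp => ?_)
  have := pred_card_le_card_erase (s := Z.erase i) (a := p)
  have := pred_card_le_card_erase (s := Z) (a := i)
  obtain ⟨k, hk, l, hl, hkl⟩ := one_lt_card.1 (show 1 < #((Z.erase i).erase p) by omega)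
  simp only [mem_erase] at hk hl
  exact h.tor6 hn hM hH hne hg hk.2.1.symm hl.2.1.symm hkl (h0 i hi) (h0 k hk.2.2) (h0 l hl.2.2) hm hp
    hk.1.symm hl.1.symm

variable (hq : 3 ≤ q)
include hq

theorem of_two (hg : g ∈ H) (hik : i ≠ k) (h1 : Φ.B (b i) (g (b j)) = 0)
    (h2 : Φ.B (b k) (g (b j)) = 0) : g ∈ Mb F b := by
  have hO := E_le_O (hH hg)
  obtain ⟨m, hm⟩ : ∃ l, Φ.B (b i) (g (b l)) ≠ 0 := by
    by_contra! hc
    simpa [h.orth] using LinearMap.congr_fun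
      (b.ext (f₁ := Φ.B (b i) ∘ₗ g.toLinearMap) (f₂ := 0) hc) (g⁻¹ (b i))
  obtain ⟨l, hl⟩ := exists_notMem_list [i, k] (by simp; omega)
  simp only [List.mem_cons, List.not_mem_nil, or_false, not_or] at hl
  by_contra hc
  have key : ∀ x : F, σ x * x = 1 ∧ x ≠ 1 →
      (σ (Φ.B (b i) (g (b m))) * Φ.B (b i) (g (b m))) * x ^ 2 +
      (1 - σ (Φ.B (b i) (g (b m))) * Φ.B (b i) (g (b m)) -
        σ (Φ.B (b k) (g (b m))) * Φ.B (b k) (g (b m))) * x +
      σ (Φ.B (b k) (g (b m))) * Φ.B (b k) (g (b m)) = 0 := fun x ⟨hx, e⟩ => by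
    obtain ⟨d, a1, a2⟩ := h.exists_dd6 hn hik (Ne.symm hl.1) (Ne.symm hl.2) hx (y := σ x) (z := 1)
      (by rw [h.inv, mul_comm, hx]) (by simp) (by rw [mul_one, mul_comm, hx])
    obtain ⟨s, a, ha⟩ := exists_mb (h.st6 hn hM hH hne (mul_mem (mul_mem (inv_mem hg) (hM a1)) hg)
      (i := j) (j := j) (by simp [a2, h1, h2]))
    have a3 : d (g (b m)) = a m • g (b (s m)) := by rw [← map_smul, ← ha]; simp
    by_cases e' : m = s m
    · have a5 := congrArg (Φ.B (b i)) a3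
      simp [a2, ← e', h.orth, hik] at a5
      refine (hc (h.of_zero6 hn hM hH hne hg (j := m) (Z := {i, k}ᶜ) (by
        rw [card_compl, card_pair hik]; omega) fun p hp => ?_)).elim
      simp only [mem_compl, mem_insert, mem_singleton, not_or] at hp
      have a4 := congrArg (Φ.B (b p)) a3
      simp only [a2, ← e', h.orth, hp, map_add, map_smul, smul_eq_mul, if_false, mul_zero, sub_self,
        zero_mul, add_zero] at a4
      exact mul_left_cancel₀ (mul_ne_zero (sub_ne_zero.2 e) hm) (by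
        linear_combination Φ.B (b p) (g (b m)) * a5 - Φ.B (b i) (g (b m)) * a4)
    have a4 := congrArg (Φ.B (g (b m))) a3
    simp only [a2, map_add, map_smul, hO.1, h.orth, if_neg e', if_pos, h.sy (b _) (g _),
      smul_eq_mul] at a4
    linear_combination x * a4 - (σ (Φ.B (b k) (g (b m))) * Φ.B (b k) (g (b m))) * hx
  obtain ⟨x, y, z, a1, a2, a3, a4, a5, a6⟩ := h.exists_three hq
  exact mul_ne_zero ((map_ne_zero σ).2 hm) hm (quad3 a4 a5 a6 (key x a1) (key y a2) (key z a3)).1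

theorem sg_fix2 (h2 : (2 : F) ≠ 0) (hg : g ∈ H) {S : Finset ι} (hk : IsSg b S t) (hO : t ∈ Φ.O)
    (h4 : #S = 2) (h1 : g⁻¹ * t * g ∈ Mb F b) : g ∈ Mb F b := by
  obtain ⟨T, e1, e2⟩ := h.exists_fixed h1 (S.toList.map b) fun v => by
    rw [← h.expand v, map_sum, ← sum_sub_distrib]
    refine Submodule.sum_mem _ fun p _ => ?_
    rw [map_smul, ← smul_sub, hk]
    split_ifs with e
    · exact Submodule.smul_mem _ _ (sub_mem (Submodule.subset_span (by simpa using ⟨p, e, rfl⟩))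
        (neg_mem (Submodule.subset_span (by simpa using ⟨p, e, rfl⟩))))
    · simp
  have e3 : ∀ j ∈ T, ∀ p ∈ S, Φ.B (b p) (g (b j)) = 0 := fun j hj p hp => by
    have := hO.1 (b p) (g (b j))
    rw [e2 j hj, hk, if_pos hp] at this
    exact mul_left_cancel₀ h2 (by simp at this; linear_combination -this)
  simp only [List.length_map, length_toList] at e1
  obtain ⟨j, hj⟩ := card_pos.1 (show 0 < #T by omega)
  obtain ⟨i, k, hik, rfl⟩ := card_eq_two.1 h4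
  exact h.of_two hn hM hH hne hq hg hik (e3 j hj i (by simp)) (e3 j hj k (by simp))

omit hM hH hne hq in
theorem exists_sg6 (hij : i ≠ j) : ∃ d ∈ Mb F b ⊓ Φ.E, IsSg b {i, j} d := by
  obtain ⟨k, hk⟩ := exists_notMem_list [i, j] (by simp; omega)
  simp only [List.mem_cons, List.not_mem_nil, or_false, not_or] at hk
  obtain ⟨d, hdM, hd'⟩ := h.exists_dd6 hn (Ne.symm hk.1) hij hk.2 (x := -1) (y := 1) (z := -1)
    (by simp) (by simp) (by simp) (by simp)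
  refine ⟨d, hdM, fun p => ?_⟩
  by_cases e1 : p = i
  · simp [hd', h.orth, e1, hij.symm]; module
  by_cases e2 : p = j
  · simp [hd', h.orth, e2, hij]; module
  · simp [hd', h.orth, e1, e2, Ne.symm e1, Ne.symm e2]

theorem le_odd6 (h6 : Fintype.card ι = 6) (h2 : (2 : F) ≠ 0) : H ≤ Mb F b ⊓ Φ.E := by
  have := b.finiteDimensional_of_finite
  have : Finite V := Module.finite_of_finite F
  have : Finite (V ≃ₗ[F] V) := Finite.of_injective _ DFunLike.coe_injective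
  obtain ⟨S, -, h4⟩ := exists_subset_card_eq (s := (univ : Finset ι)) (n := 4)
    (by rw [card_univ]; omega)
  obtain ⟨i, j, k, l, hij, hik, hil, hjk, hjl, hkl, rfl⟩ := card_eq_four.1 h4
  obtain ⟨d, hdM, hd⟩ := h.exists_sg6 hn hij
  have fix : ∀ {S k}, IsSg b S k → k ∈ Mb F b ⊓ Φ.E → #S = 2 ∨ #S = 4 →
      ∀ g ∈ H, g⁻¹ * k * g ∈ Mb F b ⊓ Φ.E → g ∈ Mb F b ⊓ Φ.E := fun {S k} e1 e2 e3 g hg e => by
    refine ⟨e3.elim (fun e3 => h.sg_fix2 hn hM hH hne hq h2 hg e1 (E_le_O e2.2) e3 e.1)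
      fun e3 => ?_, hH hg⟩
    have a1 : LinearEquiv.neg F ∈ Mb F b := mem_dec fun p => ⟨p, by simp⟩
    refine h.sg_fix2 hn hM hH hne hq h2 hg (S := Sᶜ) (t := LinearEquiv.neg F * k) (fun p => by
      by_cases e4 : p ∈ S <;> simp [e1 p, e4]) (mul_mem ⟨by simp, fun x => by
        simp [Q_of_κ h.kap]⟩ (E_le_O e2.2)) (by rw [card_compl]; omega) ?_
    convert mul_mem a1 e.1 using 1
    ext v; simp
  have cj : ∀ m ∈ Mb F b ⊓ Φ.E, ∃ S, #S = 2 ∧ IsSg b S (m * d * m⁻¹) :=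
    fun m ⟨⟨s, e⟩, _⟩ => ⟨_, (card_map _).trans (card_pair hij),
      hd.conj fun p => (e p).le ⟨_, Submodule.mem_span_singleton_self _, rfl⟩⟩
  have cm : ∀ {x}, x ∈ Mb F b ⊓ Φ.E → ∀ m ∈ Mb F b ⊓ Φ.E, m * x * m⁻¹ ∈ Mb F b ⊓ Φ.E :=
    fun hx m hm => mul_mem (mul_mem hm hx) (inv_mem hm)
  obtain ⟨m₀, hm₀, e₀⟩ := h.exists_perm6 hn hik hjl
  have e₁ : IsSg b {k, l} (m₀ * d * m₀⁻¹) := by
    convert hd.conj (s := (Equiv.swap i k).trans (Equiv.swap j l)) (m := m₀)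
      fun p => by simp [e₀]
    simp [Equiv.swap_apply_def, hjk.symm, hkl, hij.symm, hjk]
  refine Zd.le_of' Zd.zd hM hdM hd.sq (fix hd hdM (.inl (card_pair hij))) (fun m hm e => ?_)
    fun N K hN hK hKM h1 h3 => by_contra fun hc => ?_
  · obtain ⟨S, e1, e2⟩ := cj m hm
    exact fix (hd.mul e2) (mul_mem hdM (cm hdM m hm))
      (card_sd (card_pair hij) e1 fun e' => e (e2.eq (e' ▸ hd)))
  have win : ∀ {S c}, c ∈ K → IsSg b S c → ¬ (#S = 2 ∨ #S = 4) := fun a1 a2 a3 =>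
    hc fun g hg => fix a2 (hKM a1) a3 g hg (hKM (by simpa using hK _ a1 _ (inv_mem hg)))
  obtain ⟨n, hn', e⟩ := h1 m₀ hm₀
  obtain ⟨hnM, hnN⟩ := Subgroup.mem_inf.1 hn'
  obtain ⟨s, a, ha⟩ := exists_mb hnM.1
  have a0 : ∀ p, a p ≠ 0 := fun p e => b.ne_zero p (by simpa [e] using ha p)
  have e2 := hd.conj (s := s) (m := n) fun p => by simp [ha, Submodule.smul_mem]
  have e3 : ({i, j} : Finset ι).map s.toEmbedding = {k, l} := by_contra fun e' =>
    win e (e2.mul e₁) (card_sd ((card_map _).trans (card_pair hij)) (card_pair hkl) e')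
  have e4 : ∀ p ∈ ({i, j} : Finset ι), s p ≠ i ∧ s p ≠ j := fun p hp => by
    have := e3.le (mem_map_of_mem _ hp)
    simp only [mem_insert, mem_singleton, Equiv.coe_toEmbedding] at this
    rcases this with e | e <;> simp [e, hik.symm, hil.symm, hjk.symm, hjl.symm]
  obtain ⟨c1, c2⟩ := e4 i (by simp)
  obtain ⟨c3, c4⟩ := e4 j (by simp)
  have c5 := s.injective.ne hij
  simp only [map_insert, map_singleton, Equiv.coe_toEmbedding] at e2
  clear e3 e4 e e₁ e₀ hm₀ hik hil hjk hjl hkl h4 h1 m₀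
  obtain ⟨p, hp⟩ := exists_notMem_list [i, j, s i, s j] (by simp; omega)
  obtain ⟨r, hr⟩ := exists_notMem_list [i, j, s i, s j, p] (by simp; omega)
  simp only [List.mem_cons, List.not_mem_nil, or_false, not_or] at hp hr
  obtain ⟨m₁, hm₁, e₃⟩ := h.exists_perm6 hn (Ne.symm hp.1) (Ne.symm hr.2.2.1)
  have b1 : d * (n * d * n⁻¹) ∈ N := by
    simpa [mul_assoc, inv_eq_of_mul_eq_one_right hd.sq] using mul_mem (hN _ hnN _ hdM) (inv_mem hnN)
  have b2 := mul_mem hdM (cm hdM n hnM)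
  have b3 := (hd.mul e2).mul ((hd.mul e2).conj (m := m₁)
    (s := (Equiv.swap i p).trans (Equiv.swap (s i) r)) fun p => by simp [e₃])
  have b4 := mul_mem b1 (hN _ b1 _ hm₁)
  have b5 := mul_mem b2 (cm b2 _ hm₁)
  generalize d * (n * d * n⁻¹) * (m₁ * (d * (n * d * n⁻¹)) * m₁⁻¹) = e at b3 b4 b5
  have b6 : e (b i) = -b i ∧ e (b j) = b j ∧ e (b (s i)) = -b (s i) ∧ e (b (s j)) = b (s j) := by
    simp only [b3 _, mem_symmDiff, mem_map_equiv]
    simp [Equiv.swap_apply_def, *, hij.symm, c1.symm, c2.symm,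
      c3.symm, c4.symm, c5.symm, Ne.symm hp.2.1, Ne.symm hp.2.2.1, Ne.symm hp.2.2.2,
      Ne.symm hr.1, Ne.symm hr.2.1, Ne.symm hr.2.2.2.1]
  have b7 : ∀ o, e (b o) = b o ∨ e (b o) = -b o := fun o => by rw [b3]; split_ifs <;> simp
  obtain ⟨w, d1, d2, d3⟩ := h.exists_swap hij
  obtain ⟨ρ, d4, d5, d6⟩ := h.exists_r i (l := -1) (by simp)
  have d7 : w * ρ ∈ Mb F b ⊓ Φ.E := ⟨mul_mem d1.1 d4.1, (h.mem_E6 hn).2
    ⟨mul_mem d1.2 d4.2, by simp [d2, d5]⟩⟩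
  have d8 : ∀ o, w (b o) = b (Equiv.swap i j o) := fun o => h.ext fun r => by
    simp [d3, h.orth, Equiv.swap_apply_eq_iff]
  have y1 : (w * ρ) (b i) = -b j := by simp [d6, d8, h.orth]; module
  have y2 : (w * ρ) (b j) = b i := by simp [d6, d8, h.orth, hij]
  have y3 : ∀ o, o ≠ i → o ≠ j → (w * ρ) (b o) = b o := fun o e e' => by
    simp [d6, d8, h.orth, e.symm, Equiv.swap_apply_of_ne_of_ne e e']
  generalize w * ρ = y at d7 y1 y2 y3
  have y4 : y⁻¹ (b i) = b j := y.symm_apply_eq.2 y2.symm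
  have y5 : y⁻¹ (b j) = -b i := y.symm_apply_eq.2 (by simp [y1])
  have y6 : ∀ o, o ≠ i → o ≠ j → y⁻¹ (b o) = b o := fun o e e' =>
    y.symm_apply_eq.2 (y3 o e e').symm
  have n1 : ∀ o, n⁻¹ (b (s o)) = (a o)⁻¹ • b o := fun o => n.symm_apply_eq.2 (by simp [ha, a0])
  have n2 : ∀ o, o ≠ s i → o ≠ s j → n (y (n⁻¹ (b o))) = b o := fun o e e' => by
    obtain ⟨o, rfl⟩ := s.surjective o
    rw [n1, map_smul, y3 o (by simpa using e) (by simpa using e')]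
    simp [ha, a0]
  have x0 : ∀ v, (n * (y * n⁻¹ * y⁻¹) * e) v = n (y (n⁻¹ (y⁻¹ (e v)))) := fun _ => rfl
  have x1 : (n * (y * n⁻¹ * y⁻¹) * e) (b i) = -b j := by
    rw [x0, b6.1, map_neg, y4, map_neg, map_neg, map_neg, n2 j c2.symm c4.symm]
  have x2 : (n * (y * n⁻¹ * y⁻¹) * e) (b j) = -b i := by
    rw [x0, b6.2.1, y5, map_neg, map_neg, map_neg, n2 i c1.symm c3.symm]
  have x3 : (n * (y * n⁻¹ * y⁻¹) * e) (b (s i)) = ((a i)⁻¹ * a j) • b (s j) := by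
    rw [x0, b6.2.2.1, map_neg, y6 _ c1 c2, map_neg, n1]; simp [y1, ha, smul_smul]
  have x4 : (n * (y * n⁻¹ * y⁻¹) * e) (b (s j)) = ((a j)⁻¹ * a i) • b (s i) := by
    rw [x0, b6.2.2.2, y6 _ c3 c4, n1]; simp [y2, ha, smul_smul]
  have x5 : ∀ o, o ≠ i → o ≠ j → o ≠ s i → o ≠ s j →
      (n * (y * n⁻¹ * y⁻¹) * e) (b o) = e (b o) := fun o e1 e2 e3 e4 => by
    rw [x0]
    rcases b7 o with e | e <;> simp only [e, map_neg, y6 o e1 e2, n2 o e3 e4]
  have x6 := mul_mem (mul_mem hnM (cm (inv_mem hnM) y d7)) b5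
  have x7 := mul_mem (mul_mem hnN (hN _ (inv_mem hnN) y d7)) b4
  generalize n * (y * n⁻¹ * y⁻¹) * e = x at x1 x2 x3 x4 x5 x6 x7
  obtain ⟨τ, S, f1, f2⟩ : ∃ τ S, IsSg b S τ ∧ x * τ ∈ K := by
    rcases h3 x ⟨x6, x7⟩ (b.ext' fun o => by
      by_cases e1 : o = i
      · simp [e1, x1, x2]
      by_cases e2 : o = j
      · simp [e2, x1, x2]
      by_cases e3 : o = s i
      · simp [e3, x3, x4, smul_smul]; field_simp [a0]; simp
      by_cases e4 : o = s j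
      · simp [e4, x3, x4, smul_smul]; field_simp [a0]; simp
      have := x5 o e1 e2 e3 e4
      rcases b7 o with e | e <;> simp [this, e]) with e | ⟨m, hm, e⟩
    · exact ⟨1, ∅, fun _ => by simp, by simpa⟩
    · obtain ⟨S, -, e'⟩ := cj m hm
      exact ⟨_, S, e', e⟩
  obtain ⟨s', a', ha'⟩ := exists_mb (hKM f2).1
  have f3 : ∀ {o o'} {c : F}, x (b o) = c • b o' → s' o = o' := fun {o o' c} e => by_contra fun e' => by
    have f4 := ha' o
    have f5 : a' o ≠ 0 := fun e => b.ne_zero o (by simpa [e] using f4)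
    have := congrArg (Φ.B (b (s' o))) f4
    rw [LinearEquiv.mul_apply, f1] at this
    split_ifs at this <;> simp [e, h.orth, e', f5.symm] at this
  obtain ⟨t, f4, f5⟩ := h.exists_sg6 hn c1.symm
  have f6 := (f5.conj (s := s') (m := x * τ) fun p => by simp only [ha']; simp [Submodule.smul_mem]).mul f5
  have f7 := mul_mem f2 (hK _ (inv_mem f2) _ (hM f4))
  rw [inv_eq_of_mul_eq_one_right f5.sq, ← mul_assoc, ← mul_assoc] at f7
  refine win f7 f6 (card_sd ((card_map _).trans (card_pair c1.symm))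
      (card_pair c1.symm) fun e => ?_)
  have := e.le (mem_map_of_mem _ (mem_insert_self i _))
  simp [f3 (x1.trans (neg_one_smul F _).symm), hij.symm, c2.symm] at this

end UF

end H23.Uf
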