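import Cfsg.Agent.H23.Uf2

/-! Orthogonal decompositions of hermitian spaces into blocks of dimension at least two. -/

set_option autoImplicit false

namespace H23.Uf

open Module H22 Cfsg Cfsg.Geo Form Finset

variable {F V : Type*} [Field F] {σ : F →+* F} [AddCommGroup V] [Module F V]

theorem le_of_sing_ne {Φ : Form σ V} {D U : Submodule F V} {u f : V} (h : Hyp Φ u f) (hu : u ∈ D)
    (hf : f ∈ D) (hu' : u ∈ U) (hU : ∀ x ∈ D, Sing Φ x → Φ.B u x = 1 → x ∈ U) : D ≤ U := by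
  have key : ∀ x ∈ D, Φ.B u x = 1 → x ∈ U := fun x hx h1 => by
    obtain ⟨c, hc⟩ := exists_sing_add_smul h.left h1
    simpa using U.sub_mem (hU _ (D.add_mem hx (D.smul_mem c hu)) hc (by simp [h1, h.left.1]))
      (U.smul_mem c hu')
  intro x hx
  simpa using U.sub_mem (key (x + (1 - Φ.B u x) • f) (D.add_mem hx (D.smul_mem _ hf))
    (by simp [h.one])) (U.smul_mem (1 - Φ.B u x) (hU f hf h.right h.one))

variable [Fintype F] {q : ℕ}

theorem HF.exists_fix (hf : HF σ q) (hq : 3 ≤ q) : ∃ m, σ m = m ∧ m ≠ 0 ∧ m ≠ 1 := by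
  classical
  obtain ⟨x, -, h2⟩ := exists_mem_notMem_of_card_lt_card (s := insert 0 ({x : F | σ x * x = 1} : Finset F))
    (t := univ) ((card_insert_le _ _).trans_lt (by rw [hf.cardU', card_univ, hf.card]; nlinarith))
  exact ⟨σ x * x, by simp [hf.inv, mul_comm], by simpa using (by simpa using h2 : _ ∧ _).1,
    (by simpa using h2 : _ ∧ _).2⟩

theorem HF.hilbert (hf : HF σ q) {x : F} (hx : σ x * x = 1) : ∃ m, m ≠ 0 ∧ σ m⁻¹ * m = x := by
  have key : ∀ t, t + x * σ t ≠ 0 → ∃ m, m ≠ 0 ∧ σ m⁻¹ * m = x := fun t ht =>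
    ⟨_, ht, by
      rw [map_inv₀, inv_mul_eq_iff_eq_mul₀ ((map_ne_zero σ).2 ht)]
      simp [hf.inv]; linear_combination -t * hx⟩
  obtain ⟨t, ht⟩ := DFunLike.ne_iff.1 hf.ne
  by_cases e : 1 + x * σ 1 = 0
  · exact key t fun e' => ht (by simp at e; linear_combination σ t * e - e')
  · exact key 1 e

/-- a finite hermitian space of dimension at least four -/
structure HS (Φ : Form σ V) (q : ℕ) : Prop extends HF σ q where
  ε : Φ.ε = 1
  nd : Φ.Nondeg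
  dim : 4 ≤ finrank F V

namespace HS

variable {Φ : Form σ V} (h : HS Φ q) {H : Subgroup (V ≃ₗ[F] V)} {a v w x : V} {g : V ≃ₗ[F] V}
  {s : F}
include h

theorem fd : FiniteDimensional F V := finite_of_finrank_pos (by have := h.dim; omega)

theorem kap : Φ.κ = 0 := κ_of_ne_id h.ne

theorem sy (x y : V) : Φ.B y x = σ (Φ.B x y) := by rw [Φ.symm, h.ε, one_mul]

theorem sing (hx : Φ.B x x = 0) : Sing Φ x := ⟨hx, Q_of_κ h.kap x⟩

theorem mem_E : g ∈ Φ.E ↔ g ∈ Φ.O ∧ LinearMap.det g.toLinearMap = 1 := by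
  have := h.fd
  rw [E_herm h.ne h.nd h.ε h.dim, Subgroup.mem_inf, mem_SLv]

theorem eich (ha : Φ.B a a = 0) (h1 : Φ.B a x = 0) (hs : Φ.B x x = s + σ s) : EichData Φ a x s :=
  ⟨h.sing ha, h1, by simpa [h.ε], by simp [h.kap, Q_of_κ h.kap]⟩

theorem tv (hw : Φ.B w w = 0) (h1 : Φ.AIn H w 0) (hs : s + σ s = 0) : QR Φ H w s := by
  obtain ⟨g, a1, a2⟩ := h1.2 s (h.eich hw (by simp) (by simp [hs]))
  exact ⟨g, a1, fun x => by simp [a2, eichler_apply, ← neg_eq_of_add_eq_zero_right hs]⟩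

theorem aIn_of_qr (h1 : ∀ s, s + σ s = 0 → QR Φ H w s) : Φ.AIn H w 0 :=
  ⟨by simp, fun s hs => by
    have e : s + σ s = 0 := by simpa [h.ε] using hs.trB.symm
    obtain ⟨g, a1, a2⟩ := h1 s e
    exact ⟨g, a1, fun x => by simp [a2, eichler_apply, ← neg_eq_of_add_eq_zero_right e]⟩⟩

theorem aIn_smul (hw : Φ.B w w = 0) (h1 : Φ.AIn H w 0) (c : F) : Φ.AIn H (c • w) 0 :=
  h.aIn_of_qr fun s hs => by
    obtain ⟨g, a1, a2⟩ := h.tv hw h1 (s := s * (σ c * c)) (by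
      simp only [map_mul, h.inv]; linear_combination (σ c * c) * hs)
    exact ⟨g, a1, fun x => by rw [a2, B_smul_left, smul_smul]; ring_nf⟩

theorem exists_tz : ∃ c : F, c ≠ 0 ∧ c + σ c = 0 := exists_trace_zero h.ne h.inv

theorem aIn_of_add (ha : Φ.B a a = 0) (hv : Φ.B v v = 0) (hav : Φ.B a v = 0) (h1 : Φ.AIn H a 0)
    (h2 : Φ.AIn H v 0) (h3 : Φ.AIn H (v + a) 0) : ∃ c : F, c ≠ 0 ∧ Φ.AIn H a (c • v) := by
  obtain ⟨s, s0, hs⟩ := h.exists_tz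
  have hva := Φ.B_eq_zero_symm hav
  have hs' : -s + σ (-s) = 0 := by rw [map_neg]; linear_combination -hs
  obtain ⟨g₁, a1, b1⟩ := h.tv ha h1 hs'
  obtain ⟨g₂, a2, b2⟩ := h.tv hv h2 hs'
  obtain ⟨g₃, a3, b3⟩ := h.tv (by simp [ha, hv, hav, hva]) h3 hs
  refine ⟨-s, by simpa, h1.of_eIn (s := 0) (h.eich ha (by simp [hav]) (by simp [hv]))
    ⟨g₃ * g₂ * g₁, mul_mem (mul_mem a3 a2) a1, fun x => ?_⟩⟩
  simp [b1, b2, b3, ha, hv, hav, hva, eichler_apply, B_smul_left, h.ε,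
    ← neg_eq_of_add_eq_zero_right hs]
  module

theorem aIn_sub (hH : H ≤ Φ.O) (hv : Φ.B v v = 0) (hw : Φ.B w w = 0) (h1 : Φ.AIn H v 0)
    (h2 : Φ.AIn H w 0) (h0 : Φ.B v w ≠ 0) (h3 : Φ.B v w + σ (Φ.B v w) = 0) :
    Φ.AIn H (w - v) 0 := by
  obtain ⟨g, a1, a2⟩ := h.tv hv h1 (s := -(Φ.B v w)⁻¹) (by
    rw [map_neg, map_inv₀, ← neg_eq_of_add_eq_zero_right h3]; simp)
  simpa [a2, h0, sub_eq_add_neg] using h2.conj a1 (hH a1)

theorem exists_hd {f : V} (hf : Hyp Φ a f) {m : F} (hm : m ≠ 0) : ∃ g ∈ Φ.O,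
    LinearMap.det g.toLinearMap = m * (σ m)⁻¹ ∧ g a = m • a ∧
      ∀ x, Φ.B a x = 0 → Φ.B f x = 0 → g x = x := by
  have := h.fd
  obtain ⟨g, a1, a2⟩ := h.nd.exists_hdiag hf (a := m) (b := (σ m)⁻¹) (mul_inv_cancel₀ (by simpa))
  exact ⟨g.1, g.2, a1, by rw [a2, hdiag_left hf], fun x e e' => by rw [a2, hdiag_perp _ _ e e']⟩

theorem exists_r (hx : Φ.B x x = 1) (hg : g ∈ Φ.O) : ∃ r, r * g ∈ Φ.E ∧ r ∈ Φ.O ∧
    ∀ y, Φ.B x y = 0 → r y = y := by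
  have := h.fd
  have a0 := h.nd.det_mul_σ_det_of_mem hg
  obtain ⟨r, a1, a2, a3⟩ := h.nd.exists_qrefl h.kap (d := x)
    (c := σ (LinearMap.det g.toLinearMap) - 1) (by simp [h.ε, hx, h.inv]; linear_combination a0)
  exact ⟨r, h.mem_E.2 ⟨mul_mem a1 hg, by rw [det_mul_equiv, a2, hx]; linear_combination a0⟩, a1,
    fun y hy => by simp [a3, hy]⟩

theorem exists_map {W U : Submodule F V} (hW : Disjoint W (Φ.perp W)) (hU : Disjoint U (Φ.perp U))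
    (hd : finrank F W = finrank F U) : ∃ g ∈ Φ.O, W.map g.toLinearMap = U := by
  have := h.fd
  obtain ⟨b, h1⟩ := exists_orthonormal_basis_herm h.ne (Φ := Φ.restrict W) h.ε
    (Φ.nondeg_restrict_iff.2 hW) hd
  obtain ⟨c, h2⟩ := exists_orthonormal_basis_herm h.ne (Φ := Φ.restrict U) h.ε
    (Φ.nondeg_restrict_iff.2 hU) rfl
  exact h.nd.exists_map_of_basis b c (fun i j => (h1 i j).trans (h2 i j).symm) fun i => by
    rw [Q_of_κ h.kap, Q_of_κ h.kap]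

end HS

variable {ι : Type*} [Fintype ι]

/-- an orthogonal decomposition into blocks of dimension at least two -/
structure UD (Φ : Form σ V) (q : ℕ) (D : ι → Submodule F V) (π : ι → V →ₗ[F] V) : Prop
    extends HS Φ q, ODec Φ D π where
  two : ∀ i, 2 ≤ finrank F (D i)

namespace UD

variable {Φ : Form σ V} {D : ι → Submodule F V} {π : ι → V →ₗ[F] V} (h : UD Φ q D π)
  {H : Subgroup (V ≃ₗ[F] V)} {a e v w x : V} {g : V ≃ₗ[F] V} {i j l : ι} {c : F}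
include h

theorem dj (i : ι) : Disjoint (D i) (Φ.perp (D i)) := h.toODec.disjoint h.nd i

theorem perp (hij : i ≠ j) (hx : x ∈ D j) : x ∈ Φ.perp (D i) := fun y hy => h.orth i j hij y hy x hx

theorem stab (hg : g ∈ Φ.O) (h1 : ∀ x ∈ Φ.perp (D i), g x = x) (j : ι) : g ∈ stabL (D j) := by
  have := h.fd
  refine mem_stabL_of_le.2 fun x hx => ?_
  by_cases e : i = j
  · exact e ▸ h.nd.apply_mem_of_fix_perp hg h1 (e ▸ hx)
  · rwa [h1 x (h.perp e hx)]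

theorem exists_sing (i : ι) : ∃ a ∈ D i, a ≠ 0 ∧ Sing Φ a :=
  haveI := h.fd; exists_sing_of_herm h.ne h.ε (h.two i)

theorem exists_hyp (ha : a ∈ D i) (hs : Sing Φ a) (h0 : a ≠ 0) : ∃ f ∈ D i, Hyp Φ a f :=
  haveI := h.fd; exists_hyp_mem h.nd hs ha fun e => h0 (Submodule.disjoint_def.1 (h.dj i) _ ha e)

theorem exists_ne (hx : π i x ≠ 0) : ∃ w ∈ D i, Sing Φ w ∧ Φ.B w x ≠ 0 := by
  obtain ⟨a, a1, a2, a3⟩ := h.exists_sing i
  obtain ⟨f, a4, a5⟩ := h.exists_hyp a1 a3 a2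
  by_contra! e
  exact hx (h.eq_zero_of_perp h.nd (Φ.le_perp_comm.1 (le_of_sing_mem (U := Φ.perp (F ∙ x)) a5 a1 a4
    fun y hy hs => Φ.mem_perp_span_singleton.2 (Φ.B_eq_zero_symm (e y hy hs)))
      (Submodule.mem_span_singleton_self x)))

theorem exists_le (hg : g ∈ Φ.O) (h1 : ∀ a ∈ D l, Sing Φ a → ∃ j, g a ∈ D j) :
    ∃ j, (D l).map g.toLinearMap ≤ D j := by
  obtain ⟨a, a1, a2, a3⟩ := h.exists_sing l
  obtain ⟨f, a4, a5⟩ := h.exists_hyp a1 a3 a2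
  obtain ⟨j, hj⟩ := h1 a a1 a3
  refine ⟨j, Submodule.map_le_iff_le_comap.2 (le_of_sing_ne a5 a1 a4 hj fun x hx hs e => ?_)⟩
  obtain ⟨k, hk⟩ := h1 x hx hs
  by_cases e' : j = k
  · exact e' ▸ hk
  simpa [hg.1, e] using h.orth j k e' _ hj _ hk

theorem exists_two (hx : ∀ j, x ∉ D j) (l : ι) : ∃ i j, i ≠ j ∧ π i x ≠ 0 ∧ π j x ≠ 0 := by
  obtain ⟨j, -, hj⟩ : ∃ j, j ≠ l ∧ π j x ≠ 0 := by
    by_contra! hc
    exact hx l (h.mem_of hc)
  obtain ⟨i, hij, hi⟩ : ∃ i, i ≠ j ∧ π i x ≠ 0 := by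
    by_contra! hc
    exact hx j (h.mem_of hc)
  exact ⟨i, j, hij, hi, hj⟩

theorem exists_out (hij : i ≠ j) : ∃ g ∈ Φ.E, ∃ x ∈ D i, ∀ l, g x ∉ D l := by
  have := h.fd
  obtain ⟨a, a1, a2, a3⟩ := h.exists_sing i
  obtain ⟨b, b1, b2, b3⟩ := h.exists_sing j
  obtain ⟨f, a4, a5⟩ := h.exists_hyp a1 a3 a2
  obtain ⟨s, s0, hs⟩ := h.exists_tz
  have e1 := h.orth i j hij a a1 b b1
  have e2 : Φ.B (a + b) (a + b) = 0 := by simp [a3.1, b3.1, e1, Φ.B_eq_zero_symm e1]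
  obtain ⟨g, c1, c2, c3⟩ := h.nd.exists_qrefl h.kap (d := a + b) (c := s) (by simp [h.ε, hs, e2, -map_add])
  refine ⟨g, h.mem_E.2 ⟨c1, by simp [c2, e2, -map_add]⟩, f, a4, fun l hl => ?_⟩
  rw [c3, map_add, LinearMap.add_apply, a5.one, h.orth j i hij.symm b b1 f a4] at hl
  by_cases e : l = i
  · simpa [h.zero j i hij.symm _ a4, h.zero j i hij.symm _ a1, h.self j b b1, s0, b2] using
      h.zero j l (e ▸ hij.symm) _ hl
  · simpa [a5.one, a3.1, e1] using h.orth i l (Ne.symm e) a a1 _ hl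

theorem exists_unit (h3 : 3 ≤ finrank F (D i)) {f : V} (ha : a ∈ D i) (hf : f ∈ D i)
    (hh : Hyp Φ a f) : ∃ d ∈ D i, Φ.B d d = 1 ∧ Φ.B d a = 0 := by
  have := h.fd
  obtain ⟨t, ht⟩ := exists_add_conj_eq_one h.ne h.inv
  have e0 : Φ.B f a = 1 := by rw [hh.B_symm, h.ε]
  have a1 : a + t • f ∈ D i := add_mem ha ((D i).smul_mem _ hf)
  have a2 : Φ.B (a + t • f) (a + t • f) ≠ 0 := by
    simp [B_smul_left, hh.left.1, hh.right.1, hh.one, e0, ht]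
  have a3 : a - σ t • f ∈ D i ⊓ Φ.perp (F ∙ (a + t • f)) := ⟨sub_mem ha ((D i).smul_mem _ hf),
    Φ.mem_perp_span_singleton.2 (by simp [B_smul_left, hh.left.1, hh.right.1, hh.one, e0])⟩
  have a4 : Φ.B (a - σ t • f) (a - σ t • f) ≠ 0 := by
    simp [B_smul_left, hh.left.1, hh.right.1, hh.one, e0, h.inv]
    exact fun e => one_ne_zero (by linear_combination -ht - e)
  have a5 := finrank_inf_perp_single a1 a2
  have a6 := finrank_inf_perp_single a3 a4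
  obtain ⟨d, ⟨⟨b1, b2⟩, b3⟩, b4⟩ := exists_herm_self_eq_one h.ne Φ h.ε (disjoint_inf_perp_single
    (disjoint_inf_perp_single (h.dj i) a1 a2) a3 a4) fun e => by rw [e, finrank_bot] at a6; omega
  simp only [SetLike.mem_coe, mem_perp_span_singleton, map_add, map_sub, LinearMap.add_apply,
    LinearMap.sub_apply, B_smul_left, h.inv] at b2 b3
  exact ⟨d, b1, b4, Φ.B_eq_zero_symm (by linear_combination t * b2 + σ t * b3 - Φ.B a d * ht)⟩

variable (hH : H ≤ Φ.O) (hM : ∀ g ∈ Φ.E, (∀ i, g ∈ stabL (D i)) → g ∈ H)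
include hM

theorem ED_le (i : ι) : Φ.ED (D i) ≤ H := fun _ hg =>
  hM _ (ED_le_E _ hg) (h.stab (ED_le_O _ hg) fun _ => ED_fix hg)

theorem aIn_in (ha : a ∈ D i) (he : e ∈ D i) (h1 : Φ.B a e = 0) : Φ.AIn H a e :=
  haveI := h.fd; ⟨h1, fun _ hs => (eIn_ED h.nd ha he hs).mono (h.ED_le hM i)⟩

theorem qr (ha : a ∈ D i) (hs : Sing Φ a) (hc : c + σ c = 0) : QR Φ H a c :=
  h.tv hs.1 (h.aIn_in hM ha (zero_mem _) (by simp)) hc

theorem exists_scale (hb : 3 ≤ q ∨ 3 ≤ finrank F (D i)) (ha : a ∈ D i) (hs : Sing Φ a) (h0 : a ≠ 0) :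
    ∃ m : F, m ≠ 1 ∧ ∃ g ∈ H, g a = m • a ∧ ∀ x ∈ Φ.perp (D i), g x = x := by
  obtain ⟨f, a1, a2⟩ := h.exists_hyp ha hs h0
  rcases hb with hb | hb
  · obtain ⟨m, b1, b2, b3⟩ := h.exists_fix hb
    obtain ⟨g, c1, c2, c3, c4⟩ := h.exists_hd a2 b2
    have c5 : ∀ x ∈ Φ.perp (D i), g x = x := fun x hx => c4 x (hx a ha) (hx f a1)
    exact ⟨m, b3, g, hM g (h.mem_E.2 ⟨c1, by simp [c2, b1, b2]⟩) (h.stab c1 c5), c3, c5⟩
  obtain ⟨m, b1, b2⟩ := h.exists_U [1] (by simpa using h.two_le.trans' one_le_two)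
  obtain ⟨g, c1, -, c3, c4⟩ := h.exists_hd a2 (m := m) (by rintro rfl; simp at b1)
  obtain ⟨d, d1, d2, d3⟩ := h.exists_unit hb ha a1 a2
  obtain ⟨r, d4, d5, d6⟩ := h.exists_r d2 c1
  have c5 : ∀ x ∈ Φ.perp (D i), (r * g) x = x := fun x hx => by
    simp [c4 x (hx a ha) (hx f a1), d6 x (hx d d1)]
  exact ⟨m, by simpa using b2, r * g, hM _ d4 (h.stab (E_le_O d4) c5), by simp [c3, d6 a d3], c5⟩

include hH

theorem aIn_line (hij : i ≠ j) (ha : a ∈ D i) (hs : Sing Φ a) (h0 : a ≠ 0) (hw : w ∈ D j)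
    (hs' : Sing Φ w) (h0' : w ≠ 0) (hc : c ≠ 0) (h1 : Φ.AIn H a (c • w)) (c' : F) :
    Φ.AIn H a (c' • w) := by
  obtain ⟨f, a1, a2⟩ := h.exists_hyp ha hs h0
  obtain ⟨f', a3, a4⟩ := h.exists_hyp hw hs' h0'
  have key : ∀ x, σ x * x = 1 → Φ.AIn H a ((x * c) • w) := fun x hx => by
    obtain ⟨m, m0, rfl⟩ := h.hilbert hx
    obtain ⟨g, c1, c2, c3, c4⟩ := h.exists_hd a2 (inv_ne_zero m0)
    obtain ⟨g', c5, c6, c7, c8⟩ := h.exists_hd a4 m0
    have c9 : g * g' ∈ Φ.E := h.mem_E.2 ⟨mul_mem c1 c5, by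
      have : σ m ≠ 0 := by simpa
      rw [det_mul_equiv, c2, c6, map_inv₀]; field_simp⟩
    have := h1.conj (hM _ c9 fun k => mul_mem (h.stab c1 (fun x hx => c4 x (hx a ha) (hx f a1)) k)
      (h.stab c5 (fun x hx => c8 x (hx w hw) (hx f' a3)) k)) (E_le_O c9)
    simp only [LinearEquiv.mul_apply, map_smul, c7, c8 a (h.orth j i hij.symm w hw a ha)
      (h.orth j i hij.symm f' a3 a ha), c3, c4 w (h.orth i j hij a ha w hw)
      (h.orth i j hij f a1 w hw)] at this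
    convert this.of_smul_left (inv_ne_zero m0) using 1
    module
  obtain ⟨x, y, z, t, b1, b2, b3, b4, b5⟩ := h.four (map_one σ) (map_one σ) (map_one σ) (map_one σ)
    one_ne_zero one_ne_zero one_ne_zero one_ne_zero (c' / c)
  convert ((key x b1).add hs (key y b2)).add hs ((key z b3).add hs (key t b4)) using 1
  rw [← add_smul, ← add_smul, ← add_smul, ← div_mul_cancel₀ c' hc, ← b5]
  ring_nf

theorem aIn_block (hij : i ≠ j) (ha : a ∈ D i) (hs : Sing Φ a) (h0 : a ≠ 0) (he : Φ.AIn H a e)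
    (h1 : π j e ≠ 0) (hx : x ∈ D j) : Φ.AIn H a x := by
  have := h.fd
  let A : Submodule F V :=
    { carrier := {e | ∀ c : F, Φ.AIn H a (c • e)}
      add_mem' := fun ha hb c => by rw [smul_add]; exact (ha c).add hs (hb c)
      zero_mem' := fun c => by simpa using he.zero hs
      smul_mem' := fun a _ ha c => by rw [smul_smul]; exact ha _ }
  obtain ⟨w, a1, a2, a3⟩ := h.exists_ne h1
  have w0 : w ≠ 0 := by rintro rfl; simp at a3
  obtain ⟨s, s0, hs'⟩ := h.exists_tz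
  obtain ⟨g, a4, a5⟩ := h.qr hM a1 a2 hs'
  have a6 := (he.conj a4 (hH a4))
  simp only [a5, h.orth j i hij.symm w a1 a ha, mul_zero, zero_smul, add_zero] at a6
  have a7 : w ∈ A := h.aIn_line hH hM hij ha hs h0 a1 a2 w0 (mul_ne_zero s0 a3)
    (by simpa using a6.sub hs he)
  have a8 := irr_of_hasTv h.nd (hasTv_herm h.ne h.ε) (h.dj j) (fun _ => h.exists_sing j)
    (S := A ⊓ D j) inf_le_right (fun e => w0 (by simpa [e] using Submodule.mem_inf.2 ⟨a7, a1⟩))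
    fun k hk y hy => ⟨fun c => by
      simpa [ED_fix hk (h.perp hij.symm ha)] using (hy.1 c).conj (h.ED_le hM j hk) (ED_le_O _ hk),
      apply_mem_of_mem_stabL (ED_le_stabL le_rfl hk) hy.2⟩
  simpa using (a8.ge hx).1 1

variable (hP : ∀ i j l, j ≠ i → l ≠ i → j ≠ l →
  ∃ g ∈ H, (∀ x ∈ D i, g x = x) ∧ (D j).map g.toLinearMap = D l)
include hP

theorem E_le_of_aIn (hij : i ≠ j) (ha : a ∈ D i) (hs : Sing Φ a) (h0 : a ≠ 0) (he : Φ.AIn H a e)
    (h1 : π j e ≠ 0) : Φ.E ≤ H := by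
  classical
  have := h.fd
  obtain ⟨f, a1, a2⟩ := h.exists_hyp ha hs h0
  obtain ⟨s, s0, hs'⟩ := h.exists_tz
  obtain ⟨g, a4, a5⟩ := h.qr hM a1 a2.right hs'
  refine E_le_of_qIn_of_mem h.nd hs (qIn_iff.2 fun y hy => ?_) a4 (hH a4)
    (by simp [a5, hs.1, a2.one, a2.B_symm, s0, h.ε])
  rw [← h.sum y]
  refine sum_induction _ _ (fun _ _ => AIn.add hs) (he.zero hs) fun l _ => ?_
  by_cases e1 : l = i
  · exact h.aIn_in hM ha (e1 ▸ h.mem l y) (by rwa [e1, h.B_right ha])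
  by_cases e2 : j = l
  · exact h.aIn_block hH hM hij ha hs h0 he h1 (e2 ▸ h.mem l y)
  obtain ⟨k, b1, b2, b3⟩ := hP i j l hij.symm e1 e2
  obtain ⟨z, b4, b5⟩ := b3.ge (h.mem l y)
  simpa [b2 a ha, ← b5] using (h.aIn_block hH hM hij ha hs h0 he h1 b4).conj b1 (hH b1)

theorem E_le_of_add (hij : i ≠ j) (ha : a ∈ D i) (hs : Sing Φ a) (h0 : a ≠ 0) (hv : Φ.B v v = 0)
    (hav : Φ.B a v = 0) (h1 : Φ.AIn H v 0) (hg : g ∈ H) (h2 : g v = v + a) (h3 : π j v ≠ 0) :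
    Φ.E ≤ H := by
  obtain ⟨c, c0, hc⟩ := h.aIn_of_add hs.1 hv hav (h.aIn_in hM ha (zero_mem _) (by simp)) h1
    (by simpa [h2] using h1.conj hg (hH hg))
  exact h.E_le_of_aIn hH hM hP hij ha hs h0 hc (by simpa [c0])

theorem E_le_of_iso (hb : 3 ≤ q ∨ 3 ≤ finrank F (D i)) (hij : i ≠ j) (hv : Φ.B v v = 0)
    (h1 : Φ.AIn H v 0) (hi : π i v ≠ 0) (hj : π j v ≠ 0) (h2 : Φ.B (π i v) (π i v) = 0) :
    Φ.E ≤ H := by
  obtain ⟨m, a1, g, a2, a3, a4⟩ := h.exists_scale hM hb (h.mem i v) (h.sing h2) hi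
  refine h.E_le_of_add hH hM hP hij (a := (m - 1) • π i v) ((D i).smul_mem _ (h.mem i v))
    (h.sing (by simp [h2])) (smul_ne_zero (sub_ne_zero.2 a1) hi) hv
    (by rw [B_smul_left, ← h.B_right (h.mem i v), h2, mul_zero]) h1 a2 ?_ hj
  have := a4 (v - π i v) (h.mem_perp (by rw [map_sub, h.idem, sub_self]))
  rw [map_sub, a3] at this
  linear_combination (norm := module) this

theorem E_le_of_tv (hb : 3 ≤ q ∨ ∀ i, 3 ≤ finrank F (D i)) (hij : i ≠ j) (hv : Φ.B v v = 0)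
    (h1 : Φ.AIn H v 0) (hi : π i v ≠ 0) (hj : π j v ≠ 0) : Φ.E ≤ H := by
  have := h.fd
  rcases hb with hb | hb
  · obtain ⟨a, a1, a2, a3⟩ := h.exists_ne hi
    obtain ⟨b, b1, b2, b3⟩ := h.exists_ne hj
    obtain ⟨s, s0, hs⟩ := h.exists_tz
    have e1 := h.orth j i hij.symm b b1 a a1
    have e2 := Φ.B_eq_zero_symm e1
    obtain ⟨m, m1, m0, m2⟩ : ∃ m, σ m = m ∧ m ≠ 0 ∧
        σ (Φ.B a v) * Φ.B a v + m * (σ (Φ.B b v) * Φ.B b v) ≠ 0 := by
      obtain ⟨m, c1, c2, c3⟩ := h.exists_fix hb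
      by_contra! e
      exact c3 (mul_right_cancel₀ (by simpa : σ (Φ.B b v) * Φ.B b v ≠ 0)
        (by linear_combination e m c1 c2 - e 1 (map_one σ) one_ne_zero))
    obtain ⟨g, a4, a5⟩ := h.qr hM a1 a2 hs
    obtain ⟨g', b4, b5⟩ := h.qr hM b1 b2 (c := m * s) (by rw [map_mul, m1]; linear_combination m * hs)
    have c1 : Φ.B v ((g' * g) v) = s * (σ (Φ.B a v) * Φ.B a v + m * (σ (Φ.B b v) * Φ.B b v)) := by
      simp [a5, b5, e1, hv, h.sy a v, h.sy b v]; ring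
    have c2 := h.aIn_sub hH hv (w := (g' * g) v) (by rw [(hH (mul_mem b4 a4)).1, hv]) h1
      (by simpa using h1.conj (mul_mem b4 a4) (hH (mul_mem b4 a4))) (c1 ▸ mul_ne_zero s0 m2) (by
        simp only [c1, map_mul, map_add, h.inv, m1]
        linear_combination (σ (Φ.B a v) * Φ.B a v + m * (σ (Φ.B b v) * Φ.B b v)) * hs)
    have a0 : a ≠ 0 := by rintro rfl; simp at a3
    have b0 : b ≠ 0 := by rintro rfl; simp at b3
    rw [show (g' * g) v - v = (s * Φ.B a v) • a + (m * s * Φ.B b v) • b by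
      simp [a5, b5, e1]; abel] at c2
    refine h.E_le_of_iso hH hM hP (Or.inl hb) hij (by simp [a2.1, b2.1, e1, e2]) c2 ?_ ?_ ?_ <;>
      simp [h.self i a a1, h.self j b b1, h.zero i j hij b b1, h.zero j i hij.symm a a1, *, a2.1]
  by_cases e : Φ.B (π i v) (π i v) = 0
  · exact h.E_le_of_iso hH hM hP (Or.inr (hb i)) hij hv h1 hi hj e
  have a0 := finrank_inf_perp_single (h.mem i v) e
  obtain ⟨a, ⟨a1, a2⟩, a3, a4⟩ := exists_sing_of_herm (Φ := Φ) h.ne h.ε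
    (T := D i ⊓ Φ.perp (F ∙ π i v)) (by have := hb i; omega)
  replace a2 := Φ.B_eq_zero_symm (Φ.mem_perp_span_singleton.1 a2)
  obtain ⟨s, hs⟩ := exists_eichData a4 a2
  obtain ⟨g, b1, b2⟩ := (h.aIn_in hM a1 (h.mem i v) a2).2 s hs
  rw [h.B_right a1] at a2
  rw [h.B_right (h.mem i v)] at e
  exact h.E_le_of_add hH hM hP hij (a := Φ.B (π i v) v • a) ((D i).smul_mem _ a1)
    (h.sing (by simp [a4.1])) (smul_ne_zero e a3) hv (by simp [B_smul_left, a2]) h1 b1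
    (by simp [b2, eichler_apply, a2]) hj

theorem exists_le' (hb : 3 ≤ q ∨ ∀ i, 3 ≤ finrank F (D i)) (hN : ¬ Φ.E ≤ H) (hg : g ∈ H) (l : ι) :
    ∃ j, (D l).map g.toLinearMap ≤ D j :=
  h.exists_le (hH hg) fun a ha hs => by
    by_contra! e
    obtain ⟨i, j, a1, a2, a3⟩ := h.exists_two e l
    exact hN (h.E_le_of_tv hH hM hP hb a1 (hs.mapO (hH hg)).1
      (by simpa using (h.aIn_in hM ha (zero_mem _) (by simp)).conj hg (hH hg)) a2 a3)

omit hH hM hP in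
theorem isMaximalIn {m : ℕ} (hm : ∀ i, finrank F (D i) = m) (ht : 2 ≤ Fintype.card ι)
    (hb : 3 ≤ q ∨ 3 ≤ m) : IsMaximalIn Φ.E (decL D ⊓ Φ.E) := by
  have := h.fd
  refine isMaximalIn_of inf_le_right ?_ fun H hM hH g hg hgM => by_contra fun hN => hgM ⟨?_, hH hg⟩
  · obtain ⟨i, j, hij⟩ := Fintype.exists_pair_of_one_lt_card ht
    obtain ⟨g, a1, x, a2, a3⟩ := h.exists_out hij
    exact ⟨g, a1, fun ⟨⟨s, hs⟩, _⟩ => a3 (s i) (hs i ▸ ⟨x, a2, rfl⟩)⟩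
  have h0 : ∀ i, D i ≠ ⊥ := fun i e => by have := h.two i; rw [e, finrank_bot] at this; omega
  refine mem_decL_of_le hm (h.injective h0) (h.exists_le' (hH.trans E_le_O)
    (fun g h1 h2 => hM ⟨mem_decL_of_stab h2, h1⟩) (fun i j l a1 a2 a3 => ?_)
    (hb.imp_right fun e i => hm i ▸ e) hN hg)
  obtain ⟨k, hk, h4⟩ := h.exists_map (h.dj j) (h.dj l) (by rw [hm, hm])
  obtain ⟨g, hg, h5, -, h6⟩ := h.exists_swap h.nd hm a3 hk h4
  obtain ⟨d, d1, d2⟩ := exists_herm_self_eq_one h.ne Φ h.ε (h.dj l) (h0 l)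
  obtain ⟨r, b1, b2, b3⟩ := h.exists_r d2 hg.2
  have b4 := h.stab b2 fun x hx => b3 x (hx d d1)
  refine ⟨r * g, hM ⟨mul_mem (mem_decL_of_stab b4) hg.1, b1⟩, fun x hx => by
    simp [h6 i a1.symm a2.symm x hx, b3 x (h.orth l i a2 d d1 x hx)],
    map_eq_of_le ?_ (by rw [hm, hm])⟩
  rintro _ ⟨x, hx, rfl⟩
  exact apply_mem_of_mem_stabL (b4 l) (h5 x hx ▸ h4 ▸ ⟨x, hx, rfl⟩ : g x ∈ D l)

end UD

theorem HS.isMaximalIn_nondeg {Φ : Form σ V} (h : HS Φ q) {W : Submodule F V}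
    (hW : Disjoint W (Φ.perp W)) (h3 : 3 ≤ finrank F W) (hd : 2 * finrank F W < finrank F V) :
    IsMaximalIn Φ.E (stabL W ⊓ Φ.E) := by
  have := h.fd
  have h1 := h.nd.finrank_perp_add W
  have hc := h.nd.isCompl_perp hW
  obtain ⟨π, hπ⟩ := exists_prj (D := ![W, Φ.perp W]) (by
    rw [iSupIndep_pair Fin.zero_ne_one (by decide)]; exact hW) (by
    rw [eq_top_iff, ← hc.sup_eq_top]; exact sup_le (le_iSup ![W, _] 0) (le_iSup ![W, _] 1))
  have hb : ∀ i, 3 ≤ finrank F (![W, Φ.perp W] i) := Fin.forall_fin_two.2 ⟨h3, by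
    change 3 ≤ finrank F (Φ.perp W); omega⟩
  have hU : UD Φ q ![W, Φ.perp W] π := ⟨h, ⟨hπ, Fin.forall_fin_two.2 ⟨Fin.forall_fin_two.2
    ⟨by simp, fun _ x hx y hy => hy x hx⟩, Fin.forall_fin_two.2
    ⟨fun _ x hx y hy => Φ.B_eq_zero_symm (hx y hy), by simp⟩⟩⟩, fun i => (hb i).trans' (by omega)⟩
  refine isMaximalIn_of inf_le_right ?_ fun H hM hH g hg hgM => by_contra fun hN => hgM ?_
  · obtain ⟨g, a1, x, a2, a3⟩ := hU.exists_out Fin.zero_ne_one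
    exact ⟨g, a1, fun e => a3 0 (apply_mem_of_mem_stabL e.1 a2)⟩
  obtain ⟨j, hj⟩ := hU.exists_le' (hH.trans E_le_O) (fun g h1 h2 => hM ⟨h2 0, h1⟩)
    (fun i j l a1 a2 a3 => by omega) (Or.inr hb) hN hg 1
  rw [← stabL_perp_inf h.nd]
  fin_cases j
  · have := Submodule.finrank_mono hj
    rw [LinearEquiv.finrank_map_eq] at this
    change finrank F (Φ.perp W) ≤ finrank F W at this
    omega
  · exact ⟨mem_stabL_of_le.2 fun x hx => hj ⟨x, hx, rfl⟩, hH hg⟩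

theorem hs_hu (hF : Fintype.card F = q ^ 2) {n : ℕ} (hn : 4 ≤ n) : HS (huForm hF n) q :=
  ⟨hf_conj hF, rfl, huForm_nondeg hF n, by simpa⟩

theorem isMaximalIn_dec_SU (hF : Fintype.card F = q ^ 2) {n t k : ℕ} (hn : 10 ≤ n)
    {D : Fin t → Submodule F (Fin n → F)} (hD : IsNondegenerateMDecomposition (hermForm n F q) k D)
    (hex : ¬ (k = 2 ∧ q = 2)) : IsMaximalIn (GU n F q ⊓ specialLinear (Fin n) F)
      (decompositionStabilizer D ⊓ (GU n F q ⊓ specialLinear (Fin n) F)) := by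
  have h := hs_hu hF (n := n) (by omega)
  have h1 := hD.decomp
  obtain ⟨π, hπ⟩ := exists_oDec (Φ := huForm hF n) (fun u v e => (huForm hF n).B_eq_zero_symm e) hD
  refine isMaximalIn_dec_of_E (fun _ => mem_SU_iff_E hF (by omega)) ?_
  by_cases hk : 2 ≤ k
  · exact UD.isMaximalIn ⟨h, hπ, fun i => h1.finrank_eq i ▸ hk⟩ h1.finrank_eq
      (by simpa using h1.two_le) (by have := h.two_le; omega)
  have h2 : ∀ i, finrank F (D i) = 1 := fun i => by have := h1.pos; rw [h1.finrank_eq]; omega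
  choose v hv hv1 using fun i => exists_herm_self_eq_one h.ne _ h.ε (hπ.disjoint h.nd i)
    fun e => by have := h2 i; rw [e, finrank_bot] at this; omega
  have h0 : ∀ i, v i ≠ 0 := fun i e => by simpa [e] using hv1 i
  have h3 : ∀ i, D i = F ∙ v i := fun i =>
    (Submodule.eq_of_le_of_finrank_eq ((Submodule.span_singleton_le_iff_mem _ _).2 (hv i))
      (by rw [finrank_span_singleton (h0 i), h2])).symm
  let b : Basis (Fin t) F (Fin n → F) := Basis.mk (h1.indep.linearIndependent D hv h0)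
    (by rw [Submodule.span_range_eq_iSup, ← h1.iSup_eq_top]; exact iSup_mono fun i => (h3 i).le)
  have hb : ∀ i, b i = v i := Basis.mk_apply _ _
  have := UF.isMaximalIn (Φ := huForm hF n) (b := b) ⟨h.toHF, rfl, fun i j => by
    rw [hb, hb]
    split_ifs with e
    exacts [e ▸ hv1 i, hπ.orth i j e _ (hv i) _ (hv j)]⟩ (by simpa [← finrank_eq_card_basis b])
  simpa only [Mb, hb, ← h3] using this

end H23.Uf
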