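import Cfsg.Agent.H23.Sv7
import Cfsg.Agent.H23.Ud1

/-! Orthonormal frames in six-dimensional unitary spaces: characteristic two. -/

set_option autoImplicit false

namespace H23.Uf

open Module H22 Cfsg Cfsg.Geo Form Finset Fr

variable {F V : Type*} [Field F] {σ : F →+* F} [AddCommGroup V] [Module F V]
  {ι : Type} [Fintype ι] [DecidableEq ι]

theorem HF.trace_solve [Fintype F] {q : ℕ} (h : HF σ q) {a b c : F} (ha : σ a = a) (hb : σ b = b)
    (hc : σ c = c) (a0 : a ≠ 0) (b0 : b ≠ 0) : ∃ x y, σ x * x = 1 ∧ σ y * y = 1 ∧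
      a * (x + σ x) + b * (y + σ y) = c := by
  classical
  obtain ⟨Q, hQ, hσ⟩ := exists_card_eq_sq_of_invol h.ne h.inv
  obtain rfl : Q = q := Nat.pow_left_injective two_ne_zero (hQ.symm.trans h.card)
  have a1 : #{x : F | σ x = x} = Q := by
    rw [← card_fixed hQ, Nat.card_eq_fintype_card, Fintype.card_subtype]; simp [hσ]
  have a2 := card_le_mul_card_image (f := fun x => x + σ x) {x : F | σ x * x = 1} 2 fun w _ =>
    not_lt.1 fun e => by
      obtain ⟨x, hx, y, hy, z, hz, e1, e2, e3⟩ := two_lt_card.1 e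
      simp only [mem_filter, mem_univ, true_and] at hx hy hz
      have k : ∀ {x : F}, σ x * x = 1 ∧ x + σ x = w → 1 * x ^ 2 + -w * x + 1 = 0 := fun e => by
        linear_combination -e.1 + _ * e.2
      exact one_ne_zero (quad3 e1 e2 e3 (k hx) (k hy) (k hz)).1
  rw [h.cardU'] at a2
  set S := image (fun x => x + σ x) {x : F | σ x * x = 1}
  have a3 : ∀ w ∈ S, σ w = w := by simp [S, h.inv, add_comm]
  obtain ⟨v, hv⟩ := inter_nonempty_of_card_lt_card_add_card (s := {x : F | σ x = x})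
    (t := S.image (a * ·)) (u := S.image (c - b * ·))
    (image_subset_iff.2 fun w hw => by simp [ha, a3 w hw])
    (image_subset_iff.2 fun w hw => by simp [hb, hc, a3 w hw]) (by
      rw [card_image_of_injective _ (mul_right_injective₀ a0), card_image_of_injective _
        (f := (c - b * ·)) (sub_right_injective.comp (mul_right_injective₀ b0))]
      omega)
  simp only [S, mem_inter, mem_image, mem_filter, mem_univ, true_and] at hv
  obtain ⟨⟨_, ⟨x, e1, rfl⟩, e2⟩, _, ⟨y, e3, rfl⟩, e4⟩ := hv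
  exact ⟨x, y, e1, e3, by rw [e2, ← e4]; ring⟩

/-- an isotropic vector supported on two indices -/
structure Rt (Φ : Form σ V) (b : Basis ι F V) (s : V) (i j : ι) : Prop where
  ne : i ≠ j
  nz : s ≠ 0
  iso : Φ.B s s = 0
  supp : ∀ p, p ≠ i → p ≠ j → Φ.B (b p) s = 0

omit [Fintype ι] [DecidableEq ι] in
theorem Rt.smul {Φ : Form σ V} {b : Basis ι F V} {s : V} {i j : ι} (h : Rt Φ b s i j) {c : F}
    (hc : c ≠ 0) : Rt Φ b (c • s) i j :=
  ⟨h.ne, smul_ne_zero hc h.nz, by simp [h.iso], fun p e e' => by simp [h.supp p e e']⟩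

namespace UF

variable [Fintype F] {Φ : Form σ V} {b : Basis ι F V} {q : ℕ} (h : UF Φ b q)
  {H : Subgroup (V ≃ₗ[F] V)} {x y z v r s : V} {i j k l m p : ι} {g t : V ≃ₗ[F] V}
include h

theorem rt_eq (hs : Rt Φ b s i j) (v : V) :
    Φ.B s v = σ (Φ.B (b i) s) * Φ.B (b i) v + σ (Φ.B (b j) s) * Φ.B (b j) v := by
  rw [h.B_sum, ← sum_pair (f := fun p => σ (Φ.B (b p) s) * Φ.B (b p) v) hs.ne]
  exact (sum_subset (subset_univ _) fun p _ hp => by
    simp only [mem_insert, mem_singleton, not_or] at hp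
    simp [hs.supp p hp.1 hp.2]).symm

theorem rt_ne (hs : Rt Φ b s i j) : Φ.B (b i) s ≠ 0 := fun e => hs.nz (h.ext fun p => by
  have := (h.rt_eq hs s).symm.trans hs.iso
  by_cases e1 : p = i
  · simp [e1, e]
  by_cases e2 : p = j
  · simpa [e, e2] using this
  · simp [hs.supp p e1 e2])

theorem rt_prop (hs : Rt Φ b s i j) (hv : Φ.B s v = 0) :
    Φ.B (b i) v • b i + Φ.B (b j) v • b j = (Φ.B (b i) v / Φ.B (b i) s) • s := by
  have a1 := (h.rt_eq hs s).symm.trans hs.iso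
  have a2 := (h.rt_eq hs v).symm.trans hv
  have a3 := h.rt_ne hs
  have a4 : σ (Φ.B (b j) s) ≠ 0 := fun e => by simp [e, a3] at a1
  refine h.ext fun p => ?_
  by_cases e1 : p = i
  · simp [e1, h.orth, hs.ne, a3]
  by_cases e2 : p = j
  · simp only [e2, h.orth, hs.ne.symm, map_add, map_smul, smul_eq_mul, if_true, if_false]
    field_simp
    exact mul_left_cancel₀ a4 (by
      linear_combination Φ.B (b i) s * a2 - Φ.B (b i) v * a1)
  · simp [hs.supp p e1 e2, h.orth, e1, e2]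

variable (hn : 6 ≤ Fintype.card ι) (hM : Mb F b ⊓ Φ.E ≤ H) (hH : H ≤ Φ.E) (hne : ¬ Φ.E ≤ H)
  (hq : 3 ≤ q) (h2 : (2 : F) = 0)
include hn hM hH hne hq h2

omit hM hH hne hq in
theorem qr_root6 (hik : i ≠ k) {x : F} (hx : σ x * x = 1) :
    QR Φ (Mb F b ⊓ Φ.E) (x • b i + b k) 1 := by
  have a0 : Φ.B (x • b i + b k) (x • b i + b k) = 0 := by
    simp [h.orth, hik, hik.symm, B_smul_left]; linear_combination hx + h2
  obtain ⟨g, a1, a2, a3⟩ := h.exists_qr (d := x • b i + b k) (c := 1) (by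
    rw [a0]; simpa [one_add_one_eq_two])
  refine ⟨g, ⟨mem_dec fun p => ⟨Equiv.swap i k p, h.mem_span fun r hr => ?_⟩,
    (h.mem_E6 hn).2 ⟨a1, by rw [a2, a0]; simp⟩⟩, a3⟩
  rw [Equiv.swap_apply_def] at hr
  split_ifs at hr with e1 e2
  · subst e1
    by_cases e : r = p <;> simp [a3, h.orth, B_smul_left, e, hr, hik, hik.symm]
    linear_combination h2 + hx
  · by_cases e : r = k <;> simp [a3, h.orth, B_smul_left, *, hik.symm]
    linear_combination h2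
  · simp [a3, h.orth, B_smul_left, hr, Ne.symm e1, Ne.symm e2]

omit hM hH hne hq in
theorem exists_hr (hs : Rt Φ b s i j) (hi : p ≠ i) (hj : p ≠ j) {a : F} (ha : σ a * a = 1) :
    ∃ d ∈ Mb F b ⊓ Φ.E, (∃ ν : F, ν ≠ 0 ∧ d s = ν • s) ∧ ∀ v, Φ.B s v = 0 → ∃ c : F,
      (a ≠ 1 → Φ.B (b i) v ≠ 0 → c ≠ 0) ∧ d v = v + c • s + ((a - 1) * Φ.B (b p) v) • b p := by
  obtain ⟨ν, b8⟩ := FiniteField.isSquare_of_char_two
    (CharP.ringChar_of_prime_eq_zero Nat.prime_two (by simpa)) (σ a)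
  have b9 : σ ν * ν = 1 := sub_eq_zero.1 (pow_eq_zero_iff two_ne_zero |>.1 (by
    have := congrArg σ b8
    rw [h.inv, map_mul] at this
    rw [b8, this] at ha
    linear_combination ha + (1 - σ ν * ν) * h2))
  obtain ⟨d, a1, a2⟩ := h.exists_dd6 hn hs.ne hi.symm hj.symm b9 b9 ha (by rw [← b8, ha])
  have a3 := h.rt_ne hs
  have a4 : ∀ v, Φ.B s v = 0 → d v = v + ((ν - 1) * (Φ.B (b i) v / Φ.B (b i) s)) • s +
      ((a - 1) * Φ.B (b p) v) • b p := fun v hv => by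
    rw [a2, mul_smul (ν - 1) _ s, ← h.rt_prop hs hv]; module
  refine ⟨d, a1, ⟨ν, by rintro rfl; simp at b9, ?_⟩, fun v hv => ⟨_, fun e e' => mul_ne_zero
    (sub_ne_zero.2 ?_) (div_ne_zero e' a3), a4 v hv⟩⟩
  · rw [a4 s hs.iso, hs.supp p hi hj, div_self a3]; module
  · rintro rfl
    exact e (by simpa [b8] using ha)

theorem rt_one (hg : g ∈ H) (hs : Rt Φ b s i j) (hs' : Rt Φ b (g⁻¹ s) k l) (hi : p ≠ i)
    (hj : p ≠ j) (hk : m ≠ k) (hl : m ≠ l) (h0 : Φ.B (b p) (g (b m)) = 0) : g ∈ Mb F b := by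
  have hO := E_le_O (hH hg)
  have a0 : Φ.B (b m) (g⁻¹ (b p)) = 0 := by rw [← B_O_left hO, h.sy, h0, map_zero]
  by_cases e : Φ.B (b k) (g⁻¹ (b p)) = 0
  · exact (decL _).inv_mem_iff.1 (h.of_two hn hM hH hne hq (H.inv_mem hg) hk a0 e)
  obtain ⟨a, a1, a2⟩ := h.exists_U [1] (by simp; omega)
  obtain ⟨d, b1, -, b2⟩ := h.exists_hr hn h2 hs' hk hl a1
  obtain ⟨c, b3, b4⟩ := b2 (g⁻¹ (b p)) (by
    rw [(Φ.O.inv_mem hO).1]; exact Φ.B_eq_zero_symm (hs.supp p hi hj))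
  have b5 : (g * d * g⁻¹) (b p) = b p + c • s := by
    rw [LinearEquiv.mul_apply, LinearEquiv.mul_apply, b4, a0]; simp
  obtain ⟨o, ho⟩ := exists_notMem_list [i, j, p] (by simp; omega)
  obtain ⟨o', ho'⟩ := exists_notMem_list [i, j, p, o] (by simp; omega)
  simp only [List.mem_cons, List.not_mem_nil, or_false, not_or] at ho ho' a2
  obtain ⟨π, a', ha⟩ := exists_mb (h.of_two hn hM hH hne hq (mul_mem (mul_mem hg (hM b1))
    (inv_mem hg)) (j := p) ho'.2.2.2 (by simp only [b5]; simp [h.orth, ho', hs.supp])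
    (by simp only [b5]; simp [h.orth, ho, hs.supp]))
  have c1 := congrArg (Φ.B (b p)) ((ha p).symm.trans b5)
  have c2 := congrArg (Φ.B (b i)) ((ha p).symm.trans b5)
  by_cases e' : p = π p
  · simp [← e', h.orth, hi.symm, h.rt_ne hs, b3 a2 e] at c2
  · simp [h.orth, e', hs.supp p hi hj] at c1

theorem rt_fix (hg : g ∈ H) (hs : Rt Φ b s i j) (hs' : Rt Φ b (g⁻¹ s) k l) : g ∈ Mb F b := by
  by_contra hc
  have hO := E_le_O (hH hg)
  obtain ⟨m, hm⟩ := exists_notMem_list [k, l] (by simp; omega)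
  obtain ⟨p₃, e3⟩ := exists_notMem_list [i, j] (by simp; omega)
  obtain ⟨p₄, e4⟩ := exists_notMem_list [i, j, p₃] (by simp; omega)
  obtain ⟨p₅, e5⟩ := exists_notMem_list [i, j, p₃, p₄] (by simp; omega)
  obtain ⟨p₆, e6⟩ := exists_notMem_list [i, j, p₃, p₄, p₅] (by simp; omega)
  simp only [List.mem_cons, List.not_mem_nil, or_false, not_or] at hm e3 e4 e5 e6
  have a0 : ∀ p, p ≠ i → p ≠ j → Φ.B (b p) (g (b m)) ≠ 0 := fun p a1 a2 e =>
    hc (h.rt_one hn hM hH hne hq h2 hg hs hs' a1 a2 hm.1 hm.2 e)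
  have a1 : Φ.B (g (b m)) s = 0 := by rw [B_O_left hO, hs'.supp m hm.1 hm.2]
  have a2 : Φ.B (g (b m)) (g (b m)) = 1 := by simp [hO.1, h.orth]
  obtain ⟨N, hN⟩ : ∃ N : ι → F, ∀ p, N p = σ (Φ.B (b p) (g (b m))) * Φ.B (b p) (g (b m)) :=
    ⟨_, fun _ => rfl⟩
  have n1 : ∀ p, σ (N p) = N p := fun p => by simp [hN, h.inv, mul_comm]
  have n2 : ∀ p, p ≠ i → p ≠ j → N p ≠ 0 := fun p a1 a2 => by simp [hN, a0 p a1 a2]
  obtain ⟨t₅, ⟨b1, b2⟩, b3⟩ : ∃ t : F, (σ t * t = 1 ∧ t ≠ 1) ∧ N p₅ * (t + σ t) ≠ 1 := by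
    by_contra! e
    obtain ⟨x, y, z, c1, c2, c3, c4, c5, c6⟩ := h.exists_three hq
    have k : ∀ {x : F}, σ x * x = 1 ∧ x ≠ 1 → N p₅ * x ^ 2 + -1 * x + N p₅ = 0 := fun {x} e' => by
      linear_combination x * e x e' - N p₅ * e'.1
    exact n2 p₅ e5.1 e5.2.1 (quad3 c4 c5 c6 (k c1) (k c2) (k c3)).1
  obtain ⟨t₃, t₄, b4, b5, b6⟩ := h.trace_solve (n1 p₃) (n1 p₄) (c := 1 - N p₅ * (t₅ + σ t₅))
    (by simp [n1, h.inv, add_comm]) (n2 p₃ e3.1 e3.2) (n2 p₄ e4.1 e4.2.1)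
  obtain ⟨d₃, c1, ⟨ν₃, c2, c3⟩, c4⟩ := h.exists_hr hn h2 hs e3.1 e3.2 b4
  obtain ⟨d₄, c5, ⟨ν₄, c6, c7⟩, c8⟩ := h.exists_hr hn h2 hs e4.1 e4.2.1 b5
  obtain ⟨d₅, c9, ⟨ν₅, c10, c11⟩, c12⟩ := h.exists_hr hn h2 hs e5.1 e5.2.1 b1
  have s1 : ∀ p, p ≠ i → p ≠ j → Φ.B s (b p) = 0 := fun p a1 a2 =>
    Φ.B_eq_zero_symm (hs.supp p a1 a2)
  have a1' := Φ.B_eq_zero_symm a1
  obtain ⟨x₃, -, d1⟩ := c4 _ a1'
  obtain ⟨x₄, -, d2⟩ := c8 (d₃ (g (b m))) (by simp [d1, a1', hs.iso, s1, e3])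
  obtain ⟨x₅, -, d3⟩ := c12 (d₄ (d₃ (g (b m)))) (by
    rw [d2, d1]; simp [a1', hs.iso, s1, e3, e4])
  have d4 : d₅ (d₄ (d₃ (g (b m)))) = g (b m) + (x₃ + x₄ + x₅) • s +
      ((t₃ - 1) * Φ.B (b p₃) (g (b m))) • b p₃ + ((t₄ - 1) * Φ.B (b p₄) (g (b m))) • b p₄ +
      ((t₅ - 1) * Φ.B (b p₅) (g (b m))) • b p₅ := by
    rw [d3, d2, d1]; simp [h.orth, hs.supp, e4, e5]; module
  obtain ⟨η, hη⟩ : ∃ η, Φ.B (g (b m)) (d₅ (d₄ (d₃ (g (b m))))) = η := ⟨_, rfl⟩
  have d5 : η + σ η = 1 := by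
    rw [d4] at hη
    simp only [map_add, map_smul, a1, a2, h.sy (b _) (g _), smul_eq_mul, mul_assoc,
      mul_comm (Φ.B (b _) (g _)), ← hN] at hη
    simp only [← hη, map_add, map_mul, map_sub, map_one, map_zero, n1]
    linear_combination b6 + (1 - N p₃ - N p₄ - N p₅) * h2
  have d6 : η ≠ 0 := by rintro rfl; simp at d5
  have d7 : σ η ≠ 0 := by simpa
  obtain ⟨d, f1, ⟨ν, f2, f3⟩, f4⟩ := h.exists_hr hn h2 hs' hm.1 hm.2 (a := σ η / η) (by
    rw [map_div₀, h.inv]; field_simp)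
  obtain ⟨x, -, f5⟩ := f4 (g⁻¹ (d₅ (d₄ (d₃ (g (b m)))))) (by
    rw [(Φ.O.inv_mem hO).1, d4]; simp [a1', hs.iso, s1, e3, e4, e5])
  rw [← B_O_left hO, hη, show (σ η / η - 1) * η = 1 by field_simp; linear_combination d5 - η * h2]
    at f5
  have f6 : (g * d * g⁻¹ * (d₅ * d₄ * d₃) * g) (b m) = d₅ (d₄ (d₃ (g (b m)))) + x • s + g (b m) := by
    simp only [LinearEquiv.mul_apply, f5]; simp
  have f7 := mul_mem (mul_mem (mul_mem (mul_mem hg (hM f1)) (inv_mem hg))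
    (hM (mul_mem (mul_mem c9 c5) c1))) hg
  have f8 : (g * d * g⁻¹ * (d₅ * d₄ * d₃) * g)⁻¹ s = (ν * (ν₅ * ν₄ * ν₃))⁻¹ • g⁻¹ s :=
    LinearEquiv.symm_apply_eq _ |>.2 (by
      have f9 : g (g⁻¹ s) = s := by simp
      simp only [LinearEquiv.mul_apply, map_smul, f9, c3, c7, c11, f3, smul_smul]
      field_simp; simp)
  obtain ⟨π, a, ha⟩ := exists_mb (h.rt_one hn hM hH hne hq h2 f7 hs (f8 ▸ hs'.smul (by simp [*]))
    e6.1 e6.2.1 hm.1 hm.2 (by
      rw [f6, d4]; simp [h.orth, hs.supp, e6]; linear_combination Φ.B (b p₆) (g (b m)) * h2))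
  have g1 : ∀ p, Φ.B (b p) (d₅ (d₄ (d₃ (g (b m)))) + x • s + g (b m)) ≠ 0 → p = π m :=
    fun p e => by_contra fun e' => e (by rw [← f6, ha]; simp [h.orth, e'])
  have g2 : ∀ {t ξ : F}, t ≠ 1 → ξ ≠ 0 → ξ + (t - 1) * ξ + ξ ≠ 0 := fun {t ξ} e e' e'' =>
    mul_ne_zero (sub_ne_zero.2 e) e' (by linear_combination e'' - ξ * h2)
  have g5 := g1 p₅ (by simpa [d4, h.orth, hs.supp, e5] using g2 b2 (a0 p₅ e5.1 e5.2.1))
  by_cases e : t₃ = 1
  · refine e5.2.2.2 (g5.trans (g1 p₄ ?_).symm)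
    simpa [d4, h.orth, hs.supp, e4, Ne.symm e5.2.2.2] using g2 (t := t₄) (by
      rintro rfl
      exact b3 (by simp [e] at b6; linear_combination b6 - (N p₃ + N p₄) * h2)) (a0 p₄ e4.1 e4.2.1)
  · refine e5.2.2.1 (g5.trans (g1 p₃ ?_).symm)
    simpa [d4, h.orth, hs.supp, e3, Ne.symm e5.2.2.1, Ne.symm e4.2.2] using g2 e (a0 p₃ e3.1 e3.2)

theorem fix_two (hg : g ∈ H) (hO : t ∈ Φ.O) (h0 : t ≠ 1) {α β γ δ : F}
    (h1 : ∀ v, ∃ c c' : F, t v = v + c • (α • b i + β • b j) + c' • (γ • b k + δ • b l))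
    (h3 : g⁻¹ * t * g ∈ Mb F b) : g ∈ Mb F b := by
  classical
  have hO' := E_le_O (hH hg)
  obtain ⟨o, ho⟩ := exists_notMem_list [i, j, k, l] (by simp; omega)
  obtain ⟨o', ho'⟩ := exists_notMem_list [i, j, k, l, o] (by simp; omega)
  simp only [List.mem_cons, List.not_mem_nil, or_false, not_or] at ho ho'
  have a1 : ∀ v, Φ.B (b o) (t v - v) = 0 ∧ Φ.B (b o') (t v - v) = 0 := fun v => by
    obtain ⟨c, c', e⟩ := h1 v
    simp [e, h.orth, ho, ho']
  obtain ⟨π, a, ha⟩ := exists_mb h3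
  have a2 : ∀ m, t (g (b m)) = a m • g (b (π m)) := fun m => by rw [← map_smul, ← ha]; simp
  obtain ⟨m, hm⟩ : ∃ m, t (g (b m)) ≠ g (b m) := by
    by_contra! e
    exact h0 ((b.map g).ext' (by simpa using e))
  have a3 := a1 (g (b m))
  by_cases e : π m = m
  · have a4 : a m - 1 ≠ 0 := fun e' => hm (by simp [a2, e, sub_eq_zero.1 e'])
    simp only [a2, e, map_sub, map_smul, smul_eq_mul] at a3
    exact h.of_two hn hM hH hne hq hg (j := m) ho'.2.2.2.2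
      (mul_left_cancel₀ a4 (by linear_combination a3.2))
      (mul_left_cancel₀ a4 (by linear_combination a3.1))
  have a4 : σ (a m) * a m = 1 := by
    simpa [a2, B_smul_left, hO'.1, h.orth, mul_comm] using hO.1 (g (b m)) (g (b m))
  have a5 : t (g (b m)) - g (b m) = g (a m • b (π m) + b m) := by
    rw [a2, map_add, map_smul]
    linear_combination (norm := module) -congrArg (· • g (b m)) h2
  obtain ⟨r, b1, b2⟩ := h.qr_root6 hn h2 e a4
  obtain ⟨r', b3, b4⟩ := QR.conj ⟨r, hM b1, b2⟩ hg hO'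
  rw [a5] at a3
  have b5 : Rt Φ b (a m • b (π m) + b m) (π m) m := ⟨e, fun e' => by
    simpa [h.orth, Ne.symm e] using congrArg (Φ.B (b m)) e', by
      simp [h.orth, e, Ne.symm e, B_smul_left]; linear_combination a4 + h2,
    fun p e1 e2 => by simp [h.orth, e1, e2]⟩
  obtain ⟨T, b6, -, b7⟩ := exists_subsuperset_card_eq (subset_univ _) (h.wt_le one_ne_zero
    (h.st6 hn hM hH hne b3 (i := o) (j := o) (by simp only [b4, Φ.B_eq_zero_symm a3.1]; simp)) b4)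
    (by rw [card_univ]; omega)
  obtain ⟨i', j', b8, rfl⟩ := card_eq_two.1 b7
  exact h.rt_fix hn hM hH hne hq h2 hg (s := g (a m • b (π m) + b m)) ⟨b8, g.map_ne_zero_iff.2 b5.nz,
    by rw [hO'.1, b5.iso], fun p e1 e2 => by_contra fun e3 => by
      simpa [e1, e2] using b6 (mem_filter.2 ⟨mem_univ p, e3⟩)⟩ (by simpa only [LinearEquiv.coe_inv,
        LinearEquiv.symm_apply_apply] using b5)

theorem le_even6 : H ≤ Mb F b ⊓ Φ.E := by
  classical
  have := b.finiteDimensional_of_finite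
  have : Finite V := Module.finite_of_finite F
  have : Finite (V ≃ₗ[F] V) := Finite.of_injective _ DFunLike.coe_injective
  obtain ⟨S, -, h4⟩ := exists_subset_card_eq (s := (univ : Finset ι)) (n := 4)
    (by rw [card_univ]; omega)
  obtain ⟨i, j, k, l, hij, hik, hil, hjk, hjl, hkl, rfl⟩ := card_eq_four.1 h4
  have e2 : ∀ v : V, v + v = 0 := fun v => by rw [← two_smul F, h2, zero_smul]
  have rt : ∀ {i j}, i ≠ j → ∃ d ∈ Mb F b ⊓ Φ.E, d * d = 1 ∧ d (b i) = b j ∧ d (b j) = b i ∧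
      (∀ p, p ≠ i → p ≠ j → d (b p) = b p) ∧ ∀ m ∈ Mb F b ⊓ Φ.E, ∀ v,
        (m * d * m⁻¹) v = v + Φ.B (m (b i + b j)) v • m (b i + b j) := fun {i j} hij => by
    obtain ⟨d, hdM, hd⟩ := h.qr_root6 hn h2 hij (x := 1) (by simp)
    simp only [one_smul, one_mul] at hd
    have a1 : d (b i) = b j := by simp [hd, h.orth, hij.symm, ← add_assoc, e2]
    have a2 : d (b j) = b i := by simp [hd, h.orth, hij, add_comm (b i), ← add_assoc, e2]
    have a3 : ∀ p, p ≠ i → p ≠ j → d (b p) = b p := fun p e e' => by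
      simp [hd, h.orth, e.symm, e'.symm]
    refine ⟨d, hdM, b.ext' fun p => ?_, a1, a2, a3, fun m hm v => by
      simp [hd, B_O_left (E_le_O hm.2), -map_add]; simp⟩
    by_cases e : p = i
    · simp [e, a1, a2]
    by_cases e' : p = j <;> simp [e, e', a1, a2, a3]
  have fx : ∀ {i j k l} {d e : V ≃ₗ[F] V} {m m'}, m ∈ Mb F b ⊓ Φ.E → m' ∈ Mb F b ⊓ Φ.E →
      (∀ v, ∃ c : F, d v = v + c • m (b i + b j)) → (∀ v, ∃ c : F, e v = v + c • m' (b k + b l)) →
      d * e ∈ Φ.O → d * e ≠ 1 → ∀ g ∈ H, g⁻¹ * (d * e) * g ∈ Mb F b ⊓ Φ.E → g ∈ Mb F b ⊓ Φ.E :=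
    fun {i j k l d e m m'} a1 a2 a3 a4 a5 a6 g hg a7 => by
      obtain ⟨s, a, ha⟩ := exists_mb a1.1
      obtain ⟨s', a', ha'⟩ := exists_mb a2.1
      refine ⟨h.fix_two hn hM hH hne hq h2 hg a5 a6 (i := s i) (j := s j) (k := s' k) (l := s' l)
        (α := a i) (β := a j) (γ := a' k) (δ := a' l) (fun v => ?_) a7.1, hH hg⟩
      obtain ⟨c, hc⟩ := a3 (e v)
      obtain ⟨c', hc'⟩ := a4 v
      exact ⟨c, c', by rw [LinearEquiv.mul_apply, hc, hc']; simp [ha, ha']; abel⟩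
  obtain ⟨d, hdM, d2, d3, d4, d5, cj⟩ := rt hij
  have d6 : ∀ v, ∃ c : F, d v = v + c • (1 : V ≃ₗ[F] V) (b i + b j) := fun v =>
    ⟨_, by simpa only [one_mul, inv_one, mul_one] using cj 1 (one_mem _) v⟩
  have cm : ∀ {x}, x ∈ Mb F b ⊓ Φ.E → ∀ m ∈ Mb F b ⊓ Φ.E, m * x * m⁻¹ ∈ Mb F b ⊓ Φ.E :=
    fun hx m hm => mul_mem (mul_mem hm hx) (inv_mem hm)
  obtain ⟨m₀, hm₀, e₀⟩ := h.exists_perm6 hn hik hjl
  obtain ⟨d₀, -, f2, f3, f4, f5, f6⟩ := rt hkl
  have e₁ : m₀ * d * m₀⁻¹ = d₀ := LinearEquiv.ext fun v => by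
    have := f6 1 (one_mem _) v
    simp only [one_mul, inv_one, mul_one] at this
    rw [cj m₀ hm₀, this]
    simp [e₀, Equiv.swap_apply_def, hjk.symm, hkl, hij.symm, hjk]
  refine Zd.le_of Zd.zd hM hdM d2 (fun g hg e => ?_) (fun m hm e _ => ?_) hm₀
    (fun e => ?_) ?_ fun m hm e => ?_
  · refine fx (e := 1) (k := i) (l := i) (one_mem _) (one_mem _) d6 (fun v => ⟨0, by simp⟩)
      (by simpa using E_le_O hdM.2) (fun e => ?_) g hg (by simpa using e)
    rw [mul_one] at e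
    exact hij (b.injective (by simpa [e] using d3))
  · exact fx (one_mem _) hm d6 (fun v => ⟨_, cj m hm v⟩) (E_le_O (mul_mem hdM (cm hdM m hm)).2)
      fun e' => e (by rw [← inv_eq_of_mul_eq_one_right e', inv_eq_of_mul_eq_one_right d2])
  · rw [e₁] at e
    exact hij (b.injective (by rw [← d3, ← e, f5 i hik hil]))
  · rw [e₁, sq]
    refine b.ext' fun p => ?_
    by_cases e1 : p = i
    · simp [e1, d3, d4, f5, hik, hil, hjk, hjl]
    by_cases e2 : p = j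
    · simp [e2, d3, d4, f5, hik, hil, hjk, hjl]
    by_cases e3 : p = k
    · simp [e3, f3, f4, d5, hik.symm, hil.symm, hjk.symm, hjl.symm]
    by_cases e4 : p = l
    · simp [e4, f3, f4, d5, hik.symm, hil.symm, hjk.symm, hjl.symm]
    · simp [d5, f5, e1, e2, e3, e4]
  have a1 := e 1 (one_mem _)
  simp only [inv_one, one_mul, mul_one] at a1
  rw [e₁] at e a1
  obtain ⟨s, a, ha⟩ := exists_mb a1.1
  have a0 : ∀ p, a p ≠ 0 := fun p e => b.ne_zero p (by simpa [e] using ha p)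
  by_cases e3 : ∀ p, s p = p
  · have a2 : ∀ p, (m * d * m⁻¹) (b p) = a p • d₀ (d (b p)) := fun p => by
      have := congrArg (d₀ * d) (ha p)
      rwa [← LinearEquiv.mul_apply, mul_assoc d, mul_assoc d₀, ← mul_assoc d, d2, one_mul,
        ← mul_assoc, f2, one_mul, map_smul, e3] at this
    have a3 : ∀ p p', p ≠ p' → d₀ (d (b p)) = b p' → Φ.B (b p) (m (b i + b j)) ≠ 0 :=
      fun p p' e e' e'' => by
        have := congrArg (Φ.B (b p)) ((cj m hm (b p)).symm.trans (a2 p))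
        simp [Φ.B_eq_zero_symm e'', e', h.orth, e, -map_add] at this
    refine absurd ((card_le_card (s := {i, j, k}) fun p hp => ?_).trans (h.wt_le one_ne_zero
      (cm hdM m hm).1 fun v => by rw [one_mul]; exact cj m hm v)) (by
        rw [card_eq_three.2 ⟨i, j, k, hij, hik, hjk, rfl⟩]; omega)
    simp only [mem_insert, mem_singleton] at hp
    refine mem_filter.2 ⟨mem_univ _, ?_⟩
    rcases hp with rfl | rfl | rfl
    exacts [a3 _ _ hij (by rw [d3, f5 j hjk hjl]), a3 _ _ hij.symm (by rw [d4, f5 i hik hil]),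
      a3 _ _ hkl (by rw [d5 _ hik.symm hjk.symm, f3])]
  push Not at e3
  obtain ⟨p, hp⟩ := e3
  obtain ⟨p', hp'⟩ := exists_notMem_list [p, s p] (by simp; omega)
  simp only [List.mem_cons, List.not_mem_nil, or_false, not_or] at hp'
  obtain ⟨u, u1, u2, -, -, u3, u4⟩ := rt (Ne.symm hp'.1)
  generalize d * d₀ * (m * d * m⁻¹) = z at e a1 ha
  intro g hg
  refine fx a1 (one_mem _) (fun v => ⟨_, u4 z a1 v⟩) (e := u) (fun v => ⟨_, by
    simpa only [one_mul, inv_one, mul_one] using u4 1 (one_mem _) v⟩)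
    (E_le_O (mul_mem (cm u1 z a1) u1).2) (fun e' => ?_) g hg ?_
  · have b1 := DFunLike.congr_fun e' (b (s p))
    rw [LinearEquiv.mul_apply, u3 _ hp (Ne.symm hp'.2), u4 z a1] at b1
    have b2 := congrArg (Φ.B (b (s p))) b1
    simp [ha, h.orth, B_smul_left, a0, hp'.1, Ne.symm hp'.1] at b2
  · simpa [mul_assoc, inv_eq_of_mul_eq_one_right u2] using
      mul_mem (e g hg) (inv_mem (e _ (mul_mem (hM u1) hg)))

omit hM hH hne h2 in
theorem isMaximalIn6 (h6 : Fintype.card ι = 6) : IsMaximalIn Φ.E (Mb F b ⊓ Φ.E) := by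
  classical
  refine isMaximalIn_of inf_le_right ?_ fun H hM hH g hg hgM => by_contra fun hne => hgM ?_
  · obtain ⟨S, -, h4⟩ := exists_subset_card_eq (s := (univ : Finset ι)) (n := 4)
      (by rw [card_univ]; omega)
    obtain ⟨i, j, k, l, hij, hik, hil, hjk, hjl, hkl, rfl⟩ := card_eq_four.1 h4
    obtain ⟨c, hc⟩ := exists_norm_eq_of_invol h.ne h.inv (μ := -3) (by simp [map_ofNat])
    obtain ⟨t, ht⟩ := DFunLike.ne_iff.1 h.ne
    have a0 : Φ.B (b i + b j + b k + c • b l) (b i + b j + b k + c • b l) = 0 := by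
      simp [h.orth, B_smul_left, hij, hik, hil, hjk, hjl, hkl, hij.symm, hik.symm, hil.symm,
        hjk.symm, hjl.symm, hkl.symm]
      linear_combination hc
    obtain ⟨g, a1, a2, a3⟩ := h.exists_qr (d := b i + b j + b k + c • b l) (c := σ t - t) (by
      rw [a0]; simp [h.inv])
    refine ⟨g, (h.mem_E6 hn).2 ⟨a1, by rw [a2, a0]; simp⟩, fun e => absurd ((card_le_card
      (s := {i, j, k}) fun p hp => ?_).trans (h.wt_le (sub_ne_zero.2 ht) e.1 a3)) (by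
        rw [card_eq_three.2 ⟨i, j, k, hij, hik, hjk, rfl⟩]; omega)⟩
    simp only [mem_insert, mem_singleton] at hp
    rcases hp with rfl | rfl | rfl <;> simp [h.orth, *, hij.symm, hik.symm, hjk.symm]
  by_cases h2 : (2 : F) = 0
  · exact h.le_even6 hn hM hH hne hq h2 hg
  · exact h.le_odd6 hn hM hH hne hq h6 h2 hg

end UF

variable [Fintype F] {q : ℕ}

theorem isMaximalIn_dec_SU6 (hF : Fintype.card F = q ^ 2) {n t k : ℕ} (hn : n = 6)
    {D : Fin t → Submodule F (Fin n → F)} (hD : IsNondegenerateMDecomposition (hermForm n F q) k D)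
    (hex : 3 ≤ q ∨ 3 ≤ k) : IsMaximalIn (GU n F q ⊓ specialLinear (Fin n) F)
      (decompositionStabilizer D ⊓ (GU n F q ⊓ specialLinear (Fin n) F)) := by
  have h := hs_hu hF (n := n) (by omega)
  have h1 := hD.decomp
  obtain ⟨π, hπ⟩ := exists_oDec (Φ := huForm hF n) (fun u v e => (huForm hF n).B_eq_zero_symm e) hD
  refine isMaximalIn_dec_of_E (fun _ => mem_SU_iff_E hF (by omega)) ?_
  by_cases hk : 2 ≤ k
  · exact UD.isMaximalIn ⟨h, hπ, fun i => h1.finrank_eq i ▸ hk⟩ h1.finrank_eq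
      (by simpa using h1.two_le) hex
  have h2 : ∀ i, finrank F (D i) = 1 := fun i => by have := h1.pos; rw [h1.finrank_eq]; omega
  choose v hv hv1 using fun i => exists_herm_self_eq_one h.ne _ h.ε (hπ.disjoint h.nd i)
    fun e => by have := h2 i; rw [e, finrank_bot] at this; omega
  have h0 : ∀ i, v i ≠ 0 := fun i e => by simpa [e] using hv1 i
  have h3 : ∀ i, D i = F ∙ v i := fun i =>
    (Submodule.eq_of_le_of_finrank_eq ((Submodule.span_singleton_le_iff_mem _ _).2 (hv i))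
      (by rw [finrank_span_singleton (h0 i), h2])).symm
  let b : Basis (Fin t) F (Fin n → F) := Basis.mk (h1.indep.linearIndependent D hv h0)
    (by rw [Submodule.span_range_eq_iSup, ← h1.iSup_eq_top]; exact iSup_mono fun i => (h3 i).le)
  have hb : ∀ i, b i = v i := Basis.mk_apply _ _
  have := UF.isMaximalIn6 (Φ := huForm hF n) (b := b) ⟨h.toHF, rfl, fun i j => by
    rw [hb, hb]
    split_ifs with e
    exacts [e ▸ hv1 i, hπ.orth i j e _ (hv i) _ (hv j)]⟩ (by simp [← finrank_eq_card_basis b, hn]) (by omega)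
      (by simp [← finrank_eq_card_basis b, hn])
  simpa only [Mb, hb, ← h3] using this

end H23.Uf
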