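import Cfsg.Agent.H23.Ut2

/-! Hermitian three-spaces and their tensor products with hermitian planes. -/

set_option autoImplicit false

namespace H23.Uf

open Module H22 Cfsg Cfsg.Geo Form Tn

variable {F S W V : Type*} [Field F] [AddCommGroup S] [Module F S] [AddCommGroup W]
  [Module F W] [AddCommGroup V] [Module F V] {σ : F →+* F} {q : ℕ}

/-- A standard frame of a hermitian three-space. -/
structure Fm (h : Form σ W) (a e b : W) : Prop where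
  aa : h.B a a = 0
  bb : h.B b b = 0
  ab : h.B a b = 1
  ba : h.B b a = 1
  ee : h.B e e = 1
  ae : h.B a e = 0
  ea : h.B e a = 0
  be : h.B b e = 0
  eb : h.B e b = 0
  span : ∀ w, w = h.B b w • a + h.B e w • e + h.B a w • b

variable [Fintype F]

theorem HF.exists_cube (h : HF σ q) (hq : 3 ≤ q) : ∃ x, σ x * x = 1 ∧ σ x / x - x ≠ 0 := by
  have a0 : ∀ x, σ x * x = 1 → σ x / x - x = 0 → x ^ 3 = 1 := fun x h1 h2 => by
    have : x ≠ 0 := right_ne_zero_of_mul_eq_one h1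
    field_simp at h2
    linear_combination h1 - x * h2
  obtain ⟨x, a1, a2⟩ := h.exists_U [1] (by simp; omega)
  obtain ⟨y, a3, a4⟩ := h.exists_U [1, x, x ^ 2] (by simpa)
  by_contra! e
  have b1 := a0 x a1 (e x a1)
  have b2 := a0 y a3 (e y a3)
  simp only [List.mem_cons, List.not_mem_nil, or_false, not_or] at a2 a4
  have b3 : x ^ 2 + x + 1 = 0 := mul_left_cancel₀ (sub_ne_zero.2 a2) (by linear_combination b1)
  have b4 : y ^ 2 + y + 1 = 0 := mul_left_cancel₀ (sub_ne_zero.2 a4.1) (by linear_combination b2)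
  exact mul_ne_zero (sub_ne_zero.2 a4.2.1) (sub_ne_zero.2 a4.2.2) (by
    linear_combination b4 - y * b3 + b1)

theorem scalar_of_iso (hf : HF σ q) {f : Form σ S} (hn : f.Nondeg) (he : f.ε = 1)
    (h2 : finrank F S = 2) {z : End F S} (e : ∀ a, a ≠ 0 → f.B a a = 0 → f.B a (z a) = 0) :
    ∃ c : F, ∀ x, z x = c • x := by
  have : FiniteDimensional F S := finite_of_finrank_pos (by omega)
  obtain ⟨s, s0, hs⟩ := exists_trace_zero hf.ne hf.inv
  obtain ⟨a, -, b1, b2⟩ := exists_sing_of_herm (Φ := f) hf.ne he (T := ⊤) (by simp [h2])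
  obtain ⟨b, b3⟩ := exists_hyp hn b2 b1
  have b4 : f.B b a = 1 := by rw [b3.B_symm, he]
  obtain ⟨x₁, y₁, c1⟩ := span_hyp h2 b3 (z a)
  obtain ⟨x₂, y₂, c2⟩ := span_hyp h2 b3 (z b)
  have c3 := e a b1 b2.1
  have c4 := e b b3.right_ne b3.right.1
  have c5 := e (a + s • b) (fun e => by simpa [b4, b3.right.1] using congrArg (f.B b) e) (by
    simp [B_smul_left, b2.1, b3.one, b4, b3.right.1, hs])
  simp [← c1, ← c2, b2.1, b3.one, b4, b3.right.1, B_smul_left] at c3 c4 c5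
  refine ⟨x₁, fun v => ?_⟩
  obtain ⟨x, y, rfl⟩ := span_hyp h2 b3 v
  have : y₂ = x₁ := mul_left_cancel₀ s0 (by
    linear_combination c5 - x₁ * hs - c3 - (s * σ s) * c4)
  simp [← c1, ← c2, c3, c4, this, smul_comm x₁]

/-- A hermitian three-space. -/
structure T3 (h : Form σ W) (q : ℕ) : Prop extends HF σ q where
  ε : h.ε = 1
  nd : h.Nondeg
  thr : finrank F W = 3

namespace T3

variable {h : Form σ W} (p : T3 h q) {a a' e b : W}
include p

theorem fd : FiniteDimensional F W := finite_of_finrank_pos (by rw [p.thr]; omega)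

theorem kap : h.κ = 0 := κ_of_ne_id p.ne

theorem sy (x y : W) : h.B y x = σ (h.B x y) := by rw [h.symm, p.ε, one_mul]

theorem sing (ha : h.B a a = 0) : Sing h a := ⟨ha, Q_of_κ p.kap a⟩

theorem iso {T : Submodule F W} (hT : 2 ≤ finrank F T) : ∃ a ∈ T, a ≠ 0 ∧ h.B a a = 0 :=
  haveI := p.fd
  have ⟨a, a1, a2, a3⟩ := exists_sing_of_herm (Φ := h) p.ne p.ε hT
  ⟨a, a1, a2, a3.1⟩

theorem iso_perp (w : W) : ∃ a, a ≠ 0 ∧ h.B a a = 0 ∧ h.B a w = 0 := by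
  have := p.fd
  have e1 := p.nd.finrank_perp_add (F ∙ w)
  have e2 := finrank_span_le_card (R := F) ({w} : Set W)
  obtain ⟨a, a1, a2, a3⟩ := p.iso (T := h.perp (F ∙ w)) (by rw [p.thr] at e1; simp at e2; omega)
  exact ⟨a, a2, a3, h.B_eq_zero_symm (h.mem_perp_span_singleton.1 a1)⟩

theorem fm (hab : Hyp h a b) (he : h.B e e = 1) (h1 : h.B a e = 0) (h2 : h.B b e = 0) :
    Fm h a e b := by
  have := p.fd
  have ba : h.B b a = 1 := by rw [hab.B_symm, p.ε]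
  have ea := h.B_eq_zero_symm h1
  have eb := h.B_eq_zero_symm h2
  refine ⟨hab.left.1, hab.right.1, hab.one, ba, he, h1, ea, h2, eb, fun w => ?_⟩
  have li : LinearIndependent F ![a, e, b] := Fintype.linearIndependent_iff.2 fun g hg => by
    have e1 := congrArg (h.B a) hg
    have e2 := congrArg (h.B b) hg
    have e3 := congrArg (h.B e) hg
    simp [Fin.sum_univ_three, hab.left.1, hab.right.1, hab.one, ba, ea, eb, he, h1, h2] at e1 e2 e3
    intro i; fin_cases i <;> simpa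
  obtain ⟨c, rfl⟩ := (Submodule.mem_span_range_iff_exists_fun F).1
    ((li.span_eq_top_of_card_eq_finrank (by simp [p.thr])).ge (Submodule.mem_top (x := w)))
  simp [Fin.sum_univ_three, hab.left.1, hab.right.1, hab.one, *]

theorem exists_fm (ha : h.B a a = 0) (a0 : a ≠ 0) : ∃ e b, Fm h a e b := by
  have := p.fd
  obtain ⟨b, hb⟩ := exists_hyp p.nd (p.sing ha) a0
  have e1 := hb.finrank_perp p.nd
  obtain ⟨e, a1, a2⟩ := exists_herm_self_eq_one p.ne h p.ε (W := h.perp (Submodule.span F {a, b}))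
    (by rw [p.nd.perp_perp]; exact hb.disjoint.symm) fun e => by
      rw [e, p.thr] at e1; simp at e1
  exact ⟨e, b, p.fm hb a2 (mem_perp_pair.1 a1).1 (mem_perp_pair.1 a1).2⟩

theorem exists_fm' (he : h.B e e = 1) : ∃ a b, Fm h a e b := by
  have := p.fd
  obtain ⟨a, a1, a2, a3⟩ := p.iso_perp e
  obtain ⟨b, a4, a5⟩ := exists_hyp_mem p.nd (p.sing a2)
    (h.mem_perp_span_singleton.2 (h.B_eq_zero_symm a3)) (by
      rw [p.nd.perp_perp]
      intro e'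
      obtain ⟨c, rfl⟩ := Submodule.mem_span_singleton.1 e'
      simp [he, show c ≠ 0 by rintro rfl; simp at a1] at a3)
  exact ⟨a, b, p.fm a5 he a3 (h.B_eq_zero_symm (h.mem_perp_span_singleton.1 a4))⟩

theorem refl (he : h.B e e = 1) {l : F} (hl : σ l * l = 1) : ∃ g ∈ h.O,
    LinearMap.det g.toLinearMap = l ∧ ∀ x, g x = x + ((l - 1) * h.B e x) • e := by
  have := p.fd
  obtain ⟨g, a1, a2, a3⟩ := p.nd.exists_qrefl p.kap (d := e) (c := l - 1) (by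
    rw [he, p.ε, map_sub, map_one]; linear_combination hl)
  exact ⟨g, a1, by rw [a2, he]; ring, a3⟩

theorem trans (ha : h.B a a = 0) (a0 : a ≠ 0) (ha' : h.B a' a' = 0) (a0' : a' ≠ 0) :
    ∃ g ∈ h.O, LinearMap.det g.toLinearMap = 1 ∧ g a = a' := by
  have := p.fd
  obtain ⟨k, a1, a2⟩ := p.nd.witt_one a0 a0' (by rw [ha, ha']) (by rw [Q_of_κ p.kap, Q_of_κ p.kap])
  have a3 := p.nd.det_mul_σ_det_of_mem a1
  obtain ⟨e, b, fr⟩ := p.exists_fm ha' a0'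
  obtain ⟨g, a4, a5, a6⟩ := p.refl fr.ee (l := σ (LinearMap.det k.toLinearMap)) (by rwa [p.inv])
  exact ⟨g * k, mul_mem a4 a1, by rw [det_mul_equiv, a5, mul_comm, a3], by simp [a2, a6, fr.ea]⟩

theorem eich (fr : Fm h a e b) (l : F) : ∃ g ∈ h.O, LinearMap.det g.toLinearMap = 1 ∧ g a = a ∧
    g e = e + l • a ∧ ∃ m : F, g b = b - σ l • e + m • a := by
  have := p.fd
  obtain ⟨s, hs⟩ := exists_eichData (p.sing fr.aa) (e := σ l • e) (by simp [fr.ae])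
  obtain ⟨g, hg⟩ := exists_eich p.nd hs
  refine ⟨g, mem_O_of_eich hs hg, mem_SLv.1 (det_of_eich p.nd hs hg), ?_, ?_, -σ s, ?_⟩ <;>
    simp [hg, eichler_apply, fr.aa, fr.ea, fr.ee, fr.ae, fr.ab, fr.eb, p.inv, p.ε]
  module

theorem torus (fr : Fm h a e b) {m : F} (hm : m ≠ 0) : ∃ g ∈ h.O,
    LinearMap.det g.toLinearMap = 1 ∧ g a = m • a ∧ g e = (σ m / m) • e ∧ g b = (σ m)⁻¹ • b := by
  have := p.fd
  have hm' : σ m ≠ 0 := by simpa
  have hh : Hyp h a b := ⟨p.sing fr.aa, p.sing fr.bb, fr.ab⟩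
  obtain ⟨k, a1, a2⟩ := p.nd.exists_hdiag hh (a := m) (b := (σ m)⁻¹) (mul_inv_cancel₀ hm')
  obtain ⟨g, a3, a4, a5⟩ := p.refl fr.ee (l := σ m / m) (by rw [map_div₀, p.inv]; field_simp)
  refine ⟨g * k.1, mul_mem a3 k.2, by rw [det_mul_equiv, a4, a1]; field_simp, ?_, ?_, ?_⟩
  · simp [a2, hdiag_left hh, a5, fr.ea]
  · simp [a2, hdiag_perp _ _ fr.ae fr.be, a5, fr.ee, sub_smul]
  · simp [a2, hdiag_right hh, a5, fr.eb]

end T3

/-- The tensor product of a hermitian plane and a hermitian three-space. -/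
structure Uc (Φ : Form σ V) (f : Form σ S) (h : Form σ W) (t : S →ₗ[F] W →ₗ[F] V) (q : ℕ) :
    Prop where
  ht : IsTensorProduct t
  hs : HS Φ q
  hw : T3 h q
  fn : f.Nondeg
  fe : f.ε = 1
  two : finrank F S = 2
  three : 3 ≤ q
  B : ∀ x w y w', Φ.B (t x w) (t y w') = f.B x y * h.B w w'

namespace Uc

variable {Φ : Form σ V} {f : Form σ S} {h : Form σ W} {t : S →ₗ[F] W →ₗ[F] V}
  (p : Uc Φ f h t q) {H : Subgroup (V ≃ₗ[F] V)} {a a' e b w : W} {u u' : S} {c s : F}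
  {ζ ζ' : End F S}
include p

/-- The contraction with `h u`. -/
noncomputable abbrev cv (u : W) : V →ₗ[F] S := cov F p.ht (h.B u)

theorem B_t (x : S) (u : W) (v : V) : Φ.B (t x u) v = f.B x (p.cv u v) :=
  ext_t p.ht (f := Φ.B (t x u)) (f' := f.B x ∘ₗ p.cv u) (by simp [p.B, mul_comm]) v

theorem cv_smul (c : F) (w : W) (v : V) : p.cv (c • w) v = σ c • p.cv w v := by
  rw [cv, LinearMap.map_smulₛₗ, cov_smul_left]

theorem fd : FiniteDimensional F S := finite_of_finrank_pos (by rw [p.two]; omega)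

theorem nt : Nontrivial S := Module.nontrivial_of_finrank_pos (R := F) (by rw [p.two]; omega)

theorem fsy (x y : S) : f.B y x = σ (f.B x y) := by rw [f.symm, p.fe, one_mul]

theorem hyp' (hu : f.B u u = 0) (u0 : u ≠ 0) : ∃ u', Hyp f u u' ∧ f.B u' u = 1 := by
  have := p.fd
  obtain ⟨b, b3⟩ := exists_hyp p.fn ⟨hu, Q_of_κ (κ_of_ne_id p.hs.ne) u⟩ u0
  exact ⟨b, b3, by rw [b3.B_symm, p.fe]⟩

theorem hyp : ∃ u u', Hyp f u u' ∧ f.B u' u = 1 := by
  have := p.fd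
  obtain ⟨a, -, b1, b2⟩ := exists_sing_of_herm (Φ := f) p.hs.ne p.fe (T := ⊤) (by simp [p.two])
  exact ⟨a, p.hyp' b2.1 b1⟩

theorem dec (fr : Fm h a e b) (v : V) :
    v = t (p.cv b v) a + t (p.cv e v) e + t (p.cv a v) b :=
  ext_t p.ht (f := LinearMap.id) (f' := vec F t a ∘ₗ p.cv b + vec F t e ∘ₗ p.cv e +
    vec F t b ∘ₗ p.cv a) (fun x w => (congrArg (t x) (fr.span w)).trans (by simp)) v

theorem dec' (hf : Hyp f u u') (v : V) : ∃ y z, v = t u y + t u' z :=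
  p.ht.inductionOn v ⟨0, 0, by simp⟩ (fun x w => by
    obtain ⟨c, d, rfl⟩ := span_hyp p.two hf x
    exact ⟨c • w, d • w, by simp⟩) (by
      rintro _ _ ⟨y, z, rfl⟩ ⟨y', z', rfl⟩
      exact ⟨y + y', z + z', by simp; abel⟩)

theorem tens {a : S ≃ₗ[F] S} {b : W ≃ₗ[F] W} (ha : a ∈ f.O) (ha' : LinearMap.det a.toLinearMap = 1)
    (hb : b ∈ h.O) (hb' : LinearMap.det b.toLinearMap = 1) :
    ∃ m ∈ Tg F t ⊓ Φ.E, (∀ x y, m (t x y) = t (a x) (b y)) ∧
      ∀ y v, p.cv (b y) (m v) = a (p.cv y v) := by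
  have := p.fd
  have := p.hw.fd
  obtain ⟨m, a1, a2, a3⟩ := exists_tens_det p.ht ha' hb'
  refine ⟨m, ⟨a1, p.hs.mem_E.2 ⟨mem_O_of_κ p.hs.kap fun v v' => ?_, a2⟩⟩, a3, fun y =>
    ext_t p.ht (f := p.cv (b y) ∘ₗ m.toLinearMap) (f' := a.toLinearMap ∘ₗ p.cv y)
      (by simp [a3, hb.1])⟩
  refine p.ht.inductionOn v (by simp) (fun x y => ?_) fun _ _ e e' => by simp [e, e']
  exact ext_t p.ht (f := Φ.B (m (t x y)) ∘ₗ m.toLinearMap) (f' := Φ.B (t x y))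
    (by simp [a3, p.B, ha.1, hb.1]) v'

theorem tw {b : W ≃ₗ[F] W} (hb : b ∈ h.O) (hb' : LinearMap.det b.toLinearMap = 1) :
    ∃ m ∈ Tg F t ⊓ Φ.E, (∀ x y, m (t x y) = t x (b y)) ∧ ∀ y v, p.cv (b y) (m v) = p.cv y v :=
  p.tens (one_mem _) (by simp) hb hb'

theorem tv (ha : h.B a a = 0) (hc : c + σ c = 0) :
    ∃ g ∈ Tg F t ⊓ Φ.E, ∀ v, g v = v + c • t (p.cv a v) a := by
  have := p.hw.fd
  obtain ⟨b, a1, a2, a3⟩ := p.hw.nd.exists_qrefl p.hw.kap (d := a) (c := c)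
    (by simp [p.hw.ε, hc, ha])
  obtain ⟨m, a4, a5, -⟩ := p.tw a1 (by simp [a2, ha])
  exact ⟨m, a4, ext_t p.ht (f := m.toLinearMap) (f' := LinearMap.id + c • vec F t a ∘ₗ p.cv a)
    (by simp [a5, a3, mul_smul])⟩

variable (H) in
/-- The centre of the unipotent radical of the stabiliser of a block. -/
def ZA (ha : h.B a a = 0) : AddSubgroup (End F S) where
  carrier := {ζ | ∃ g ∈ H, ∀ v, g v = v + t (ζ (p.cv a v)) a}
  add_mem' := fun ⟨g, a1, a2⟩ ⟨k, a3, a4⟩ =>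
    ⟨g * k, mul_mem a1 a3, fun v => by simp [a2, a4, ha]; abel⟩
  zero_mem' := ⟨1, one_mem _, by simp⟩
  neg_mem' := fun ⟨g, a1, a2⟩ => ⟨g⁻¹, inv_mem a1, fun v => g.symm_apply_eq.2 (by simp [a2, ha])⟩

variable (hM : Tg F t ⊓ Φ.E ≤ H) (hH : H ≤ Φ.O)
include hM

theorem za_move (ha : h.B a a = 0) (a0 : a ≠ 0) (ha' : h.B a' a' = 0) (a0' : a' ≠ 0)
    (h1 : ζ ∈ p.ZA H ha) : ζ ∈ p.ZA H ha' := by
  obtain ⟨g, a1, a2⟩ := h1
  obtain ⟨k, a3, a4, rfl⟩ := p.hw.trans ha a0 ha' a0'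
  obtain ⟨m, a5, a6, a7⟩ := p.tw a3 a4
  refine ⟨m * g * m⁻¹, mul_mem (mul_mem (hM a5) a1) (inv_mem (hM a5)), fun v => ?_⟩
  obtain ⟨v, rfl⟩ := m.surjective v
  simp [a2, a6, a7]

theorem za_smul (ha : h.B a a = 0) (a0 : a ≠ 0) (h1 : ζ ∈ p.ZA H ha) (hc : σ c = c) :
    c • ζ ∈ p.ZA H ha := by
  obtain ⟨x, rfl⟩ := exists_norm_eq_of_invol p.hs.ne p.hs.inv hc
  by_cases e : x = 0
  · simp [e]
  obtain ⟨g, a1, a2⟩ := p.za_move hM ha a0 (a' := x • a) (by simp [ha]) (by simp [e, a0]) h1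
  exact ⟨g, a1, fun v => by simp [a2, cv_smul, smul_smul, mul_comm]⟩

theorem za_conj (ha : h.B a a = 0) (h1 : ζ ∈ p.ZA H ha) (hu : f.B u u = 0) (hc : c + σ c = 0) :
    (1 + c • (f.B u).smulRight u) * ζ * (1 - c • (f.B u).smulRight u) ∈ p.ZA H ha := by
  have := p.fd
  obtain ⟨g, a0, a6⟩ := h1
  obtain ⟨b, a1, a2, a3⟩ := p.fn.exists_qrefl (κ_of_ne_id p.hs.ne) (d := u) (c := c)
    (by simp [p.fe, hc, hu])
  obtain ⟨m, a4, a5, a7⟩ := p.tens a1 (by simp [a2, hu]) (one_mem _) (by simp)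
  refine ⟨m * g * m⁻¹, mul_mem (mul_mem (hM a4) a0) (inv_mem (hM a4)), fun v => ?_⟩
  obtain ⟨v, rfl⟩ := m.surjective v
  replace a7 : p.cv a (m v) = b (p.cv a v) := a7 a v
  simp [a6, a5, a7, a3, hu, mul_smul]

include hH

theorem za_rank (ha : h.B a a = 0) (a0 : a ≠ 0) (h1 : ζ ∈ p.ZA H ha) (hu : f.B u u = 0)
    (h2 : f.B u (ζ u) ≠ 0) (hc : c + σ c = 0) : c • (f.B u).smulRight u ∈ p.ZA H ha := by
  obtain ⟨s, s0, hs⟩ := p.hs.exists_tz
  obtain ⟨m, m1, m0, m2⟩ := p.hs.exists_fix p.three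
  obtain ⟨e, b, fr⟩ := p.hw.exists_fm ha a0
  have a1 : σ (f.B u (ζ u)) = -f.B u (ζ u) := by
    obtain ⟨g, b1, b2⟩ := h1
    have := (hH b1).1 (t u b) (t u b)
    simp [b2, p.B, fr.ab, fr.ba, fr.aa, fr.bb, p.fsy u (ζ u)] at this
    linear_combination this
  have a2 : m * (m - 1) * s ^ 2 * f.B u (ζ u) ≠ 0 := by simp [m0, s0, h2, sub_ne_zero.2 m2]
  convert p.za_smul hM ha a0 (sub_mem (p.za_smul hM ha a0 (sub_mem (p.za_conj hM ha h1 hu hs) h1) m1)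
    (sub_mem (p.za_conj hM ha h1 hu (c := m * s) (by
      rw [map_mul, m1]; linear_combination m * hs)) h1))
    (c := c / (m * (m - 1) * s ^ 2 * f.B u (ζ u))) (by
      simp [m1, a1, ← neg_eq_of_add_eq_zero_right hs, ← neg_eq_of_add_eq_zero_right hc,
        neg_div_neg_eq]) using 1
  ext v
  rw [LinearMap.smul_apply _ _ v, LinearMap.smul_apply _ _ v, div_eq_inv_mul, mul_smul,
    eq_inv_smul_iff₀ a2]
  simp
  module

theorem qr_all (ha : h.B a a = 0) (a0 : a ≠ 0) (h1 : ζ ∈ p.ZA H ha) (hu : f.B u u = 0)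
    (h2 : f.B u (ζ u) ≠ 0) (x : S) (hx : f.B x x = 0) (w : W) (hw : h.B w w = 0) (s : F)
    (hs : s + σ s = 0) : QR Φ H (t x w) s := by
  by_cases w0 : w = 0
  · exact ⟨1, one_mem _, by simp [w0]⟩
  by_cases x0 : x = 0
  · exact ⟨1, one_mem _, by simp [x0]⟩
  obtain ⟨c, c0, hc⟩ := p.hs.exists_tz
  have a1 : ∀ {u x}, c • (f.B u).smulRight u ∈ p.ZA H ha → f.B x x = 0 → f.B u x ≠ 0 → ∀ {s},
      s + σ s = 0 → s • (f.B x).smulRight x ∈ p.ZA H ha := fun h1 hx h2 s hs =>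
    p.za_rank hM hH ha a0 h1 hx (by simp [c0, h2, mt f.B_eq_zero_symm h2]) hs
  have a2 := p.za_rank hM hH ha a0 h1 hu h2 hc
  obtain ⟨u', a3, a4⟩ := p.hyp' hu (by rintro rfl; simp at h2)
  have a5 : s • (f.B x).smulRight x ∈ p.ZA H ha := by
    by_cases e : f.B u x = 0
    · refine a1 (a1 a2 a3.right.1 (by simp [a3.one]) hc) hx (fun e' => x0 ?_) hs
      obtain ⟨α, β, rfl⟩ := span_hyp p.two a3 x
      simp [hu, a3.one, a4, a3.right.1] at e e'
      simp [e, e']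
    exact a1 a2 hx e hs
  obtain ⟨g, b1, b2⟩ := p.za_move hM ha a0 hw w0 a5
  exact ⟨g, b1, fun v => by simp [b2, p.B_t, mul_smul]⟩

theorem win (h1 : ∀ x, f.B x x = 0 → ∀ w, h.B w w = 0 → ∀ s, s + σ s = 0 → QR Φ H (t x w) s) :
    Φ.E ≤ H := by
  have := p.hw.fd
  have := p.hs.fd
  obtain ⟨u, u', hf, hu⟩ := p.hyp
  obtain ⟨a, a0, ha, -⟩ := p.hw.iso_perp 0
  obtain ⟨e, b, fr⟩ := p.hw.exists_fm ha a0
  obtain ⟨s, s0, hs⟩ := p.hs.exists_tz
  have hs' : σ s = -s := (neg_eq_of_add_eq_zero_right hs).symm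
  obtain ⟨ρ, hρ⟩ := exists_add_conj_eq_one p.hs.ne p.hs.inv
  have a1 : ∀ x, f.B x x = 0 → ∀ w, h.B w w = 0 → h.B w a + h.B a w = 0 →
      Φ.AIn H (t x a) (t x (s • w)) := fun x hx w hw e => by
    simpa using p.hs.aIn_add (a := t x a) (v := t x w) (by simp [p.B, hx]) (by simp [p.B, hx])
      (by simp [p.B, hx]) (p.hs.aIn_of_qr (h1 x hx a ha)) (p.hs.aIn_of_qr (h1 x hx w hw))
      (by simpa using p.hs.aIn_of_qr (h1 x hx (w + a) (by simp [hw, ha, e]))) hs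
  have a2 : ∀ x, f.B x x = 0 → Sing Φ (t x a) := fun x hx => p.hs.sing (by simp [p.B, hx])
  have a3 : ∀ x, f.B x x = 0 → Φ.AIn H (t x a) (t x ((s * s) • b)) := fun x hx => by
    simpa [smul_smul] using a1 x hx (s • b) (by simp [fr.bb]) (by
      simp [B_smul_left, fr.ab, fr.ba, hs'])
  have a4 : ∀ x, f.B x x = 0 → ∀ l : F, Φ.AIn H (t x a) (t x (l • e)) := fun x hx l => by
    have := ((a1 x hx (s • b + (l / s) • e + (ρ * (σ (l / s) * (l / s)) / s) • a) (by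
      generalize l / s = k
      simp only [map_add, LinearMap.add_apply, B_smul_left, B_smul_right, fr.aa, fr.bb, fr.ab,
        fr.ba, fr.ee, fr.ae, fr.ea, fr.be, fr.eb, map_div₀, map_mul, p.hs.inv, hs']
      field_simp
      linear_combination -(s ^ 2 * k * σ k) * hρ) (by
        simp [B_smul_left, fr.aa, fr.ab, fr.ba, fr.ae, fr.ea, hs'])).sub (a2 x hx)
          (a3 x hx)).add_smul (a2 x hx) (-(ρ * (σ (l / s) * (l / s))))
    convert this using 1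
    simp only [smul_add, smul_smul, mul_div_cancel₀ _ s0, map_add, map_smul]
    module
  have a5 : ∀ l : F, ∃ g ∈ H, g (t u a) = t u a ∧ g (t u b) = t u b - t u' (l • e) ∧
      g (t u e) = t u e + σ l • t u' a := fun l => by
    obtain ⟨g, b1, b2⟩ := (a4 u' hf.right.1 l).2 0 (p.hs.eich (a2 u' hf.right.1).1
      (by simp [p.B, hf.right.1]) (by simp [p.B, hf.right.1]))
    refine ⟨g, b1, ?_, ?_, ?_⟩ <;>
      simp [b2, eichler_apply, p.B, fr.aa, fr.ea, fr.ee, fr.ae, fr.ab, fr.eb, p.hs.ε, hu,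
        B_smul_left, sub_eq_add_neg]
  have a6 : ∀ l : F, Φ.AIn H (t u a) (t u' (l • e)) := fun l => by
    obtain ⟨g, b1, b2, b3, -⟩ := a5 (l / (s * s))
    have := (a3 u hf.left.1).conj b1 (hH b1)
    rw [b2, map_smul, map_smul, b3] at this
    convert (a3 u hf.left.1).sub (a2 u hf.left.1) this using 1
    simp [smul_sub, smul_smul, s0]
    congr 1; field_simp
  have a7 : ∀ l : F, Φ.AIn H (t u a) (t u' (l • a)) := fun l => by
    obtain ⟨g, b1, b2, -, b3⟩ := a5 (σ l)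
    have := (a4 u hf.left.1 1).conj b1 (hH b1)
    rw [b2, one_smul, b3, p.hs.inv] at this
    simpa using this.sub (a2 u hf.left.1) (a4 u hf.left.1 1)
  have a8 : ∀ l : F, Φ.AIn H (t u a) (t u (l • b)) := fun l => by
    by_cases l0 : l = 0
    · simpa [l0] using a4 u hf.left.1 0
    have : σ l ≠ 0 := by simpa
    exact p.hs.aIn_tv hH (a2 u hf.left.1).1 (a7 (s * σ l)⁻¹)
      (h1 u hf.left.1 _ (by simp [fr.bb]) s hs) (by simp [p.B, hf.left.1, -map_smul]) (by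
        simp only [p.B, B_smul_left, B_smul_right, hf.one, fr.ba]; field_simp)
  obtain ⟨g, b1, b2⟩ := h1 u' hf.right.1 b fr.bb s hs
  refine E_le_of_qIn_of_mem p.hs.nd (a2 u hf.left.1) (qIn_iff.2 fun v hv => ?_) b1 (hH b1)
    (by simp [b2, p.B, ha, hf.one, hu, fr.ab, fr.ba, s0])
  obtain ⟨y, z, rfl⟩ := p.dec' hf v
  have b3 : h.B a z = 0 := by simpa [p.B, hf.left.1, hf.one] using hv
  convert ((((a4 u hf.left.1 (h.B e y)).add (a2 u hf.left.1) (a8 (h.B a y))).add (a2 u hf.left.1)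
    (a6 (h.B e z))).add (a2 u hf.left.1) (a7 (h.B b z))).add_smul (a2 u hf.left.1) (h.B b y)
    using 1
  conv_lhs => rw [fr.span y, fr.span z]
  simp [b3]
  abel

theorem za_rat (hN : ¬ Φ.E ≤ H) (ha : h.B a a = 0) (a0 : a ≠ 0) (h1 : ζ ∈ p.ZA H ha) :
    ∃ c : F, ∀ x, ζ x = c • x :=
  scalar_of_iso p.hs.toHF p.fn p.fe p.two fun _ _ hu => by_contra fun h2 =>
    hN (p.win hM hH (p.qr_all hM hH ha a0 h1 hu h2))

end Uc

end H23.Uf
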