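import Cfsg.Agent.H23.Uf1
import Cfsg.Agent.H23.Fr5
import Cfsg.Agent.H23.Zd0

/-! Maximality of the stabiliser of an orthonormal frame in the special unitary group. -/

set_option autoImplicit false

namespace H23.Uf

open Module H22 Cfsg Cfsg.Geo Form Finset Fr

/-- the product of `R` with the largest subgroup of `H` normalised by `R` -/
def KR {G : Type*} [Group G] (H R : Subgroup G) : Subgroup G where
  carrier := {k | ∃ r ∈ R, ∀ s ∈ R, s * (k * r) * s⁻¹ ∈ H}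
  one_mem' := ⟨1, one_mem _, by simp⟩
  mul_mem' := fun ⟨r, a1, a2⟩ ⟨r', a3, a4⟩ => ⟨r' * r, mul_mem a3 a1, fun s hs => by
    simpa [mul_assoc] using mul_mem (a2 s hs) (a4 _ (mul_mem hs (inv_mem a1)))⟩
  inv_mem' := fun ⟨r, a1, a2⟩ => ⟨r⁻¹, inv_mem a1, fun s hs => by
    simpa [mul_assoc] using inv_mem (a2 _ (mul_mem hs a1))⟩

variable {F V : Type*} [Field F] {σ : F →+* F} [AddCommGroup V] [Module F V]
  {ι : Type} [Fintype ι] [DecidableEq ι]

namespace UF

variable [Fintype F] {Φ : Form σ V} {b : Basis ι F V} {q : ℕ} (h : UF Φ b q)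
  {H : Subgroup (V ≃ₗ[F] V)} {x y z v r : V} {i j k l : ι} {g t : V ≃ₗ[F] V}
include h

/-- the homologies with centre `b i` -/
def RR (i : ι) : Subgroup (V ≃ₗ[F] V) where
  carrier := {g | ∃ l, σ l * l = 1 ∧ ∀ v, g v = v + ((l - 1) * Φ.B (b i) v) • b i}
  one_mem' := ⟨1, by simp⟩
  mul_mem' := fun ⟨l, a1, a2⟩ ⟨l', a3, a4⟩ => ⟨l * l', by
    rw [map_mul]; linear_combination (σ l' * l') * a1 + a3, fun v => by
      simp [a2, a4, h.orth]; module⟩
  inv_mem' := fun {g} ⟨l, a1, a2⟩ => ⟨σ l, by rw [h.inv, mul_comm, a1], fun v =>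
    g.symm_apply_eq.2 (by
      simp [a2, h.orth]; match_scalars <;> [ring; linear_combination -Φ.B (b i) v * a1])⟩

theorem card_moved (ht : t ∈ Mb F b) (n : ℕ) : ∀ W : Submodule F V, finrank F W ≤ n →
    ∀ T : Finset ι, (∀ j ∈ T, t (b j) ≠ b j ∧ b j - t (b j) ∈ W) → #T ≤ 2 * n := by
  have := b.finiteDimensional_of_finite
  obtain ⟨s, a, ha⟩ := exists_mb ht
  induction n with
  | zero =>
    intro W hW T hT
    obtain rfl := Submodule.finrank_eq_zero.1 (Nat.le_zero.1 hW)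
    exact Nat.le_zero.2 (card_eq_zero.2 (eq_empty_of_forall_notMem fun j hj =>
      (hT j hj).1 (sub_eq_zero.1 (hT j hj).2).symm))
  | succ n ih =>
    intro W hW T hT
    rcases T.eq_empty_or_nonempty with rfl | ⟨j, hj⟩
    · simp
    have a1 : W ⊓ LinearMap.ker (Φ.B (b j)) < W := lt_of_le_of_ne inf_le_left fun e => by
      have := (e.ge (hT j hj).2).2
      by_cases e' : j = s j
      · exact (hT j hj).1 (by simp [ha, ← e', h.orth, sub_eq_zero] at this; simp [ha, ← e', ← this])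
      · simp [ha, h.orth, e'] at this
    have := ih _ (Nat.lt_succ_iff.1 ((Submodule.finrank_lt_finrank_of_lt a1).trans_le hW))
      ((T.erase j).erase (s.symm j)) fun p hp => by
        simp only [mem_erase, ne_eq, Equiv.eq_symm_apply] at hp
        exact ⟨(hT p hp.2.2).1, (hT p hp.2.2).2, by simp [ha, h.orth, Ne.symm hp.1, Ne.symm hp.2.1]⟩
    have := pred_card_le_card_erase (s := T.erase j) (a := s.symm j)
    have := pred_card_le_card_erase (s := T) (a := j)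
    omega

theorem exists_fixed (ht : g⁻¹ * t * g ∈ Mb F b) (L : List V)
    (hW : ∀ v, v - t v ∈ Submodule.span F {x | x ∈ L}) :
    ∃ T : Finset ι, Fintype.card ι ≤ #T + 2 * L.length ∧ ∀ j ∈ T, t (g (b j)) = g (b j) := by
  classical
  have := h.card_moved ht _ _ ((LinearEquiv.finrank_map_eq g⁻¹ _).le.trans (finrank_span_list_le L))
    {j | ¬ t (g (b j)) = g (b j)} fun j hj => ⟨fun e => (mem_filter.1 hj).2 (g.symm_apply_eq.1 e),
      _, hW (g (b j)), by simp⟩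
  have e := card_filter_add_card_filter_not (s := univ) fun j => t (g (b j)) = g (b j)
  exact ⟨univ.filter fun j => t (g (b j)) = g (b j), by rw [card_univ] at e; omega, by simp⟩

variable (hn : 10 ≤ Fintype.card ι)
include hn

theorem mem_E : g ∈ Φ.E ↔ g ∈ Φ.O ∧ LinearMap.det g.toLinearMap = 1 := by
  have := b.finiteDimensional_of_finite
  rw [E_herm h.ne h.nd h.ε (by rw [finrank_eq_card_basis b]; omega), Subgroup.mem_inf, mem_SLv]

theorem exists_perm (hij : i ≠ j) (hkl : k ≠ l) : ∃ m ∈ Mb F b ⊓ Φ.E,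
    ∀ p, m (b p) = b (Equiv.swap k l (Equiv.swap i j p)) := by
  obtain ⟨g, a1, a2, a3⟩ := h.exists_swap hij
  obtain ⟨g', a4, a5, a6⟩ := h.exists_swap hkl
  exact ⟨g' * g, ⟨mul_mem a4.1 a1.1, (h.mem_E hn).2 ⟨mul_mem a4.2 a1.2, by simp [a2, a5]⟩⟩,
    fun p => h.ext fun r => by simp [a3, a6, h.orth, Equiv.swap_apply_eq_iff]⟩

theorem exists_dd (hik : i ≠ k) (hil : i ≠ l) (hkl : k ≠ l) {x y z : F} (hx : σ x * x = 1)
    (hy : σ y * y = 1) (hz : σ z * z = 1) (e : x * y * z = 1) : ∃ m ∈ Mb F b ⊓ Φ.E, ∀ v, m v = v +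
      ((x - 1) * Φ.B (b i) v) • b i + ((y - 1) * Φ.B (b k) v) • b k +
        ((z - 1) * Φ.B (b l) v) • b l := by
  obtain ⟨g, a1, a2, a3⟩ := h.exists_r i hx
  obtain ⟨g', a4, a5, a6⟩ := h.exists_r k hy
  obtain ⟨g'', a7, a8, a9⟩ := h.exists_r l hz
  exact ⟨g'' * g' * g, ⟨mul_mem (mul_mem a7.1 a4.1) a1.1, (h.mem_E hn).2
    ⟨mul_mem (mul_mem a7.2 a4.2) a1.2, by simp [a2, a5, a8]; linear_combination e⟩⟩,
    fun v => by simp [a3, a6, a9, h.orth, hik.symm, hil.symm, hkl.symm]⟩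

variable (hM : Mb F b ⊓ Φ.E ≤ H) (hH : H ≤ Φ.E) (hne : ¬ Φ.E ≤ H)
include hM hH hne

theorem st (hg : g ∈ H) (hij : g (b i) ∈ F ∙ b j) : g ∈ Mb F b := by
  have := b.finiteDimensional_of_finite
  have hO := E_le_O (hH hg)
  have a1 : ∀ s ∈ h.RR i, s ∈ Mb F b ⊓ Φ.O ∧ (LinearMap.det s.toLinearMap = 1 → s = 1) :=
    fun s ⟨l, b1, b2⟩ => by
      obtain ⟨r, b3, b4, b5⟩ := h.exists_r i b1
      obtain rfl : s = r := LinearEquiv.ext fun v => by rw [b2, b5]
      exact ⟨b3, fun e => LinearEquiv.ext fun v => by simp [b2, ← b4, e]⟩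
  have a2 : ∀ m ∈ Mb F b ⊓ Φ.O, m ∈ SLv F V → m ∈ H := fun m hm e =>
    hM ⟨hm.1, (h.mem_E hn).2 ⟨hm.2, mem_SLv.1 e⟩⟩
  by_contra hc
  have := h.E_le_of_notMem (K := KR H (h.RR i) ⊓ Φ.O) inf_le_right (fun m hm => by
    have b1 := h.nd.det_mul_σ_det_of_mem hm.2
    obtain ⟨r, b3, b4, b5⟩ := h.exists_r i (l := σ (LinearMap.det m.toLinearMap)) (by rwa [h.inv])
    exact ⟨⟨r, ⟨_, by rwa [h.inv], b5⟩, fun s hs => a2 _ (mul_mem (mul_mem (a1 s hs).1
      (mul_mem hm b3)) (inv_mem (a1 s hs).1)) (SLv_normal.conj_mem _ (mem_SLv.2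
      (by simp [b4, b1])) s)⟩, hm.2⟩) (by omega) ⟨⟨1, one_mem _, fun s hs => by
        obtain ⟨a, ha⟩ := Submodule.mem_span_singleton.1 hij
        obtain ⟨l, -, b2⟩ := inv_mem hs
        have b3 : g * s⁻¹ * g⁻¹ ∈ Mb F b := mem_dec fun p => ⟨p, h.mem_span fun r hr => by
          rw [LinearEquiv.mul_apply, LinearEquiv.mul_apply, b2, ← B_O_left hO]
          by_cases e : j = p <;> simp [← ha, h.orth, hr, e, B_smul_left]⟩
        simpa [mul_assoc] using mul_mem (a2 _ (mul_mem (a1 s hs).1 ⟨b3, Φ.O.mul_mem (Φ.O.mul_mem hO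
          (Φ.O.inv_mem (a1 s hs).1.2)) (Φ.O.inv_mem hO)⟩) (MonoidHom.mem_ker.2 (by
            simp [mul_comm (LinearEquiv.det g)]))) hg⟩, hO⟩ hc
  refine hne fun k hk => ?_
  obtain ⟨r, b1, b2⟩ := (this hk).1
  have b3 := b2 1 (one_mem _)
  simp only [one_mul, inv_one, mul_one] at b3
  have b4 := (a1 r b1).2 ((h.mem_E hn).1 ((Subgroup.mul_mem_cancel_left _ hk).1 (hH b3))).2
  simpa [b4] using b3

theorem tor (hg : g ∈ H) (hik : i ≠ k) (hil : i ≠ l) (hkl : k ≠ l) (h1 : Φ.B (b i) (g (b j)) = 0)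
    (h2 : Φ.B (b k) (g (b j)) = 0) (h3 : Φ.B (b l) (g (b j)) = 0) {m p : ι}
    (h4 : Φ.B (b i) (g (b m)) ≠ 0) (hi : p ≠ i) (hk : p ≠ k) (hl : p ≠ l) :
    Φ.B (b p) (g (b m)) = 0 := by
  have hO := E_le_O (hH hg)
  by_contra h5
  have key : ∀ x y : F, σ x * x = 1 → σ y * y = 1 → x ≠ 1 →
      (σ (Φ.B (b k) (g (b m))) * Φ.B (b k) (g (b m))) * y ^ 2 +
      (1 + (x - 1) * (σ (Φ.B (b i) (g (b m))) * Φ.B (b i) (g (b m))) -
        σ (Φ.B (b k) (g (b m))) * Φ.B (b k) (g (b m)) -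
        σ (Φ.B (b l) (g (b m))) * Φ.B (b l) (g (b m))) * y +
      σ x * (σ (Φ.B (b l) (g (b m))) * Φ.B (b l) (g (b m))) = 0 := fun x y hx hy e => by
    obtain ⟨d, a1, a2⟩ := h.exists_dd hn hik hil hkl hx hy (z := σ x * σ y) (by
      simp only [map_mul, h.inv]; linear_combination (σ y * y) * hx + hy) (by
      linear_combination (σ y * y) * hx + hy)
    obtain ⟨s, a, ha⟩ := exists_mb (h.st hn hM hH hne (mul_mem (mul_mem (inv_mem hg) (hM a1)) hg)
      (i := j) (j := j) (by simp [a2, h1, h2, h3]))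
    have a3 : d (g (b m)) = a m • g (b (s m)) := by rw [← map_smul, ← ha]; simp
    by_cases e' : m = s m
    · have a4 := congrArg (Φ.B (b p)) a3
      have a5 := congrArg (Φ.B (b i)) a3
      simp [a2, ← e', h.orth, hi, hk, hl, h5] at a4
      simp [a2, ← e', h.orth, hik, hil, a4, h4, sub_eq_zero, e] at a5
    have a4 := congrArg (Φ.B (g (b m))) a3
    simp only [a2, map_add, map_smul, hO.1, h.orth, if_neg e', if_pos, h.sy (b _) (g _),
      smul_eq_mul] at a4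
    linear_combination y * a4 - (σ x * (σ (Φ.B (b l) (g (b m))) * Φ.B (b l) (g (b m)))) * hy
  obtain ⟨x, a1, a2⟩ := h.exists_U [1] (by simpa using h.two_le.trans' one_le_two)
  simp only [List.mem_singleton] at a2
  obtain ⟨y, a3, a4⟩ := h.exists_U [1, x] h.two_le
  simp only [List.mem_cons, List.not_mem_nil, or_false, not_or] at a4
  obtain ⟨b1, b2⟩ := quad3 a2 (Ne.symm a4.2) (Ne.symm a4.1) (key x x a1 a1 a2)
    (key x 1 a1 (by simp) a2) (key x y a1 a3 a2)
  have b3 := (mul_eq_zero.1 b2).resolve_left (by rintro e; simp [e] at a1)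
  have b4 := key x 1 a1 (by simp) a2
  have b5 := key y 1 a3 (by simp) a4.1
  rw [b1, b3] at b4 b5
  exact mul_ne_zero (sub_ne_zero.2 a4.2) (mul_ne_zero ((map_ne_zero σ).2 h4) h4)
    (by linear_combination b5 - b4)

theorem of_zero (hg : g ∈ H) {Z : Finset ι} (hZ : 4 ≤ #Z) (h0 : ∀ p ∈ Z, Φ.B (b p) (g (b j)) = 0) :
    g ∈ Mb F b := by
  obtain ⟨i, hi⟩ := card_pos.1 (show 0 < #Z by omega)
  obtain ⟨m, hm⟩ : ∃ l, Φ.B (b i) (g (b l)) ≠ 0 := by
    by_contra! hc
    simpa [h.orth] using LinearMap.congr_fun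
      (b.ext (f₁ := Φ.B (b i) ∘ₗ g.toLinearMap) (f₂ := 0) hc) (g⁻¹ (b i))
  refine h.st hn hM hH hne hg (i := m) (j := i) (h.mem_span fun p hp => ?_)
  have := pred_card_le_card_erase (s := Z.erase i) (a := p)
  have := pred_card_le_card_erase (s := Z) (a := i)
  obtain ⟨k, hk, l, hl, hkl⟩ := one_lt_card.1 (show 1 < #((Z.erase i).erase p) by omega)
  simp only [mem_erase] at hk hl
  exact h.tor hn hM hH hne hg hk.2.1.symm hl.2.1.symm hkl (h0 i hi) (h0 k hk.2.2) (h0 l hl.2.2) hm hp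
    hk.1.symm hl.1.symm

theorem sg_fix (h2 : (2 : F) ≠ 0) (hg : g ∈ H) {S : Finset ι} (hk : IsSg b S t) (hO : t ∈ Φ.O)
    (h0 : S.Nonempty) (h4 : #S ≤ 4) (h1 : g⁻¹ * t * g ∈ Mb F b) : g ∈ Mb F b := by
  have hg' := E_le_O (hH hg)
  obtain ⟨T, e1, e2⟩ := h.exists_fixed h1 (S.toList.map b) fun v => by
    rw [← h.expand v, map_sum, ← sum_sub_distrib]
    refine Submodule.sum_mem _ fun p _ => ?_
    rw [map_smul, ← smul_sub, hk]
    split_ifs with e
    · exact Submodule.smul_mem _ _ (sub_mem (Submodule.subset_span (by simpa using ⟨p, e, rfl⟩))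
        (neg_mem (Submodule.subset_span (by simpa using ⟨p, e, rfl⟩))))
    · simp
  have e3 : ∀ j ∈ T, ∀ p ∈ S, Φ.B (b p) (g (b j)) = 0 := fun j hj p hp => by
    have := hO.1 (b p) (g (b j))
    rw [e2 j hj, hk, if_pos hp] at this
    exact mul_left_cancel₀ h2 (by simp at this; linear_combination -this)
  simp only [List.length_map, length_toList] at e1
  by_cases e : #S = 4
  · obtain ⟨j, hj⟩ := card_pos.1 (show 0 < #T by omega)
    exact h.of_zero hn hM hH hne hg e.ge (e3 j hj)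
  · obtain ⟨p, hp⟩ := h0
    refine (decL _).inv_mem_iff.1 (h.of_zero hn hM hH hne (H.inv_mem hg) (j := p) (Z := T)
      (by omega) fun j hj => ?_)
    rw [← B_O_left hg', h.sy, e3 j hj p hp, map_zero]

theorem le_odd (h2 : (2 : F) ≠ 0) : H ≤ Mb F b ⊓ Φ.E := by
  have := b.finiteDimensional_of_finite
  have : Finite V := Module.finite_of_finite F
  have : Finite (V ≃ₗ[F] V) := Finite.of_injective _ DFunLike.coe_injective
  obtain ⟨S, -, h4⟩ := exists_subset_card_eq (s := (univ : Finset ι)) (n := 4)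
    (by rw [card_univ]; omega)
  obtain ⟨i, j, k, l, hij, hik, hil, hjk, hjl, hkl, rfl⟩ := card_eq_four.1 h4
  obtain ⟨d, hdM, hd'⟩ := h.exists_dd hn hik hij hjk.symm (x := -1) (y := 1) (z := -1) (by simp)
    (by simp) (by simp) (by simp)
  have hd : IsSg b {i, j} d := fun p => by
    by_cases e1 : p = i
    · simp [hd', h.orth, e1, hij.symm]; module
    by_cases e2 : p = j
    · simp [hd', h.orth, e2, hij]; module
    · simp [hd', h.orth, e1, e2, Ne.symm e1, Ne.symm e2]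
  have fix : ∀ {S k}, IsSg b S k → k ∈ Mb F b ⊓ Φ.E → S.Nonempty → #S ≤ 4 →
      ∀ g ∈ H, g⁻¹ * k * g ∈ Mb F b ⊓ Φ.E → g ∈ Mb F b ⊓ Φ.E :=
    fun e1 e2 e3 e4 g hg e => ⟨h.sg_fix hn hM hH hne h2 hg e1 (E_le_O e2.2) e3 e4 e.1, hH hg⟩
  have cj : ∀ m ∈ Mb F b ⊓ Φ.E, ∃ S, #S ≤ 2 ∧ IsSg b S (m * d * m⁻¹) :=
    fun m ⟨⟨s, e⟩, _⟩ => ⟨_, (card_map _).le.trans card_le_two,
      hd.conj fun p => (e p).le ⟨_, Submodule.mem_span_singleton_self _, rfl⟩⟩
  have cm : ∀ {x}, x ∈ Mb F b ⊓ Φ.E → ∀ m ∈ Mb F b ⊓ Φ.E, m * x * m⁻¹ ∈ Mb F b ⊓ Φ.E :=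
    fun hx m hm => mul_mem (mul_mem hm hx) (inv_mem hm)
  have cs : ∀ S S' : Finset ι, #(symmDiff S S') ≤ #S + #S' := fun S S' =>
    (card_le_card symmDiff_le_sup).trans (card_union_le _ _)
  obtain ⟨m₀, hm₀, e₀⟩ := h.exists_perm hn hik hjl
  have e₁ : IsSg b {k, l} (m₀ * d * m₀⁻¹) := by
    convert hd.conj (s := (Equiv.swap i k).trans (Equiv.swap j l)) (m := m₀)
      fun p => by simp [e₀]
    simp [Equiv.swap_apply_def, hjk.symm, hkl, hij.symm, hjk]
  refine Zd.le_of Zd.zd hM hdM hd.sq (fix hd hdM (by simp) (card_le_two.trans (by omega)))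
    (fun m hm e _ => ?_) hm₀ (fun e => ?_) (by rw [sq, (hd.mul e₁).sq]) fun m hm e => ?_
  · obtain ⟨S, e1, e2⟩ := cj m hm
    exact fix (hd.mul e2) (mul_mem hdM (cm hdM m hm)) (symmDiff_nonempty.2 fun e' =>
      e (e2.eq (e' ▸ hd))) ((cs _ _).trans (by have := card_le_two (a := i) (b := j); omega))
  · have := (e ▸ e₁) i
    rw [hd, if_pos (by simp), if_neg (by simp [hik, hil]), neg_eq_iff_add_eq_zero, ← two_smul F]
      at this
    simp [h2, b.ne_zero] at this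
  obtain ⟨S, e1, e2⟩ := cj m hm
  have e3 := (hd.mul e₁).mul e2
  have e4 := mul_mem (mul_mem hdM (cm hdM m₀ hm₀)) (cm hdM m hm)
  have e5 : symmDiff {i, j} {k, l} = ({i, j, k, l} : Finset ι) := by
    ext p
    simp only [mem_insert, mem_singleton, mem_symmDiff]
    grind
  rw [e5] at e3
  obtain ⟨a, ha⟩ : (symmDiff {i, j, k, l} S).Nonempty :=
    symmDiff_nonempty.2 fun e => by rw [e] at h4; omega
  obtain ⟨a', a'', e6, e7, e8⟩ := one_lt_card_iff.1 (show 1 < #(symmDiff {i, j, k, l} S)ᶜ by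
    have := cs {i, j, k, l} S
    rw [card_compl]; omega)
  generalize symmDiff {i, j, k, l} S = T at *
  generalize d * (m₀ * d * m₀⁻¹) * (m * d * m⁻¹) = n at *
  rw [mem_compl] at e6 e7
  have e9 : a ≠ a' := by rintro rfl; exact e6 ha
  have e10 : a ≠ a'' := by rintro rfl; exact e7 ha
  obtain ⟨m₁, hm₁, e₂⟩ := h.exists_perm hn e9 e8
  have e₃ := e3.mul (e3.conj (s := (Equiv.swap a a').trans (Equiv.swap a' a'')) (m := m₁)
    fun p => by simp [e₂])
  refine fun g hg => fix e₃ (mul_mem e4 (cm e4 _ hm₁)) ⟨a, ?_⟩ ((card_le_card (t := {a, a', a''})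
    fun p hp => by_contra fun e => ?_).trans (card_le_three.trans (by omega))) g hg ?_
  · rw [mem_symmDiff, mem_map_equiv]
    simp [ha, Equiv.swap_apply_def, e9, e10, e6]
  · simp only [mem_insert, mem_singleton, not_or] at e
    rw [mem_symmDiff, mem_map_equiv] at hp
    simp [Equiv.swap_apply_def, e] at hp
  · simpa [mul_assoc] using mul_mem (e g hg) (e _ (mul_mem (inv_mem (hM hm₁)) hg))

omit hn hM hH hne in
open Classical in
theorem wt_le {c : F} (hc : c ≠ 0) (ht : t ∈ Mb F b) (e : ∀ x, t x = x + (c * Φ.B v x) • v) :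
    #{p | Φ.B (b p) v ≠ 0} ≤ 2 := by
  by_cases h0 : v = 0
  · simp [h0]
  exact h.card_moved ht 1 (F ∙ v) (finrank_span_singleton h0).le _ fun j hj => by
    simpa [e, hc, h0, h.sy (b j) v, Submodule.smul_mem, Submodule.mem_span_singleton_self] using hj

variable (h2 : (2 : F) = 0)
include h2

open Classical in
theorem wt_le_of_perp (hv : QR Φ H v 1) (hik : i ≠ k)
    (h1 : σ (Φ.B (b i) v) * Φ.B (b i) v = σ (Φ.B (b k) v) * Φ.B (b k) v) :
    #{p | Φ.B (b p) v ≠ 0} ≤ 2 := by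
  have key : ∀ {v p}, QR Φ H v 1 → Φ.B (b p) v = 0 → #{p | Φ.B (b p) v ≠ 0} ≤ 2 :=
    fun {v p} ⟨t, a1, a2⟩ e => h.wt_le one_ne_zero (h.st hn hM hH hne a1 (i := p) (j := p)
      (by simp [a2, Φ.B_eq_zero_symm e])) a2
  by_cases e : ∃ p, Φ.B (b p) v = 0
  · exact key hv e.choose_spec
  push Not at e
  obtain ⟨p₀, a1⟩ := exists_notMem_list [i, k] (by simp; omega)
  simp only [List.mem_cons, List.not_mem_nil, or_false, not_or] at a1
  have a0 := card_le_three (a := i) (b := k) (c := p₀)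
  obtain ⟨S, a2, a3⟩ := exists_subset_card_eq (s := {i, k, p₀}ᶜ) (n := 4) (by rw [card_compl]; omega)
  obtain ⟨w, a4, a5⟩ := h.exists_U [1] (by simpa using h.two_le.trans' one_le_two)
  obtain ⟨f, b1, b2, b3⟩ := h.exists_fun a3 (a := fun p => σ (Φ.B (b p) v) * Φ.B (b p) v)
    (f := fun p => if p = p₀ then 1 else w) (fun p _ => ⟨by simp [h.inv, mul_comm], by simp [e]⟩)
    (fun p => by split_ifs <;> simp [a4]) 1
  obtain ⟨d, b4, b5, b6⟩ := h.exists_diag b1
  have := b.finiteDimensional_of_finite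
  have b7 := h.nd.det_mul_σ_det_of_mem b4.2
  obtain ⟨ν, b8⟩ := FiniteField.isSquare_of_char_two
    (CharP.ringChar_of_prime_eq_zero Nat.prime_two (by simpa)) (σ (LinearMap.det d.toLinearMap))
  have b9 : σ ν * ν = 1 := sub_eq_zero.1 (pow_eq_zero_iff two_ne_zero |>.1 (by
    have := congrArg σ b8
    rw [h.inv, map_mul] at this
    rw [b8, this] at b7
    linear_combination b7 + (1 - σ ν * ν) * h2))
  obtain ⟨r, c1, c2, c3⟩ := h.exists_r i b9
  obtain ⟨r', c4, c5, c6⟩ := h.exists_r k b9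
  have c7 : r' * r * d ∈ H := hM ⟨mul_mem (mul_mem c4.1 c1.1) b4.1, (h.mem_E hn).2
    ⟨mul_mem (mul_mem c4.2 c1.2) b4.2, by simp [c2, c5, ← b8, mul_comm, b7]⟩⟩
  have c8 : ∀ p ∈ ({i, k, p₀} : Finset ι), p ∉ S := fun p hp e => mem_compl.1 (a2 e) hp
  obtain ⟨t, d1, d2⟩ := id hv
  have d3 := (hv.conj c7 (E_le_O (hH c7))).conj d1 (E_le_O (hH d1))
  have d4 : Φ.B v (d v) = 1 := by rw [h.B_sum, ← b3]; simp [b6, mul_left_comm]
  have d5 : Φ.B v ((r' * r * d) v) = 1 := by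
    simp [c3, c6, d4, b6, h.orth, hik.symm, h.sy (b _) v, b2 i (c8 i (by simp)),
      b2 k (c8 k (by simp)), Ne.symm a1.1, Ne.symm a1.2]
    linear_combination (ν - 1) * w * h1 + (ν - 1) * w * (σ (Φ.B (b k) v) * Φ.B (b k) v) * h2
  rw [d2, d5] at d3
  have d6 := key d3 (p := p₀) (by
    simp [c3, c6, b6, h.orth, a1, b2 p₀ (c8 p₀ (by simp))]; linear_combination Φ.B (b p₀) v * h2)
  refine absurd ((card_le_card (s := ({i, k, p₀} ∪ S)ᶜ) fun p hp => ?_).trans d6) (by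
    have := card_union_le {i, k, p₀} S
    rw [card_compl]; omega)
  simp only [mem_compl, mem_union, mem_insert, mem_singleton, not_or] at hp
  simp only [mem_filter, mem_univ, true_and]
  simp [c3, c6, b6, h.orth, hp, b2 p hp.2]
  exact fun e' => mul_ne_zero (sub_ne_zero.2 (by simpa using a5 : w ≠ 1)) (e p)
    (by linear_combination e' - Φ.B (b p) v * h2)

omit hM hH hne in
theorem qr_root (hik : i ≠ k) {x : F} (hx : σ x * x = 1) :
    QR Φ (Mb F b ⊓ Φ.E) (x • b i + b k) 1 := by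
  have a0 : Φ.B (x • b i + b k) (x • b i + b k) = 0 := by
    simp [h.orth, hik, hik.symm, B_smul_left]; linear_combination hx + h2
  obtain ⟨g, a1, a2, a3⟩ := h.exists_qr (d := x • b i + b k) (c := 1) (by
    rw [a0]; simpa [one_add_one_eq_two])
  refine ⟨g, ⟨mem_dec fun p => ⟨Equiv.swap i k p, h.mem_span fun r hr => ?_⟩,
    (h.mem_E hn).2 ⟨a1, by rw [a2, a0]; simp⟩⟩, a3⟩
  rw [Equiv.swap_apply_def] at hr
  split_ifs at hr with e1 e2
  · subst e1
    by_cases e : r = p <;> simp [a3, h.orth, B_smul_left, e, hr, hik, hik.symm]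
    linear_combination h2 + hx
  · by_cases e : r = k <;> simp [a3, h.orth, B_smul_left, *, hik.symm]
    linear_combination h2
  · simp [a3, h.orth, B_smul_left, hr, Ne.symm e1, Ne.symm e2]

theorem of_perp (hg : g ∈ H) (hik : i ≠ k) {T : Finset ι} (hT : 2 ≤ #T)
    (h1 : ∀ j ∈ T, Φ.B (b i + b k) (g (b j)) = 0) : g ∈ Mb F b ⊓ Φ.E := by
  classical
  obtain ⟨j, hj, l, hl, hjl⟩ := one_lt_card.1 hT
  have key : ∀ x, σ x * x = 1 → #{p | Φ.B (b p) (g (x • b j + b l)) ≠ 0} ≤ 2 := fun x hx => by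
    obtain ⟨t, a1, a2⟩ := h.qr_root hn h2 hjl hx
    refine h.wt_le_of_perp hn hM hH hne h2 (QR.conj ⟨t, hM a1, a2⟩ hg (E_le_O (hH hg))) hik ?_
    have : Φ.B (b i + b k) (g (x • b j + b l)) = 0 := by
      rw [map_add g, map_smul, map_add, map_smul, h1 j hj, h1 l hl]; simp
    rw [map_add, LinearMap.add_apply, add_eq_zero_iff_eq_neg] at this
    simp [this, -map_add]
  obtain ⟨w, a4, a5⟩ := h.exists_U [1] (by simpa using h.two_le.trans' one_le_two)
  have a1 := key w a4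
  have a2 := key 1 (by simp)
  have a3 := card_union_le ({p | Φ.B (b p) (g (w • b j + b l)) ≠ 0} : Finset ι)
    {p | Φ.B (b p) (g ((1 : F) • b j + b l)) ≠ 0}
  have a6 := (Nat.add_le_add_left a3 4).trans (show _ ≤ Fintype.card ι by omega)
  refine ⟨h.of_zero hn hM hH hne hg (j := j) ((Nat.le_sub_of_add_le a6).trans_eq
    (card_compl _).symm) fun p hp => ?_, hH hg⟩
  simp only [mem_compl, mem_union, mem_filter, mem_univ, true_and, not_or, not_not, map_add,
    map_smul, smul_eq_mul] at hp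
  exact mul_left_cancel₀ (sub_ne_zero.2 (by simpa using a5 : w ≠ 1))
    (by linear_combination hp.1 - hp.2)

theorem le_even : H ≤ Mb F b ⊓ Φ.E := by
  classical
  have := b.finiteDimensional_of_finite
  have : Finite V := Module.finite_of_finite F
  have : Finite (V ≃ₗ[F] V) := Finite.of_injective _ DFunLike.coe_injective
  obtain ⟨S, -, h4⟩ := exists_subset_card_eq (s := (univ : Finset ι)) (n := 4)
    (by rw [card_univ]; omega)
  obtain ⟨i, j, k, l, hij, hik, hil, hjk, hjl, hkl, rfl⟩ := card_eq_four.1 h4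
  obtain ⟨d, hdM, hd⟩ := h.qr_root hn h2 hij (x := 1) (by simp)
  obtain ⟨m₀, hm₀, e₀⟩ := h.exists_perm hn hik hjl
  obtain ⟨r, hr⟩ : ∃ r, b i + b j = r := ⟨_, rfl⟩
  obtain ⟨r₀, hr₀⟩ : ∃ r, b k + b l = r := ⟨_, rfl⟩
  simp only [one_smul, one_mul, hr] at hd
  have e0 : Φ.B r r = 0 := by simp [← hr, h.orth, hij, hij.symm, one_add_one_eq_two, h2]
  have e0' : Φ.B r₀ r₀ = 0 := by simp [← hr₀, h.orth, hkl, hkl.symm, one_add_one_eq_two, h2]
  have e1 : r ≠ 0 := fun e' => by simpa [h.orth, hij, e'] using congrArg (Φ.B (b i)) hr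
  have e2 : ∀ v : V, v + v = 0 := fun v => by rw [← two_smul F, h2, zero_smul]
  have cj : ∀ m ∈ Mb F b ⊓ Φ.E, ∀ v, (m * d * m⁻¹) v = v + Φ.B (m r) v • m r :=
    fun m hm v => by simp [hd, B_O_left (E_le_O hm.2)]
  have d2 : d * d = 1 := LinearEquiv.ext fun v => by simp [hd, e0, add_assoc, e2]
  have e₁ := cj m₀ hm₀
  rw [show m₀ r = r₀ by
    simp [← hr, ← hr₀, e₀, Equiv.swap_apply_def, hjk.symm, hkl, hij.symm, hjk]] at e₁
  have e₂ : Φ.B r r₀ = 0 := by simp [← hr, ← hr₀, h.orth, hik, hil, hjk, hjl]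
  have e₃ := Φ.B_eq_zero_symm e₂
  have sp : ∀ {L : List V} {x} (c : F), x ∈ L → c • x ∈ Submodule.span F {x | x ∈ L} :=
    fun c e => Submodule.smul_mem _ _ (Submodule.subset_span e)
  refine Zd.le_of Zd.zd hM hdM d2 (fun g hg e => ?_) (fun m hm e _ g hg e' => ?_) hm₀
    (fun e => ?_) ?_ fun m hm e g hg => ?_
  · obtain ⟨T, a1, a2⟩ := h.exists_fixed e.1 [r] fun v => by
      rw [hd, sub_add_cancel_left, ← neg_smul]; exact sp _ (by simp)
    exact h.of_perp hn hM hH hne h2 hg hij (T := T) (by simp at a1; omega) fun p hp => by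
      simpa [hd, e1, hr] using a2 p hp
  · obtain ⟨T, a1, a2⟩ := h.exists_fixed e'.1 [r, m r] fun v => by
      rw [LinearEquiv.mul_apply, hd, cj m hm, add_assoc, sub_add_cancel_left]
      exact neg_mem (add_mem (sp _ (by simp)) (sp _ (by simp)))
    refine h.of_perp hn hM hH hne h2 hg hij (T := T) (by simp at a1; omega) fun p hp => ?_
    have a3 := congrArg d (a2 p hp)
    rw [← LinearEquiv.mul_apply, ← mul_assoc, d2, one_mul, cj m hm, hd, add_right_inj] at a3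
    rw [hr]
    by_contra a4
    refine e (LinearEquiv.ext fun v => ?_)
    rw [cj m hm, hd]
    generalize m r = r' at *
    obtain ⟨c, rfl⟩ : ∃ c : F, r = c • r' :=
      ⟨_, by rw [← inv_smul_smul₀ a4 r, ← a3, smul_smul]⟩
    rw [B_smul_left] at a3 a4
    have a7 : σ c * c = 1 := mul_left_cancel₀ (right_ne_zero_of_mul a4)
      (smul_left_injective F (right_ne_zero_of_smul e1) (by
        simp only [mul_one, a3, smul_smul]; ring_nf))
    rw [B_smul_left, smul_smul, mul_right_comm, a7, one_mul]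
  · have := congrArg (Φ.B (b j)) (e₁ (b i))
    simp [e, hd, ← hr, ← hr₀, h.orth, hij.symm, hik.symm, hil.symm] at this
  · generalize m₀ * d * m₀⁻¹ = d₀ at *
    refine LinearEquiv.ext fun v => ?_
    simp [sq, e₁, hd, e0, e0', e₂, e₃]
    linear_combination (norm := module) e2 (Φ.B r v • r) + e2 (Φ.B r₀ v • r₀)
  generalize m₀ * d * m₀⁻¹ = d₀ at *
  obtain ⟨T, a1, a2⟩ := h.exists_fixed (e g hg).1 [r, r₀, m r] fun v => by
    rw [LinearEquiv.mul_apply, LinearEquiv.mul_apply d, hd, e₁, cj m hm, add_assoc, add_assoc,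
      sub_add_cancel_left]
    exact neg_mem (add_mem (sp _ (by simp)) (add_mem (sp _ (by simp)) (sp _ (by simp))))
  have a3 := card_filter_add_card_filter_not (s := T) fun p => Φ.B r (g (b p)) = 0
  by_cases a4 : 2 ≤ #{p ∈ T | Φ.B r (g (b p)) = 0}
  · exact h.of_perp hn hM hH hne h2 hg hij a4 fun p hp => hr ▸ (mem_filter.1 hp).2
  refine h.of_perp hn hM hH hne h2 hg hkl (T := {p ∈ T | ¬ Φ.B r (g (b p)) = 0})
    (by simp at a1; omega) fun p hp => hr₀ ▸ by_contra fun a5 => ?_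
  obtain ⟨a6, a7⟩ := mem_filter.1 hp
  have a8 : (m * d * m⁻¹) (g (b p)) = d₀ (d (g (b p))) := (d * d₀).injective (by
    rw [← LinearEquiv.mul_apply, a2 p a6]
    simp [e₁, hd, e0, e0', e₂, e₃]
    linear_combination (norm := module) -e2 (Φ.B r (g (b p)) • r) - e2 (Φ.B r₀ (g (b p)) • r₀))
  rw [cj m hm, e₁, hd, add_assoc, add_right_inj] at a8
  obtain ⟨s, a, ha⟩ := exists_mb hm.1
  have a9 : ∀ p', Φ.B (b p') (Φ.B r (g (b p)) • r + Φ.B r₀ (g (b p)) • r₀) ≠ 0 →
      p' = s i ∨ p' = s j := fun p' e => by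
    by_contra! e'
    simp only [map_add, map_smul, e₃, smul_zero, add_zero] at a8
    exact e (by rw [← a8]; simp [← hr, ha, h.orth, e'])
  have c1 : ∀ p', Φ.B (b p') r = (if p' = i then 1 else 0) + if p' = j then 1 else 0 :=
    fun p' => by rw [← hr, map_add, h.orth, h.orth]
  have c2 : ∀ p', Φ.B (b p') r₀ = (if p' = k then 1 else 0) + if p' = l then 1 else 0 :=
    fun p' => by rw [← hr₀, map_add, h.orth, h.orth]
  have b1 := a9 i (by simp [c1, c2, hij, hik, hil, a7])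
  have b2 := a9 j (by simp [c1, c2, hij.symm, hjk, hjl, a7])
  have b3 := a9 k (by simpa [c1, c2, hik.symm, hjk.symm, hkl, hr₀] using a5)
  grind

omit hM hH hne h2 in
theorem isMaximalIn : IsMaximalIn Φ.E (Mb F b ⊓ Φ.E) := by
  classical
  refine isMaximalIn_of inf_le_right ?_ fun H hM hH g hg hgM => by_contra fun hne => hgM ?_
  · obtain ⟨S, -, h4⟩ := exists_subset_card_eq (s := (univ : Finset ι)) (n := 4)
      (by rw [card_univ]; omega)
    obtain ⟨i, j, k, l, hij, hik, hil, hjk, hjl, hkl, rfl⟩ := card_eq_four.1 h4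
    obtain ⟨c, hc⟩ := exists_norm_eq_of_invol h.ne h.inv (μ := -3) (by simp [map_ofNat])
    obtain ⟨t, ht⟩ := DFunLike.ne_iff.1 h.ne
    have a0 : Φ.B (b i + b j + b k + c • b l) (b i + b j + b k + c • b l) = 0 := by
      simp [h.orth, B_smul_left, hij, hik, hil, hjk, hjl, hkl, hij.symm, hik.symm, hil.symm,
        hjk.symm, hjl.symm, hkl.symm]
      linear_combination hc
    obtain ⟨g, a1, a2, a3⟩ := h.exists_qr (d := b i + b j + b k + c • b l) (c := σ t - t) (by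
      rw [a0]; simp [h.inv])
    refine ⟨g, (h.mem_E hn).2 ⟨a1, by rw [a2, a0]; simp⟩, fun e => absurd ((card_le_card
      (s := {i, j, k}) fun p hp => ?_).trans (h.wt_le (sub_ne_zero.2 ht) e.1 a3)) (by
        rw [card_eq_three.2 ⟨i, j, k, hij, hik, hjk, rfl⟩]; omega)⟩
    simp only [mem_insert, mem_singleton] at hp
    rcases hp with rfl | rfl | rfl <;> simp [h.orth, *, hij.symm, hik.symm, hjk.symm]
  by_cases h2 : (2 : F) = 0
  · exact h.le_even hn hM hH hne h2 hg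
  · exact h.le_odd hn hM hH hne h2 hg

end UF

end H23.Uf
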