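import Cfsg.Agent.H23.Ut1
import Cfsg.Agent.H23.Sf5
import Cfsg.Agent.H23.Nm2

/-! Maximality of the tensor product of a unitary plane with a unitary space. -/

set_option autoImplicit false

namespace H23.Uf

open Module H22 Cfsg Cfsg.Geo Form Tn

variable {F S W V : Type*} [Field F] [Fintype F] [AddCommGroup S] [Module F S] [AddCommGroup W]
  [Module F W] [AddCommGroup V] [Module F V] {σ : F →+* F} {q : ℕ}

/-- The hermitian form on the tensor product of a hermitian plane and a hermitian space. -/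
structure Ub (Φ : Form σ V) (f : Form σ S) (h : Form σ W) (t : S →ₗ[F] W →ₗ[F] V) (q : ℕ) :
    Prop where
  ht : IsTensorProduct t
  hs : HS Φ q
  hw : HS h q
  fn : f.Nondeg
  fe : f.ε = 1
  two : finrank F S = 2
  three : 3 ≤ q
  five : 5 ≤ finrank F W
  B : ∀ x w y w', Φ.B (t x w) (t y w') = f.B x y * h.B w w'

namespace Ub

variable {Φ : Form σ V} {f : Form σ S} {h : Form σ W} {t : S →ₗ[F] W →ₗ[F] V}
  (p : Ub Φ f h t q) {H : Subgroup (V ≃ₗ[F] V)} {u w e : W} {φ φ' : V →ₗ[F] S} {c : F}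
include p

/-- The contraction with `h u`. -/
noncomputable abbrev cv (u : W) : V →ₗ[F] S := cov F p.ht (h.B u)

theorem B_t (x : S) (u : W) (v : V) : Φ.B (t x u) v = f.B x (p.cv u v) :=
  ext_t p.ht (f := Φ.B (t x u)) (f' := f.B x ∘ₗ p.cv u) (by simp [p.B, mul_comm]) v

theorem cv_add (u w : W) (v : V) : p.cv (u + w) v = p.cv u v + p.cv w v := by
  rw [cv, map_add, cov_add]

theorem cv_smul (c : F) (w : W) (v : V) : p.cv (c • w) v = σ c • p.cv w v := by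
  rw [cv, LinearMap.map_smulₛₗ, cov_smul_left]

theorem fd : FiniteDimensional F S := finite_of_finrank_pos (by rw [p.two]; omega)

theorem nt : Nontrivial S := Module.nontrivial_of_finrank_pos (R := F) (by rw [p.two]; omega)

theorem mem_perp {v : V} : v ∈ Φ.perp (LinearMap.range (vec F t u)) ↔ p.cv u v = 0 :=
  ⟨fun h1 => p.fn.eq_of_forall' fun x => by simpa [p.B_t] using h1 (t x u) ⟨x, rfl⟩,
    fun h1 _ ⟨x, hx⟩ => by simp [← hx, p.B_t, h1]⟩

theorem hyp : ∃ a b, Hyp f a b ∧ f.B b a = 1 := by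
  have := p.fd
  obtain ⟨a, -, b1, b2⟩ := exists_sing_of_herm (Φ := f) p.hs.ne p.fe (T := ⊤) (by simp [p.two])
  obtain ⟨b, b3⟩ := exists_hyp p.fn b2 b1
  exact ⟨a, b, b3, by rw [b3.B_symm, p.fe]⟩

theorem dec {a b : S} (hf : Hyp f a b) (v : V) : ∃ y z, v = t a y + t b z :=
  p.ht.inductionOn v ⟨0, 0, by simp⟩ (fun x w => by
    obtain ⟨c, d, rfl⟩ := span_hyp p.two hf x
    exact ⟨c • w, d • w, by simp⟩) (by
      rintro _ _ ⟨y, z, rfl⟩ ⟨y', z', rfl⟩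
      exact ⟨y + y', z + z', by simp; abel⟩)

theorem tens {a : S ≃ₗ[F] S} {b : W ≃ₗ[F] W} (ha : a ∈ f.O) (ha' : LinearMap.det a.toLinearMap = 1)
    (hb : b ∈ h.E) : ∃ m ∈ Tg F t ⊓ Φ.E, ∀ x y, m (t x y) = t (a x) (b y) := by
  have := p.fd
  have := p.hw.fd
  obtain ⟨hb, hb'⟩ := p.hw.mem_E.1 hb
  obtain ⟨m, a1, a2, a3⟩ := exists_tens_det p.ht ha' hb'
  refine ⟨m, ⟨a1, p.hs.mem_E.2 ⟨mem_O_of_κ p.hs.kap fun v v' => ?_, a2⟩⟩, a3⟩
  refine p.ht.inductionOn v (by simp) (fun x y => ?_) fun _ _ e e' => by simp [e, e']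
  exact ext_t p.ht (f := Φ.B (m (t x y)) ∘ₗ m.toLinearMap) (f' := Φ.B (t x y))
    (by simp [a3, p.B, ha.1, hb.1]) v'

variable (hM : Tg F t ⊓ Φ.E ≤ H)
include hM

theorem tw {b : W ≃ₗ[F] W} (hb : b ∈ h.E) : ∃ m ∈ H, (∀ x y, m (t x y) = t x (b y)) ∧
    ∀ y v, p.cv (b y) (m v) = p.cv y v := by
  obtain ⟨m, a1, a2⟩ := p.tens (one_mem _) (by simp) hb
  exact ⟨m, hM a1, a2, fun y => ext_t p.ht (f := p.cv (b y) ∘ₗ m.toLinearMap)
    (by simp [a2, (E_le_O hb).1])⟩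

theorem tv (hu : h.B u u = 0) (hc : c + σ c = 0) : ∃ g ∈ H, ∀ v, g v = v + c • t (p.cv u v) u := by
  have := p.hw.fd
  obtain ⟨b, a1, a2, a3⟩ := p.hw.nd.exists_qrefl p.hw.kap (d := u) (c := c)
    (by simp [p.hw.ε, hc, hu])
  obtain ⟨m, a4, a5, -⟩ := p.tw hM (p.hw.mem_E.2 ⟨a1, by simp [a2, hu]⟩)
  exact ⟨m, a4, ext_t p.ht (f := m.toLinearMap) (f' := LinearMap.id + c • vec F t u ∘ₗ p.cv u)
    (by simp [a5, a3, mul_smul])⟩

omit hM

variable (H u φ) in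
/-- Elements of the unipotent radical of the stabiliser of a block, modulo its centre. -/
def RT : Prop := ∃ r ∈ H, (∀ x, φ (t x u) = 0) ∧ ∀ v, p.cv u v = 0 → r v = v + t (φ v) u

variable (H) in
/-- The coefficients occurring in `H`. -/
def Lz (z : End F S) : Prop := ∀ u ≠ 0, h.B u u = 0 → ∀ e, h.B u e = 0 → p.RT H u (z ∘ₗ p.cv e)

variable {p} (hu : h.B u u = 0)
include hu

theorem RT.congr (h1 : p.RT H u φ) (h2 : ∀ v, p.cv u v = 0 → φ v = φ' v) : p.RT H u φ' :=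
  have ⟨r, a1, a2, a3⟩ := h1
  ⟨r, a1, fun x => by rw [← h2 _ (by simp [hu]), a2], fun v hv => by rw [a3 v hv, h2 v hv]⟩

theorem rt_zero (h2 : ∀ v, p.cv u v = 0 → φ v = 0) : p.RT H u φ :=
  RT.congr hu (φ := 0) ⟨1, one_mem _, by simp⟩ fun v hv => (h2 v hv).symm

theorem RT.add (h1 : p.RT H u φ) (h2 : p.RT H u φ') : p.RT H u (φ + φ') :=
  have ⟨r, a1, a2, a3⟩ := h1
  have ⟨r', a4, a5, a6⟩ := h2
  ⟨r * r', mul_mem a1 a4, by simp [a2, a5], fun v hv => by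
    simp [a6 v hv, a3 v hv, a3 (t _ u) (by simp [hu]), a2, add_assoc]⟩

theorem RT.neg (h1 : p.RT H u φ) : p.RT H u (-φ) :=
  have ⟨r, a1, a2, a3⟩ := h1
  ⟨r⁻¹, inv_mem a1, by simp [a2], fun v hv => r.symm_apply_eq.2 (by
    simp [a3 v hv, a3 (t _ u) (by simp [hu]), a2])⟩

theorem RT.sub (h1 : p.RT H u φ) (h2 : p.RT H u φ') : p.RT H u (φ - φ') :=
  sub_eq_add_neg φ φ' ▸ h1.add hu (h2.neg hu)

omit hu

theorem RT.conj (hH : H ≤ Φ.O) (h1 : p.RT H u φ) {m : V ≃ₗ[F] V} (hm : m ∈ H) {a : S ≃ₗ[F] S}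
    (h2 : ∀ x, m (t x u) = t (a x) w) :
    p.RT H w (a.toLinearMap ∘ₗ φ ∘ₗ m.symm.toLinearMap) := by
  obtain ⟨r, a1, a2, a3⟩ := h1
  refine ⟨m * r * m⁻¹, mul_mem (mul_mem hm a1) (inv_mem hm), fun x => ?_, fun v hv => ?_⟩
  · obtain ⟨x, rfl⟩ := a.surjective x
    simp [← h2, a2]
  · have : p.cv u (m.symm v) = 0 := p.fn.eq_of_forall' fun x => by
      rw [← p.B_t, ← (hH hm).1, h2, p.B_t]; simp [hv]
    simp [a3 _ this, h2]

variable (p H) in
/-- The coefficients form a subspace. -/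
def LS : Submodule F (End F S) where
  carrier := {z | p.Lz H z}
  add_mem' ha hb u u0 hu e he := (ha u u0 hu e he).add hu (hb u u0 hu e he)
  zero_mem' u _ hu e _ := rt_zero hu (by simp)
  smul_mem' c z hz u u0 hu e he := (hz u u0 hu (σ c • e) (by simp [he])).congr hu fun v _ => by
    simp [cv_smul, p.hs.inv]

variable (hH : H ≤ Φ.O)
include hM

theorem rt_rat (hu : h.B u u = 0) (he : h.B u e = 0) : p.RT H u (p.cv e) := by
  have := p.hw.fd
  obtain ⟨s, hs⟩ := exists_eichData (p.hw.sing hu) he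
  obtain ⟨b, hb⟩ := exists_eich p.hw.nd hs
  obtain ⟨m, a1, a2, -⟩ := p.tw hM (Form.mem_E hs hb)
  refine ⟨m, a1, by simp [h.B_eq_zero_symm he], fun v hv => ?_⟩
  have := ext_t p.ht (f := m.toLinearMap) (f' := LinearMap.id + vec F t u ∘ₗ p.cv e -
    σ s • vec F t u ∘ₗ p.cv u - vec F t e ∘ₗ p.cv u) (fun x y => by
      simp [a2, hb, eichler_apply, p.hw.ε]; module) v
  simp only [LinearMap.sub_apply, LinearMap.smul_apply, LinearMap.comp_apply, hv, map_zero,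
    smul_zero, sub_zero] at this
  exact this

include hH

theorem RT.lz (h1 : p.RT H u φ) (u0 : u ≠ 0) (hu : h.B u u = 0) (he : h.B u e = 0) :
    φ ∘ₗ vec F t e ∈ p.LS H := by
  refine p.hw.ind (U := (p.LS H).comap (LinearMap.llcomp F S V S φ ∘ₗ t.flip)) u0
    (show φ ∘ₗ vec F t u ∈ p.LS H by
      rw [show φ ∘ₗ vec F t u = 0 from LinearMap.ext h1.choose_spec.2.1]; exact zero_mem _)
    (fun e he e0 e1 w w0 hw y hy => ?_) he
  obtain ⟨s, s0, hs⟩ := p.hs.exists_tz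
  obtain ⟨m, a1, a2⟩ := p.tv hM e0 hs
  have a3 := ((h1.conj hH (inv_mem a1) (a := 1) (w := u) fun x => m.symm_apply_eq.2 (by
    simp [a2, h.B_eq_zero_symm he])).sub hu h1).congr hu (φ' := s • (φ ∘ₗ vec F t e ∘ₗ p.cv e))
      fun v _ => by change φ (m v) - φ v = _; simp [a2]
  let U : Submodule F W :=
    { carrier := {y | ∀ c : F, p.RT H w ((φ ∘ₗ vec F t e) ∘ₗ p.cv (c • y))}
      add_mem' := fun ha hb c => ((ha c).add hw (hb c)).congr hw fun v _ => by simp [cv_add]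
      zero_mem' := fun c => rt_zero hw fun v _ => by simp [cv, cov_zero]
      smul_mem' := fun a _ ha c => by rw [smul_smul]; exact ha _ }
  refine one_smul F y ▸ p.hw.ind (U := U) w0 (fun c => rt_zero hw fun v hv => by
    simp [cv_smul, hv]) (fun y b1 b2 b3 c => ?_) hy 1
  by_cases c0 : c = 0
  · exact rt_zero hw fun v _ => by simp [c0, cv, cov_zero]
  have s1 : σ s⁻¹ * c ≠ 0 := by simp [s0, c0]
  obtain ⟨b, b4, rfl, b5⟩ := p.hw.trans2 p.five hu hw u0 w0 e0 (e' := (σ s⁻¹ * c) • y)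
    (by simp [b2]) he (by simp [b1]) e1 (by rwa [Submodule.smul_mem_iff _ s1])
  obtain ⟨k, b6, b7, b8⟩ := p.tw hM b4
  refine (a3.conj hH b6 (a := 1) fun x => b7 x u).congr hw fun v _ => ?_
  obtain ⟨v, rfl⟩ := k.surjective v
  simp [← b8 e v, b5, cv_smul, p.hs.inv, smul_smul, s0]

theorem Lz.mul {z z' : End F S} (h1 : p.Lz H z) (h2 : p.Lz H z') : p.Lz H (z * z') := by
  have := p.hw.fd
  have := p.five
  obtain ⟨u, -, u0, hu, -⟩ := exists_sing_of_herm (Φ := h) p.hw.ne p.hw.ε (T := ⊤) (by simp; omega)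
  obtain ⟨w, a1, hw, a2⟩ := p.hw.exists_iso u0
  obtain ⟨w', a3, a4⟩ := p.hw.nd.exists_perp_eq_one a2
  replace a3 := a3 u (Submodule.mem_span_singleton_self u)
  obtain ⟨d, a5, a6, a7⟩ := p.hw.exists_unit_perp p.five u w
  obtain ⟨r, b1, -, b2⟩ := h2 w (by rintro rfl; simp at a2) hw d (h.B_eq_zero_symm a7)
  have b3 := h1 u u0 hu w' (h.B_eq_zero_symm a3)
  have b4 := h.B_eq_zero_symm a1
  change _ ∈ p.LS H
  convert ((b3.conj hH (inv_mem b1) (a := 1) (w := u) fun x => r.symm_apply_eq.2 (by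
    simp [b2 (t x u) (by simp [b4]), a6])).sub hu b3).lz hM hH u0 hu (h.B_eq_zero_symm a6) using 1
  ext x
  change _ = z (p.cv w' (r (t x d))) - z (p.cv w' (t x d))
  simp [b2 (t x d) (by simp [h.B_eq_zero_symm a7]), a4, a5]

theorem win (h1 : ∀ x y, p.Lz H ((f.B x).smulRight y)) : Φ.E ≤ H := by
  have := p.hw.fd
  have := p.hs.fd
  have := p.five
  obtain ⟨a, b, hf, hba⟩ := p.hyp
  obtain ⟨ρ, hρ⟩ := exists_add_conj_eq_one p.hs.ne p.hs.inv
  have a1 : ∀ x u, h.B u u = 0 → ∀ s, s + σ s = 0 → QR Φ H (t x u) s := fun x u hu s hs => by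
    by_cases u0 : u = 0
    · exact ⟨1, one_mem _, by simp [u0]⟩
    obtain ⟨d, b1, b2, -⟩ := p.hw.exists_unit_perp p.five u u
    have b3 := h.B_eq_zero_symm b2
    obtain ⟨r, b4, -, b5⟩ := h1 ((ρ * s) • b) x u u0 hu d b3
    obtain ⟨r', b6, -, b7⟩ := h1 a x u u0 hu d b3
    convert p.hs.qr_comm hH (L := LinearMap.range (vec F t u)) (a := t x u)
      (by rintro _ ⟨y, rfl⟩; simp [p.mem_perp, hu]) ⟨x, rfl⟩ (e := t ((ρ * s) • b) d) (e' := t a d)
      (by simp [p.mem_perp, b3]) (by simp [p.mem_perp, b3]) b4 b6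
      (fun v hv => by rw [b5 v (p.mem_perp.1 hv), p.B_t]; simp)
      (fun v hv => by rw [b7 v (p.mem_perp.1 hv), p.B_t]; simp) using 1
    simp only [p.B, B_smul_left, B_smul_right, hf.one, hba, b1, map_mul]
    linear_combination -s * hρ + σ ρ * hs
  obtain ⟨u, -, u0, hu, -⟩ := exists_sing_of_herm (Φ := h) p.hw.ne p.hw.ε (T := ⊤) (by simp; omega)
  obtain ⟨u', hu'⟩ := exists_hyp p.hw.nd (p.hw.sing hu) u0
  obtain ⟨s, s0, hs⟩ := p.hs.exists_tz
  have a0 : Φ.B (t a u) (t a u) = 0 := by simp [p.B, hu]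
  let U : S → Submodule F W := fun x =>
    { carrier := {y | ∀ c : F, Φ.AIn H (t a u) (t x (c • y))}
      add_mem' := fun ha hb c => by
        rw [smul_add, map_add]; exact (ha c).add (p.hs.sing a0) (hb c)
      zero_mem' := fun c => by simpa using p.hs.aIn_of_qr (a1 a u hu)
      smul_mem' := fun a _ ha c => by rw [smul_smul]; exact ha _ }
  have a2 : ∀ x, u ∈ U x := fun x c => by
    simpa [smul_smul, s0] using p.hs.aIn_add a0 (v := t ((s⁻¹ * c) • x) u) (by simp [p.B, hu])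
      (by simp [p.B, hu]) (p.hs.aIn_of_qr (a1 a u hu)) (p.hs.aIn_of_qr (a1 _ u hu))
      (by simpa using p.hs.aIn_of_qr (a1 ((s⁻¹ * c) • x + a) u hu)) hs
  have a3 : ∀ y, y ∈ U a := fun y => le_of_sing_ne hu' Submodule.mem_top Submodule.mem_top (a2 a)
    (fun w _ hw e c => by
      by_cases c0 : c = 0
      · simpa [c0] using (U a).zero_mem 0
      exact p.hs.aIn_tv hH a0 (a2 b (s * σ c)⁻¹) (a1 a (c • w) (by simp [hw.1]) s hs)
        (by simp [p.B, hf.left.1, -map_smul]) (by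
          simp only [p.B, B_smul_left, B_smul_right, hf.one, p.hw.sy u w, e, map_one]
          have : σ c ≠ 0 := by simpa
          field_simp)) Submodule.mem_top
  have a4 : ∀ y, h.B u y = 0 → y ∈ U b := fun y => p.hw.ind u0 (a2 b) fun w b1 b2 b3 c => by
    by_cases c0 : c • w = 0
    · simpa [c0] using (U a).zero_mem 0
    obtain ⟨z, hz⟩ := p.hw.nd.exists_ne c0
    exact p.hs.aIn_tv hH a0 (a3 z s⁻¹) (a1 b (c • w) (by simp [b2]) s hs)
      (by simp [p.B, h.B_eq_zero_symm b1, -map_smul]) (by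
        simp only [p.B, B_smul_right, hba, hz]; field_simp)
  obtain ⟨g, b1, b2⟩ := a1 b u' hu'.right.1 s hs
  refine E_le_of_qIn_of_mem p.hs.nd (p.hs.sing a0) (qIn_iff.2 fun e he => ?_) b1 (hH b1)
    (by simp [b2, p.B, hu, hf.one, hba, hu'.one, hu'.B_symm, p.hw.ε, s0])
  obtain ⟨y, z, rfl⟩ := p.dec hf e
  simpa using (a3 y 1).add (p.hs.sing a0)
    (a4 z (by simpa [p.B, hf.left.1, hf.one] using he) 1)

variable (hN : ¬ Φ.E ≤ H)
include hN

theorem RT.rat (h1 : p.RT H u φ) (u0 : u ≠ 0) (hu : h.B u u = 0) (he : h.B u e = 0) :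
    ∃ c : F, ∀ x, φ (t x e) = c • x := by
  by_contra! ha
  let Λ : Subring (End F S) :=
    { carrier := {z | p.Lz H z}
      mul_mem' := Lz.mul hM hH
      one_mem' := fun u _ hu e he => rt_rat hM hu he
      add_mem' := (p.LS H).add_mem
      zero_mem' := (p.LS H).zero_mem
      neg_mem' := (p.LS H).neg_mem }
  refine hN (win (p := p) hM hH (su_rank_one p.hs.toHF p.three p.fn p.fe p.two Λ
    (fun c z => (p.LS H).smul_mem c) (fun c a hc ha z hz u u0 hu e he => ?_)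
    (h1.lz hM hH u0 hu he) ha))
  have := p.fd
  obtain ⟨b, a1, a2, a3⟩ := p.fn.exists_qrefl (κ_of_ne_id p.hs.ne) (d := a) (c := c)
    (by simp [p.fe, hc, ha])
  obtain ⟨m, a4, a5⟩ := p.tens a1 (by simp [a2, ha]) (one_mem _)
  refine ((hz u u0 hu e he).conj hH (hM a4) (a := b) fun x => a5 x u).congr hu fun v _ => ?_
  obtain ⟨v, rfl⟩ := m.surjective v
  have a4 := ext_t p.ht (f := p.cv e ∘ₗ m.toLinearMap) (f' := b.toLinearMap ∘ₗ p.cv e)
    (by simp [a5]) v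
  simp only [LinearMap.comp_apply, LinearEquiv.coe_coe] at a4
  simp [a4, a3, ha, mul_smul]

theorem step {g : V ≃ₗ[F] V} (hg : g ∈ H) {a : S ≃ₗ[F] S} (u0 : u ≠ 0) (hu : h.B u u = 0)
    (h1 : ∀ x, g (t x u) = t (a x) w) (he : h.B u e = 0) : ∃ e', ∀ x, g (t x e) = t (a x) e' := by
  have := p.hw.fd
  obtain ⟨x₀, y₀, hy₀, -⟩ := p.hyp
  have a3 := hy₀.left_ne
  have a0 : ∀ {u w z}, h.B u u = 0 → h.B w w = 0 → h.B w z = 0 → ∀ ψ : S → S,
      (∀ x, g (t x u) = t (a x) z + t (ψ x) w) → h.B z z = 0 := fun {u _ _} hu hw hz ψ e => by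
    simpa [e, p.B, hu, hw, hz, h.B_eq_zero_symm hz, hy₀.one] using
      (hH hg).1 (t (a⁻¹ x₀) u) (t (a⁻¹ y₀) u)
  have hw := a0 (w := 0) (z := w) hu (by simp) (by simp) id (by simpa using h1)
  have w0 : w ≠ 0 := by
    rintro rfl
    exact a3 (t_eq_zero p.ht u0 (by simpa using h1 x₀))
  let U : Submodule F W :=
    { carrier := {e | ∃ e', ∀ x, g (t x e) = t (a x) e'}
      add_mem' := fun ⟨y, h⟩ ⟨y', h'⟩ => ⟨y + y', by simp [h, h']⟩
      zero_mem' := ⟨0, by simp⟩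
      smul_mem' := fun c _ ⟨y, h⟩ => ⟨c • y, by simp [h]⟩ }
  refine p.hw.ind (U := U) u0 ⟨w, h1⟩ (fun e he e0 h0 => ?_) he
  have h2 : ∀ x, g⁻¹ (t x w) = t (a⁻¹ x) u := fun x => g.symm_apply_eq.2 (by simp [h1])
  obtain ⟨w₀, -, a1⟩ := p.hw.nd.exists_perp_eq_one (W := ⊥) (x := w) (by simpa)
  obtain ⟨e', a2⟩ := exists_vec p.ht (e := fun x => g (t x e) - t (p.cv w₀ (g (t x e))) w)
    (a := a) (F := F) fun ψ => by
      obtain ⟨y, hy⟩ := p.hw.nd.exists_repr (ψ - ψ w • h.B w₀)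
      obtain ⟨c, hc⟩ := ((rt_rat (p := p) hM hw (e := y) (h.B_eq_zero_symm (by
        simp [hy, a1]))).conj hH (inv_mem hg) h2).rat hM hH hN u0 hu he
      refine ⟨c, fun x => ?_⟩
      have := congrArg a (hc x)
      rw [cv, LinearMap.ext hy] at this
      simpa [cov_sub, cov_smul_left, cv, show g⁻¹.symm = g from rfl] using this
  set z : S →ₗ[F] S := p.cv w₀ ∘ₗ g.toLinearMap ∘ₗ vec F t e
  replace a2 : ∀ x, g (t x e) = t (a x) e' + t (z x) w := fun x => by simp [z, ← a2]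
  have a4 : e' ∉ F ∙ w := fun h3 => by
    obtain ⟨c, rfl⟩ := Submodule.mem_span_singleton.1 h3
    obtain ⟨y, b1, b2⟩ := p.hw.nd.exists_perp_eq_one h0
    have := congrArg (p.cv y) (g.injective ((a2 x₀).trans (show _ = g (t (a⁻¹ (c • a x₀ + z x₀)) u)
      by simp [h1])))
    simp [b1 u (Submodule.mem_span_singleton_self u), b2, a3] at this
  have a5 : h.B w e' = 0 := by
    simpa [h1, a2, p.B, he, hw, hy₀.one] using (hH hg).1 (t (a⁻¹ x₀) u) (t (a⁻¹ y₀) e)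
  obtain ⟨e₁, a6, a7⟩ := p.hw.nd.exists_perp_eq_one a4
  replace a6 := h.B_eq_zero_symm (a6 w (Submodule.mem_span_singleton_self w))
  replace a7 : h.B e' e₁ = 1 := by rw [p.hw.sy, a7, map_one]
  obtain ⟨μ, a8⟩ := ((rt_rat (p := p) hM hu he).conj hH hg h1).rat hM hH hN w0 hw a6
  replace a8 : ∀ x, a (p.cv e (g.symm (t x e₁))) = μ • x := a8
  have a9 : ∀ v, p.cv w v = 0 → ∀ x, f.B x (p.cv e (g.symm v)) = f.B (a x) (p.cv e' v) :=
    fun v hv x => by rw [← p.B_t, ← (hH hg).1, a2]; simp [p.B_t, hv]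
  have b1 : ∀ v, p.cv w v = 0 → a (p.cv e (g.symm v)) = μ • p.cv e' v := fun v hv => by
    rw [← a8]
    exact congrArg a (p.fn.eq_of_forall' fun x => by
      simp [a9 v hv, a9 (t _ e₁) (by simp [a6]), a7])
  have b8 : ∀ x, p.cv e (g.symm (t (a x) e₁)) = μ • x := fun x => a.injective (by simp [a8])
  have b0 : ∀ x y, μ * f.B x y = f.B (a x) (a y) := fun x y => by
    simpa [b8, a7] using a9 (t (a y) e₁) (by simp [a6]) x
  have b7 : μ ≠ 0 := by
    rintro rfl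
    simpa [hy₀.one] using b0 (a⁻¹ x₀) (a⁻¹ y₀)
  have b9 : σ μ = μ := by
    have c1 := b0 x₀ y₀
    have c2 := b0 y₀ x₀
    rw [f.symm (a x₀), ← c1, hy₀.B_symm, p.fe, hy₀.one] at c2
    simpa using c2.symm
  obtain ⟨s, s0, hs⟩ := p.hs.exists_tz
  have c1 := a0 e0 hw a5 z a2
  obtain ⟨k, b2, b3⟩ := p.tv hM e0 hs
  obtain ⟨k', b4, b5⟩ := p.tv hM c1 (c := -(s * μ)) (by
    rw [map_neg, map_mul, b9]; linear_combination -μ * hs)
  obtain ⟨ν, b6⟩ := RT.rat (p := p) hM hH hN (φ := s • z ∘ₗ p.cv e ∘ₗ g.symm.toLinearMap)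
    ⟨k' * (g * k * g⁻¹), mul_mem b4 (mul_mem (mul_mem hg b2) (inv_mem hg)), fun x => by
      simp [show g.symm (t x w) = _ from h2 x, h.B_eq_zero_symm he], fun v hv => by
      simp [b3, b5, a2, b1 v hv, c1, h.B_eq_zero_symm a5, mul_smul]; abel⟩ w0 hw a6
  refine ⟨e' + (ν / (s * μ)) • w, fun x => ?_⟩
  have c2 : (s * μ) • z x = ν • a x := by simpa [b8, mul_smul] using b6 (a x)
  rw [a2, ← inv_smul_smul₀ (mul_ne_zero s0 b7) (z x), c2]
  simp [div_eq_inv_mul, mul_smul, -mul_inv_rev]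

theorem block {g : V ≃ₗ[F] V} (hg : g ∈ H) (u0 : u ≠ 0) (hu : h.B u u = 0)
    (h1 : ∀ x, ∃ y, g (t x u) = t y w) : g ∈ Tg F t := by
  have := p.fd
  have := p.nt
  have := p.hw.fd
  have : Finite W := Module.finite_of_finite F
  obtain ⟨a, h2⟩ := exists_blockEquiv p.ht u0 h1
  obtain ⟨u', a2, a3, a1⟩ := p.hw.exists_iso u0
  have a6 : u' ≠ 0 := by rintro rfl; simp at a1
  obtain ⟨y, a4, a5⟩ := p.hw.nd.exists_perp_eq_one a1
  replace a4 := h.B_eq_zero_symm (a4 u (Submodule.mem_span_singleton_self u))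
  obtain ⟨w', a7⟩ := step (p := p) hM hH hN hg u0 hu h2 a2
  refine mem_Tg_of p.ht a fun e => ?_
  obtain ⟨e₁, b1⟩ := step (p := p) hM hH hN hg u0 hu h2 (e := h.B u' e • y) (by simp [a4])
  obtain ⟨e₂, b2⟩ := step (p := p) hM hH hN hg a6 a3 a7 (e := e - h.B u' e • y)
    (by simp [p.hw.sy y u', a5])
  exact ⟨e₂ + e₁, fun x => by simp [← b1, ← b2]⟩

theorem mem_Tg (X : Submodule F S) : ∀ g ∈ H, u ≠ 0 → h.B u u = 0 →
    (∀ x ∈ X, g (t x u) = t x u) → g ∈ Tg F t := by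
  have := p.fd
  have := p.hw.fd
  have := p.hs.fd
  have := p.five
  induction X using WellFoundedGT.induction with
  | ind X ih =>
  intro g hg u0 hu h1
  by_cases a1 : X = ⊤
  · exact block (p := p) hM hH hN hg u0 hu fun x => ⟨x, h1 x (a1 ▸ Submodule.mem_top)⟩
  obtain ⟨x₁, a2⟩ : ∃ x₁, x₁ ∉ X := by
    by_contra! a2
    exact a1 (eq_top_iff.2 fun x _ => a2 x)
  obtain ⟨a, b, hf, -⟩ := p.hyp
  obtain ⟨y₁, y₂, e0⟩ := p.dec hf (g (t x₁ u))
  have e1 := p.hw.nd.finrank_perp_add (Submodule.span F {x | x ∈ [y₁, y₂, u]})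
  have e2 := finrank_span_list_le (F := F) [y₁, y₂, u]
  obtain ⟨w, a4, a3, hw, -⟩ := exists_sing_of_herm (Φ := h) p.hw.ne p.hw.ε
    (T := h.perp (Submodule.span F {x | x ∈ [y₁, y₂, u]})) (by simp only [List.length] at e2; omega)
  replace a4 : ∀ y ∈ [y₁, y₂, u], h.B w y = 0 := fun y hy =>
    h.B_eq_zero_symm (a4 y (Submodule.subset_span hy))
  have a5 : p.cv w (g (t x₁ u)) = 0 := by simp [e0, a4]
  have a6 : h.B w u = 0 := a4 u (by simp)
  obtain ⟨s, s0, hs⟩ := p.hs.exists_tz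
  obtain ⟨k, b1, b2⟩ := p.tv hM hw hs
  have b0 : finrank F (LinearMap.range (g.symm.toLinearMap ∘ₗ vec F t w ∘ₗ (s • p.cv w) ∘ₗ
      g.toLinearMap)) = finrank F S := by
    obtain ⟨y, hy⟩ := p.hw.nd.exists_ne a3
    have h5 : LinearMap.range ((s • p.cv w) ∘ₗ g.toLinearMap) = ⊤ := LinearMap.range_eq_top.2
      fun x => ⟨g.symm (t (s⁻¹ • x) y), by simp [hy, s0]⟩
    rw [← LinearMap.comp_assoc, LinearMap.range_comp, h5, Submodule.map_top]
    exact LinearMap.finrank_range_of_inj ((injective_iff_map_eq_zero _).2 fun x hx =>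
      t_eq_zero p.ht a3 (by simpa using hx))
  obtain ⟨y, a7, a8⟩ := block_of_mem p.ht (by rw [b0, p.two]; omega) (by rw [b0, p.two]; omega)
    (g := g⁻¹ * k * g) (ih (X ⊔ F ∙ x₁) (SetLike.lt_iff_le_and_exists.2 ⟨le_sup_left, x₁,
      Submodule.mem_sup_right (Submodule.mem_span_singleton_self _), a2⟩) _
      (mul_mem (mul_mem (inv_mem hg) b1) hg) u0 hu fun x hx => by
        obtain ⟨x, hx', _, hz, rfl⟩ := Submodule.mem_sup.1 hx
        obtain ⟨e, rfl⟩ := Submodule.mem_span_singleton.1 hz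
        exact g.symm_apply_eq.2 (by simp [b2, h1 x hx', a5, a6])) fun v => by simp [b2]
  have a9 : ∀ x, ∃ x', g (t x y) = t x' w := fun x => by
    obtain ⟨v, hv⟩ := a8 x
    exact ⟨_, by rw [← hv]; exact g.apply_symm_apply _⟩
  refine block (p := p) hM hH hN hg a7 ?_ a9
  obtain ⟨a', c1⟩ := a9 a
  obtain ⟨b', c2⟩ := a9 b
  simpa [c1, c2, p.B, hw, hf.one] using ((hH hg).1 (t a y) (t b y)).symm

omit hM hH hN in
theorem isMaximalIn : IsMaximalIn Φ.E (Tg F t ⊓ Φ.E) := by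
  have := p.hw.fd
  have := p.hs.fd
  have := p.five
  obtain ⟨u, -, u0, hu, -⟩ := exists_sing_of_herm (Φ := h) p.hw.ne p.hw.ε (T := ⊤) (by simp; omega)
  refine isMaximalIn_of inf_le_right ?_ fun H h1 h3 g hg hg' => by_contra fun h4 =>
    hg' ⟨mem_Tg (p := p) h1 (h3.trans E_le_O) h4 ⊥ g hg u0 hu (by simp), h3 hg⟩
  obtain ⟨u', hu'⟩ := exists_hyp p.hw.nd (p.hw.sing hu) u0
  obtain ⟨a, b, hf, -⟩ := p.hyp
  obtain ⟨s, s0, hs⟩ := p.hs.exists_tz
  have a0 : Φ.B (t a u) (t a u) = 0 := by simp [p.B, hu]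
  obtain ⟨T, a1, a2, a3⟩ := p.hs.nd.exists_qrefl p.hs.kap (d := t a u) (c := s)
    (by simp [p.hs.ε, hs, a0])
  refine ⟨T, p.hs.mem_E.2 ⟨a1, by simp [a2, a0]⟩, fun ⟨⟨α, β, b2⟩, _⟩ => ?_⟩
  have b3 := congrArg (p.cv u') (b2 a u')
  have b4 := congrArg (p.cv u') (b2 b u')
  simp [a3, p.B, hf.left.1, hu'.right.1, hf.left_ne] at b3
  simp [a3, p.B, hf.one, hu'.one, hu'.right.1, hu'.B_symm, p.hw.ε, s0, hf.left_ne,
    (smul_eq_zero.1 b3.symm).resolve_right (α.map_ne_zero_iff.2 hf.left_ne)] at b4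

end Ub

theorem isMaximalIn_su_tensor (hF : Fintype.card F = q ^ 2) (hq : 3 ≤ q) {n k : ℕ} (h5 : 5 ≤ k)
    {e : Fin n ≃ Fin 2 × Fin k} {P : GL (Fin n) F} {f₁ f₂} (hf₁ : IsUnitaryFormPow q f₁)
    (hf₂ : IsUnitaryFormPow q f₂)
    (hT : IsTensorFormStructure (fun x : F => x ^ q) (hermForm n F q) f₁ f₂ e P) :
    IsMaximalIn (GU n F q ⊓ specialLinear (Fin n) F)
      (tensorProductSubgroup 2 k e P ⊓ (GU n F q ⊓ specialLinear (Fin n) F)) := by
  have hn : 4 ≤ n := by have := Fintype.card_congr e; simp at this; omega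
  have hs := hs_hu hF hn
  obtain ⟨c, a1, a2⟩ := As.tensor_pure (σ := conj hF) hT
  obtain ⟨f, b1, b2, b3⟩ := exists_form_pow hF hf₁
  obtain ⟨h, c1, c2, c3⟩ := exists_form_pow hF hf₂
  rw [← As.eq_fog_of_herm hs.inv hf₁.add_left hf₁.smul_left hf₁.herm,
    ← As.eq_fog_of_herm hs.inv hf₂.add_left hf₂.smul_left hf₂.herm] at a2
  have a3 : conj hF c = c := by
    obtain ⟨x, -, hx⟩ := exists_herm_self_eq_one hs.ne f b2 b1.disjoint_top (by simp)
    have : Nonempty (Fin k) := ⟨⟨0, by omega⟩⟩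
    obtain ⟨y, -, hy⟩ := exists_herm_self_eq_one hs.ne h c2 c1.disjoint_top (by simp)
    have e1 := a2 x y x y
    rw [b3, c3, hx, hy, mul_one, mul_one] at e1
    rw [← e1]; exact (hs.sy _ _).symm
  have h3 := fun g => mem_SU_iff_E (g := g) hF hn
  exact isMaximalIn_of_iff (glE _ F) (Ub.isMaximalIn (p := ⟨isTensorProduct_tP e P, hs,
    ⟨hs.toHF, c2, c1, by simp; omega⟩, Sf.scale_nondeg a1 b1, by simp [Sf.scale, b2, a3, a1],
    by simp, hq, by simpa, fun x w y w' => (a2 y w' x w).trans (by rw [b3, c3]; rfl)⟩)) h3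
    fun g => and_congr (mem_tensorProductSubgroup_iff_Tg two_pos) (h3 g)

end H23.Uf
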