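import Cfsg.Agent.H23.Ud1
import Cfsg.Agent.H23.Sx3

/-! Hermitian forms over extension fields of odd degree: roots of polynomial systems. -/

set_option autoImplicit false

namespace H23.Uf

open Module H22 Cfsg Cfsg.Geo Form Finset

theorem cw_sub {K F ι : Type*} [Field K] [Finite K] [Field F] [Algebra K F] [Fintype ι]
    (P : MvPolynomial ι F) (hd : P.totalDegree < Fintype.card ι)
    (h0 : MvPolynomial.eval (fun _ => 0) P = 0)
    (hK : ∀ x : ι → K, ∃ c, MvPolynomial.eval (fun i => algebraMap K F (x i)) P = algebraMap K F c) :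
    ∃ x : ι → K, x ≠ 0 ∧ MvPolynomial.eval (fun i => algebraMap K F (x i)) P = 0 := by
  classical
  have := Fintype.ofFinite K
  obtain ⟨p, hp⟩ := CharP.exists K
  obtain ⟨l, hl⟩ := exists_dual_one (F := K) (one_ne_zero (α := F))
  let P₀ : MvPolynomial ι K := ∑ d ∈ P.support, MvPolynomial.monomial d (l (P.coeff d))
  have h1 : ∀ x, MvPolynomial.eval x P₀ =
      l (MvPolynomial.eval (fun i => algebraMap K F (x i)) P) := fun x => by
    rw [MvPolynomial.eval_eq' _ P, map_sum, map_sum]
    refine sum_congr rfl fun d _ => ?_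
    simp_rw [← map_pow]
    rw [← map_prod, mul_comm, ← Algebra.smul_def, map_smul, MvPolynomial.eval_monomial,
      Finsupp.prod_fintype _ _ (by simp), smul_eq_mul, mul_comm]
  have h2 := char_dvd_card_solutions p (f := P₀) ((MvPolynomial.totalDegree_finsetSum_le
    fun d hd => (MvPolynomial.totalDegree_monomial_le _ _).trans
      (MvPolynomial.le_totalDegree hd)).trans_lt hd)
  by_contra! h4
  have h5 : Fintype.card {x : ι → K // MvPolynomial.eval x P₀ = 0} = 1 :=
    Fintype.card_eq_one_iff.2 ⟨⟨0, by rw [h1]; simp [h0, -MvPolynomial.eval_zero']⟩, fun x => Subtype.ext (by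
      by_contra h6
      obtain ⟨c, hc⟩ := hK x.1
      have := x.2
      rw [h1, hc, Algebra.algebraMap_eq_smul_one, map_smul, hl, smul_eq_mul, mul_one] at this
      exact h4 _ h6 (by simp [hc, this]))⟩
  exact CharP.char_ne_one K p (Nat.dvd_one.1 (by convert h2 using 1; convert h5.symm))

variable {F E : Type*} [Field F] [Field E] [Algebra F E] [FiniteDimensional F E] [Finite E]
  {σ : F →+* F} {τ : E →+* E}

/-- compatible involutions -/
structure IV (σ : F →+* F) (τ : E →+* E) : Prop where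
  ne : σ ≠ RingHom.id F
  inv : ∀ a, σ (σ a) = a
  inv' : ∀ a, τ (τ a) = a
  alg : ∀ c, τ (algebraMap F E c) = algebraMap F E (σ c)

namespace IV

variable (h : IV σ τ)
include h

omit [FiniteDimensional F E] [Finite E] in
theorem ne' : τ ≠ RingHom.id E := fun e => h.ne (RingHom.ext fun c =>
  (algebraMap F E).injective (by rw [← h.alg, e]; rfl))

omit [FiniteDimensional F E] [Finite E] in
theorem dec : ∃ t : F, σ t ≠ t ∧ ∀ y : E, ∃ a b, τ a = a ∧ τ b = b ∧ y = a + t • b := by
  obtain ⟨t, ht⟩ := DFunLike.ne_iff.1 h.ne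
  have h0 : algebraMap F E t - algebraMap F E (σ t) ≠ 0 := by
    rw [← map_sub, map_ne_zero, sub_ne_zero]; exact Ne.symm ht
  have h1 : algebraMap F E (σ t) - algebraMap F E t ≠ 0 := fun e => h0 (by linear_combination -e)
  refine ⟨t, ht, fun y => ⟨y - t • ((y - τ y) / (algebraMap F E t - algebraMap F E (σ t))),
    (y - τ y) / (algebraMap F E t - algebraMap F E (σ t)), ?_, ?_, by simp⟩⟩ <;>
    simp [Algebra.smul_def, h.alg, h.inv, h.inv'] <;> field_simp <;> ring

omit [FiniteDimensional F E] in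
theorem comm (s : Gal(E/F)) (x : E) : s (τ x) = τ (s x) := by
  have := Fintype.ofFinite E
  obtain ⟨Q, -, hQ⟩ := exists_card_eq_sq_of_invol h.ne' h.inv'
  simp [hQ]

omit [FiniteDimensional F E] in
theorem tr (x : E) : Algebra.trace F E (τ x) = σ (Algebra.trace F E x) := tr_map h.inv h.alg x

omit [Finite E] in
theorem indep {a b : Gal(E/F) → E} (e : ∀ y, ∑ s, a s * s y = ∑ s, b s * s (τ y)) (s : Gal(E/F)) :
    a s = 0 := by
  obtain ⟨t, ht, -⟩ := h.dec
  refine gal_indep (fun y => mul_left_cancel₀ (a := algebraMap F E (t - σ t))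
    ((map_ne_zero _).2 (sub_ne_zero.2 ht.symm)) ?_) s
  have := e (algebraMap F E t * y)
  simp only [map_mul, h.alg, AlgEquiv.commutes, mul_left_comm _ (algebraMap F E _),
    ← mul_sum] at this
  rw [map_sub, sub_mul, this, e, mul_zero, sub_self]

/-- the fixed field -/
abbrev K₀ (σ : F →+* F) : Subfield F := σ.eqLocusField (RingHom.id F)

/-- the fixed points as a space over the fixed field -/
def E₀ : Submodule (K₀ σ) E where
  carrier := {y | τ y = y}
  add_mem' ha hb := by simp_all
  zero_mem' := by simp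
  smul_mem' c y hy := by
    change τ (c.1 • y) = c.1 • y
    rw [Algebra.smul_def, map_mul, h.alg, show σ c.1 = c.1 from c.2, show τ y = y from hy]

theorem exists_deg {Z : Submodule F E} (h0 : Z ≠ ⊥) (h1 : finrank F Z < finrank F E) :
    ∃ c, c ≠ 0 ∧ τ c = c ∧ ∃ y ∈ Z, y ≠ 0 ∧ ∀ z ∈ Z, Algebra.trace F E (τ z * (c * y)) = 0 := by
  classical
  have : Finite F := Finite.of_injective _ (algebraMap F E).injective
  obtain ⟨t, ht, hd⟩ := h.dec
  let e := Module.finBasis (K₀ σ) h.E₀
  let b := Module.finBasis F Z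
  have a1 : finrank F E ≤ finrank (K₀ σ) h.E₀ := by
    have : ∀ y : h.E₀, y.1 ∈ Submodule.span F (Set.range fun i => (e i).1) := fun y => by
      rw [← e.sum_repr y, Submodule.coe_sum]
      exact Submodule.sum_mem _ fun i _ => Submodule.smul_mem _ (e.repr y i).1
        (Submodule.subset_span ⟨i, rfl⟩)
    refine (finrank_le_of_span_eq_top (v := fun i => (e i).1) (eq_top_iff.2 fun y _ => ?_)).trans
      (by simp)
    obtain ⟨x, z, c1, c2, rfl⟩ := hd y
    exact add_mem (this ⟨x, c1⟩) (Submodule.smul_mem _ _ (this ⟨z, c2⟩))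
  let A : Matrix _ _ (MvPolynomial (Fin (finrank (K₀ σ) h.E₀)) F) := Matrix.of fun i j =>
    ∑ l, MvPolynomial.C (Algebra.trace F E (τ (b i) * ((e l).1 * b j))) * MvPolynomial.X l
  let c : (_ → K₀ σ) → E := fun x => (∑ l, x l • e l : h.E₀)
  have a2 : ∀ x, MvPolynomial.eval (fun i => algebraMap (K₀ σ) F (x i)) A.det =
      (Matrix.of fun i j => Algebra.trace F E (τ (b i) * (c x * b j))).det := fun x => by
    rw [RingHom.map_det]
    congr 1
    ext i j
    simp only [A, c, RingHom.mapMatrix_apply, Matrix.map_apply, Matrix.of_apply, map_sum, map_mul,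
      MvPolynomial.eval_C, MvPolynomial.eval_X, Submodule.coe_sum, sum_mul, mul_sum]
    refine sum_congr rfl fun l _ => ?_
    change _ = Algebra.trace F E (_ * (((x l).1 • (e l).1) * _))
    rw [smul_mul_assoc, mul_smul_comm, map_smul, smul_eq_mul, mul_comm]; rfl
  have a3 : ∀ x, τ (c x) = c x := fun x => (∑ l, x l • e l : h.E₀).2
  have : Nonempty (Fin (finrank F Z)) := ⟨⟨0, Submodule.one_le_finrank_iff.2 h0⟩⟩
  have a4 : A.det.totalDegree ≤ finrank F Z := by
    have : ∀ i j, (A i j).totalDegree ≤ 1 := fun i j => by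
      simp only [A, Matrix.of_apply]
      exact MvPolynomial.totalDegree_finsetSum_le
        fun l _ => (MvPolynomial.totalDegree_mul _ _).trans (by simp)
    clear_value A
    rw [Matrix.det_apply]
    refine MvPolynomial.totalDegree_finsetSum_le fun s _ => (MvPolynomial.totalDegree_smul_le _
      _).trans ((MvPolynomial.totalDegree_finsetProd _ _).trans ?_)
    simpa using sum_le_card_nsmul univ (fun i => (A (s i) i).totalDegree) 1 fun i _ => this _ _
  have a5 : ∀ x, σ (Matrix.of fun i j => Algebra.trace F E (τ (b i) * (c x * b j))).det =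
      (Matrix.of fun i j => Algebra.trace F E (τ (b i) * (c x * b j))).det := fun x => by
    rw [RingHom.map_det, ← Matrix.det_transpose]
    congr 1
    ext i j
    simp only [Matrix.transpose_apply, RingHom.mapMatrix_apply, Matrix.map_apply, Matrix.of_apply,
      ← h.tr, map_mul, a3, h.inv']
    ring_nf
  obtain ⟨x, x0, hx⟩ := cw_sub (K := K₀ σ) A.det
    ((a4.trans_lt (h1.trans_le a1)).trans_eq (Fintype.card_fin _).symm)
    (by
      have := a2 0
      simp only [Pi.zero_apply, map_zero] at this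
      rw [this, show c 0 = 0 by simp [c]]
      exact Matrix.det_eq_zero_of_row_eq_zero (Classical.arbitrary _) (by simp))
    fun x => ⟨⟨_, a5 x⟩, a2 x⟩
  rw [a2] at hx
  obtain ⟨v, v0, hv⟩ := Matrix.exists_mulVec_eq_zero_iff.2 hx
  refine ⟨c x, fun e' => x0 (funext (Fintype.linearIndependent_iff.1 e.linearIndependent x
    (Subtype.ext e'))), a3 x, (∑ j, v j • b j : Z), Subtype.property _, fun e' => v0 (funext
      (Fintype.linearIndependent_iff.1 b.linearIndependent v (Subtype.ext e'))), fun z hz => ?_⟩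
  rw [show z = (∑ i, b.repr ⟨z, hz⟩ i • b i : Z) by rw [b.sum_repr], Submodule.coe_sum, map_sum,
    sum_mul, map_sum]
  refine sum_eq_zero fun i _ => ?_
  rw [Submodule.coe_smul, Algebra.smul_def, map_mul τ, h.alg, mul_assoc, ← Algebra.smul_def,
    map_smul]
  convert smul_zero (A := F) (σ (b.repr ⟨z, hz⟩ i))
  simpa [Matrix.mulVec, dotProduct, mul_sum, mul_comm (v _)] using congrFun hv i

theorem exists_iso (β : E →+ E →+ E) (h1 : ∀ (c : F) x y, β (c • x) y = σ c • β x y)
    (h2 : ∀ (c : F) x y, β x (c • y) = c • β x y) (h3 : ∀ x, τ (β x x) = β x x)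
    (h4 : ∀ x, Algebra.trace F E (β x x) = 0) : ∃ x, x ≠ 0 ∧ β x x = 0 := by
  have : Finite F := Finite.of_injective _ (algebraMap F E).injective
  obtain ⟨t, ht, hd⟩ := h.dec
  let Y := h.E₀ ⊓ LinearMap.ker ((Algebra.trace F E).restrictScalars (K₀ σ))
  have a1 : Y < h.E₀ := lt_of_le_of_ne inf_le_left fun e => by
    obtain ⟨d, hd'⟩ := Algebra.trace_surjective F E 1
    obtain ⟨x, z, c1, c2, rfl⟩ := hd d
    have c3 : Algebra.trace F E x = 0 := (e.ge c1).2
    have c4 : Algebra.trace F E z = 0 := (e.ge c2).2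
    simp [c3, c4] at hd'
  have a2 := Submodule.finrank_lt_finrank_of_lt a1
  have a3 := LinearMap.finrank_le_finrank_of_injective (f := h.E₀.subtype.coprod
    ((LinearMap.lsmul F E t).restrictScalars (K₀ σ) ∘ₗ h.E₀.subtype))
    ((injective_iff_map_eq_zero _).2 fun ⟨x, y⟩ e => by
      replace e : x.1 + t • y.1 = 0 := e
      have e' := congrArg τ e
      rw [Algebra.smul_def] at e
      rw [Algebra.smul_def, map_add, map_mul, h.alg, show τ x = x from x.2, show τ y = y from y.2,
        map_zero] at e'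
      have : y.1 = 0 := mul_left_cancel₀ (a := algebraMap F E (t - σ t))
        ((map_ne_zero _).2 (sub_ne_zero.2 ht.symm)) (by rw [map_sub]; linear_combination e - e')
      exact Prod.ext (Subtype.ext (by simpa [this] using e)) (Subtype.ext this))
  obtain ⟨p, hp⟩ := Y.subtype.exists_leftInverse_of_injective Y.ker_subtype
  obtain ⟨x, x0, hx⟩ := exists_quad_root (F := K₀ σ) 0 ((LinearMap.mk₂ (K₀ σ) (β · ·) (by simp)
    (fun c x y => (h1 c.1 x y).trans (by rw [show σ c.1 = c.1 from c.2]; rfl)) (by simp)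
    fun c x y => h2 c.1 x y).compr₂ p) (by simp at a3; omega)
  have := LinearMap.congr_fun hp ⟨β x x, h3 x, h4 x⟩
  exact ⟨x, x0, congrArg Subtype.val (this.symm.trans (by simpa using hx))⟩

theorem exists_norm [Fintype F] {q : ℕ} (hF : Fintype.card F = q ^ 2) (hq : HF σ q)
    (h5 : 5 ≤ finrank F E) : ∃ a : E, a ≠ 0 ∧ Algebra.norm F (a * (τ a)⁻¹) = 1 ∧
      ∀ c, a * (τ a)⁻¹ ≠ algebraMap F E c := by
  classical
  have := Fintype.ofFinite E
  obtain ⟨Q, hQ, hτ⟩ := exists_card_eq_sq_of_invol h.ne' h.inv'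
  have hE : HF τ Q := by convert hf_conj hQ; exact RingHom.ext hτ
  have a1 : q ^ 5 ≤ Q := by
    rw [Module.card_eq_pow_finrank (K := F), hF, ← pow_mul, mul_comm, pow_mul] at hQ
    rw [← Nat.pow_left_injective two_ne_zero hQ]
    exact Nat.pow_le_pow_right (by have := hq.two_le; omega) h5
  obtain ⟨v, -, hv⟩ := exists_lt_card_fiber_of_mul_lt_card_of_maps_to (s := {x : E | τ x * x = 1})
    (t := univ) (f := Algebra.norm F) (n := q + 1) (by simp) (by
      rw [hE.cardU', card_univ, hF]
      have := hq.two_le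
      have : q ^ 2 * (q + 1) ≤ q ^ 2 * (q * (q * q)) := Nat.mul_le_mul_left _ (by nlinarith)
      rw [show q ^ 2 * (q * (q * q)) = q ^ 5 by ring] at this
      omega)
  obtain ⟨y, hy⟩ := card_pos.1 (Nat.zero_lt_of_lt hv)
  obtain ⟨z, hz, hz'⟩ := exists_mem_notMem_of_card_lt_card (s := ({x : F | σ x * x = 1} :
    Finset F).image fun c => algebraMap F E c * y) (card_image_le.trans_lt (hq.cardU' ▸ hv))
  simp only [mem_filter, mem_univ, true_and, mem_image, not_exists, not_and] at hy hz hz'
  have y0 : y ≠ 0 := by rintro rfl; simp at hy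
  obtain ⟨a, a0, ha⟩ := hE.hilbert (x := z / y) (by
    rw [map_div₀, div_mul_div_comm, hy.1, hz.1, div_one])
  rw [map_inv₀, mul_comm] at ha
  refine ⟨a, a0, ?_, fun c hc => hz' c ?_ (by rw [← hc, ha, div_mul_cancel₀ _ y0])⟩
  · refine mul_right_cancel₀ ((Algebra.norm_ne_zero_iff (R := F)).2 y0) ?_
    rw [← map_mul, ha, div_mul_cancel₀ _ y0, hy.2, hz.2, one_mul]
  · refine (algebraMap F E).injective ?_
    rw [map_mul, ← h.alg, ← hc, ha, map_div₀, div_mul_div_comm, hy.1, hz.1, div_one, map_one]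

end IV

end H23.Uf
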